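import Mathlib.AlgebraicGeometry.Morphisms.Smooth
import Mathlib.AlgebraicGeometry.AffineSpace
import Groth.Agent.S2768
import Groth.Agent.FibDim.Comp
import Groth.Agent.AlgSpDec.FibreDimEtale

/-!
# Affine space has fibres of constant dimension
-/

set_option autoImplicit false
set_option backward.isDefEq.respectTransparency false
set_option backward.isDefEq.respectTransparency.types false
universe u

open AlgebraicGeometry CategoryTheory CategoryTheory.Limits

namespace Groth.Agent.FlatFibres

theorem isStandardSmoothOfRelativeDimension_mvPolynomial (R : Type u) [CommRing R] (ι : Type u) [Finite ι] :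
    Algebra.IsStandardSmoothOfRelativeDimension (Nat.card ι) R (MvPolynomial ι R) := by
  let P : Algebra.Presentation R (MvPolynomial ι R) ι PEmpty.{1} :=
    { toGenerators := Algebra.Generators.mvPolynomial R ι
      relation := PEmpty.elim
      span_range_relation_eq_ker := by
        rw [Set.range_eq_empty, Ideal.span_empty, eq_comm, Algebra.Generators.ker_eq_ker_aeval_val,
          Algebra.Generators.mvPolynomial_val, ← RingHom.injective_iff_ker_eq_bot]
        intro a b h
        simpa using h }
  let Q : Algebra.PreSubmersivePresentation R (MvPolynomial ι R) ι PEmpty.{1} :=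
    { toPresentation := P
      map := PEmpty.elim
      map_inj := fun a => a.elim }
  have hj : IsUnit Q.jacobian := by
    rw [Q.jacobian_eq_jacobiMatrix_det, RingHom.map_det, Matrix.det_isEmpty]
    exact isUnit_one
  let S : Algebra.SubmersivePresentation R (MvPolynomial ι R) ι PEmpty.{1} :=
    { toPreSubmersivePresentation := Q, jacobian_isUnit := hj }
  exact S.isStandardSmoothOfRelativeDimension (by simp [Algebra.Presentation.dimension])

instance smoothOfRelativeDimension_affineSpace (n : ℕ) (S : Scheme.{u}) :
    SmoothOfRelativeDimension n (𝔸(ULift.{u} (Fin n); S) ↘ S) := by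
  wlog hS : ∃ R, S = Spec R generalizing S
  · refine (IsZariskiLocalAtTarget.iff_of_openCover (P := @SmoothOfRelativeDimension.{u} n) S.affineCover).2 fun i => ?_
    have h0 := this (S.affineCover.X i) ⟨_, rfl⟩
    rw [Scheme.Cover.pullbackHom]
    rw [← MorphismProperty.cancel_left_of_respectsIso (P := @SmoothOfRelativeDimension.{u} n)
      (AffineSpace.isPullback_map (n := ULift.{u} (Fin n)) (S.affineCover.f i)).isoPullback.hom]
    rwa [(AffineSpace.isPullback_map (n := ULift.{u} (Fin n)) (S.affineCover.f i)).isoPullback_hom_snd]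
  obtain ⟨R, rfl⟩ := hS
  rw [← MorphismProperty.cancel_left_of_respectsIso (P := @SmoothOfRelativeDimension.{u} n)
    (AffineSpace.SpecIso (ULift.{u} (Fin n)) R).inv, AffineSpace.SpecIso_inv_over]
  refine (HasRingHomProperty.Spec_iff (P := @SmoothOfRelativeDimension.{u} n)).2
    (RingHom.locally_of RingHom.isStandardSmoothOfRelativeDimension_respectsIso _ ?_)
  have h := isStandardSmoothOfRelativeDimension_mvPolynomial R (ULift.{u} (Fin n))
  rw [Nat.card_ulift, Nat.card_fin] at h
  exact (RingHom.isStandardSmoothOfRelativeDimension_algebraMap n).2 h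

theorem fibreDimAt_affineSpace (n : ℕ) {S : Scheme.{u}} (p : 𝔸(ULift.{u} (Fin n); S)) :
    FlatMor.fibreDimAt (𝔸(ULift.{u} (Fin n); S) ↘ S) p = (n : WithBot ℕ∞) :=
  S2768.result n _ p

theorem fibreDimAt_of_flat_lqf {U S : Scheme.{u}} {n : ℕ} (g : U ⟶ 𝔸(ULift.{u} (Fin n); S))
    [LocallyOfFiniteType g] [LocallyQuasiFinite g] (x : U) (h : (g.stalkMap x).hom.Flat) :
    FlatMor.fibreDimAt (g ≫ (𝔸(ULift.{u} (Fin n); S) ↘ S)) x = (n : WithBot ℕ∞) := by
  rw [FibDim.fibreDimAt_comp_of_flat g _ x h, AlgSpDec.fibreDimAt_eq_zero_of_lqf g x,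
    fibreDimAt_affineSpace, zero_add]

end Groth.Agent.FlatFibres
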