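import Mathlib
import Groth.Agent.AdicSmooth.SmallExt
import Groth.Agent.AdicFS4.Ess
import Groth.Agent.AdicFS4.Local

/-!
# Smoothness of algebras of finite type over Noetherian rings via small extensions at closed points
-/

set_option autoImplicit false
universe u

open IsLocalRing

namespace Groth.Agent.FlatFibres

theorem finiteType_of_isArtinian {R A : Type u} [CommRing R] [CommRing A] [IsLocalRing A] [IsArtinianRing A]
    [Algebra R A] {S : Type u} [CommRing S] [Algebra R S] [Algebra.FiniteType R S]
    (g : S →ₐ[R] ResidueField A) (hg : Function.Surjective g) : Algebra.FiniteType R A := by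
  classical
  obtain ⟨s, hs⟩ := (‹Algebra.FiniteType R S›).out
  obtain ⟨G, hG⟩ := IsNoetherian.noetherian (maximalIdeal A)
  choose l hl using fun x : S => residue_surjective (g x)
  let T : Subalgebra R A := Algebra.adjoin R (↑(s.image l) ∪ (G : Set A))
  have hTfg : T.FG := Subalgebra.fg_def.mpr ⟨_, (Finset.finite_toSet _).union G.finite_toSet, rfl⟩
  have hres : ∀ x : A, ∃ t ∈ T, x - t ∈ maximalIdeal A := by
    intro x
    obtain ⟨y, hy⟩ := hg (residue A x)
    have hy' : y ∈ Algebra.adjoin R (s : Set S) := hs ▸ trivial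
    have key : ∃ t ∈ T, residue A t = g y := by
      clear hy
      induction hy' using Algebra.adjoin_induction with
      | mem z hz =>
        exact ⟨l z, Algebra.subset_adjoin (Or.inl (by simpa using ⟨z, hz, rfl⟩)), hl z⟩
      | algebraMap r => exact ⟨algebraMap R A r, T.algebraMap_mem r, by rw [g.commutes]; rfl⟩
      | add z w _ _ hz hw =>
        obtain ⟨t, ht, e⟩ := hz; obtain ⟨t', ht', e'⟩ := hw
        exact ⟨t + t', add_mem ht ht', by rw [map_add, map_add, e, e']⟩
      | mul z w _ _ hz hw =>
        obtain ⟨t, ht, e⟩ := hz; obtain ⟨t', ht', e'⟩ := hw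
        exact ⟨t * t', mul_mem ht ht', by rw [map_mul, map_mul, e, e']⟩
    obtain ⟨t, ht, e⟩ := key
    exact ⟨t, ht, (residue_eq_zero_iff _).mp (by rw [map_sub, e, hy, sub_self])⟩
  have step : ∀ i : ℕ, ∀ y ∈ maximalIdeal A ^ i, ∃ t ∈ T, y - t ∈ maximalIdeal A ^ (i + 1) := by
    intro i
    induction i with
    | zero =>
      intro y _
      obtain ⟨t, ht, h⟩ := hres y
      exact ⟨t, ht, by simpa using h⟩
    | succ i ih =>
      intro y hy
      rw [pow_succ'] at hy
      induction hy using Submodule.mul_induction_on' with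
      | mem_mul_mem a ha b hb =>
        rw [← hG] at ha
        induction ha using Submodule.span_induction generalizing b with
        | mem c hc =>
          obtain ⟨t, ht, h⟩ := ih b hb
          refine ⟨c * t, mul_mem (Algebra.subset_adjoin (Or.inr hc)) ht, ?_⟩
          rw [pow_succ', ← mul_sub]
          exact Ideal.mul_mem_mul (hG.le (Ideal.subset_span hc)) h
        | zero => exact ⟨0, zero_mem _, by simp⟩
        | add a a' _ _ h h' =>
          obtain ⟨t, ht, e⟩ := h b hb; obtain ⟨t', ht', e'⟩ := h' b hb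
          exact ⟨t + t', add_mem ht ht', by rw [add_mul, add_sub_add_comm]; exact add_mem e e'⟩
        | smul r a _ h =>
          obtain ⟨t, ht, e⟩ := h (r * b) (Ideal.mul_mem_left _ _ hb)
          exact ⟨t, ht, by rwa [smul_eq_mul, mul_comm r a, mul_assoc]⟩
      | add a _ a' _ h h' =>
        obtain ⟨t, ht, e⟩ := h; obtain ⟨t', ht', e'⟩ := h'
        exact ⟨t + t', add_mem ht ht', by rw [add_sub_add_comm]; exact add_mem e e'⟩
  have all : ∀ i : ℕ, ∀ x : A, ∃ t ∈ T, x - t ∈ maximalIdeal A ^ i := by
    intro i x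
    induction i with
    | zero => exact ⟨0, zero_mem _, by simp⟩
    | succ i ih =>
      obtain ⟨t, ht, h⟩ := ih
      obtain ⟨t', ht', h'⟩ := step i _ h
      exact ⟨t + t', add_mem ht ht', by rwa [← sub_sub]⟩
  obtain ⟨N, hN⟩ : IsNilpotent (maximalIdeal A) := by
    have := IsArtinianRing.isNilpotent_jacobson_bot (R := A)
    rwa [IsLocalRing.jacobson_eq_maximalIdeal _ bot_ne_top] at this
  have hT : T = ⊤ := eq_top_iff.mpr fun x _ => by
    obtain ⟨t, ht, h⟩ := all N x
    rw [hN, Ideal.zero_eq_bot, Submodule.mem_bot, sub_eq_zero] at h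
    exact h ▸ ht
  exact ⟨hT ▸ hTfg⟩

theorem exists_generator_of_length_one {A : Type u} [CommRing A] [IsLocalRing A] (J : Ideal A)
    (hlen : Module.length A J = 1) :
    ∃ ε : A, J = Ideal.span {ε} ∧ ∀ x ∈ maximalIdeal A, ε * x = 0 := by
  haveI : IsSimpleModule A J := Module.length_eq_one_iff.mp hlen
  have hatom : IsAtom J := isSimpleModule_iff_isAtom.mp inferInstance
  obtain ⟨ε, hεJ, hε0⟩ := Submodule.exists_mem_ne_zero_of_ne_bot hatom.1
  have h1 : Ideal.span {ε} = J :=
    (hatom.le_iff.mp ((Ideal.span_singleton_le_iff_mem J).mpr hεJ)).resolve_left fun e =>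
      hε0 (Ideal.span_singleton_eq_bot.mp e)
  have hfg : J.FG := ⟨{ε}, by rw [Finset.coe_singleton]; exact h1⟩
  have hle : maximalIdeal A * J ≤ J := Ideal.mul_le_right
  have hmJ : maximalIdeal A * J = ⊥ := (hatom.le_iff.mp hle).resolve_right fun e =>
    hatom.1 (Submodule.eq_bot_of_le_smul_of_le_jacobson_bot (maximalIdeal A) J hfg e.ge (maximalIdeal_le_jacobson _))
  refine ⟨ε, h1.symm, fun x hx => ?_⟩
  have h2 : x * ε ∈ maximalIdeal A * J := Ideal.mul_mem_mul hx hεJ
  rw [hmJ] at h2
  rw [mul_comm]
  exact h2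

/-- Smoothness from lifting along small extensions of finite type over the base. -/
theorem smooth_of_smallExt {R S : Type u} [CommRing R] [IsNoetherianRing R] [CommRing S] [Algebra R S]
    [Algebra.FiniteType R S]
    (h : ∀ (B B' : Type u) [CommRing B] [CommRing B'] [IsArtinianRing B] [IsArtinianRing B'] [IsLocalRing B]
      [IsLocalRing B'] [Algebra R B] [Algebra R B'] [Algebra.FiniteType R B'] (φ : B' →ₐ[R] B) (ε : B'),
      Function.Surjective φ → RingHom.ker φ.toRingHom = Ideal.span {ε} → (∀ m ∈ maximalIdeal B', ε * m = 0) →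
      ∀ g : S →ₐ[R] B, ∃ g' : S →ₐ[R] B', φ.comp g' = g) :
    Algebra.Smooth R S := by
  haveI : Algebra.FinitePresentation R S := Algebra.FinitePresentation.of_finiteType.mp inferInstance
  suffices H : ∀ m : PrimeSpectrum S, m.asIdeal.IsMaximal → m ∈ Algebra.smoothLocus R S by
    refine ⟨Algebra.smoothLocus_eq_univ_iff.mp (Set.eq_univ_of_forall fun p => ?_), inferInstance⟩
    obtain ⟨M, hM, hpM⟩ := Ideal.exists_le_maximal p.asIdeal p.isPrime.ne_top
    have hspec : p ⤳ (⟨M, hM.isPrime⟩ : PrimeSpectrum S) := (PrimeSpectrum.le_iff_specializes _ _).mp hpM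
    exact hspec.mem_open Algebra.isOpen_smoothLocus (H _ hM)
  intro m hm
  let p := m.asIdeal.under R
  let Rp := Localization.AtPrime p
  let Sm := Localization.AtPrime m.asIdeal
  letI : Algebra Rp Sm := Localization.AtPrime.algebraOfLiesOver p m.asIdeal
  haveI : IsLocalHom (algebraMap Rp Sm) :=
    Localization.isLocalHom_localRingHom p m.asIdeal (algebraMap R S) rfl
  haveI : IsNoetherianRing S := Algebra.FiniteType.isNoetherianRing R S
  haveI : Algebra.EssFiniteType R Sm := Algebra.EssFiniteType.comp R S Sm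
  have hSL : AdicSmooth.SmallLift Rp Sm := by
    intro A _ _ _ _ _ J hJ2 hlen _ ψ _ hψ
    letI : Algebra R A := ((algebraMap Rp A).comp (algebraMap R Rp)).toAlgebra
    haveI : IsScalarTower R Rp A := .of_algebraMap_eq' rfl
    obtain ⟨ε, hJeq, hann⟩ := exists_generator_of_length_one J hlen
    have hspan : RingHom.ker (Ideal.Quotient.mkₐ R J).toRingHom = Ideal.span {ε} :=
      (Ideal.Quotient.mkₐ_ker R J).trans hJeq
    haveI : IsLocalHom (Ideal.Quotient.mk J) := IsLocalHom.of_surjective _ Ideal.Quotient.mk_surjective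
    let g : S →ₐ[R] A ⧸ J := (ψ.restrictScalars R).comp (IsScalarTower.toAlgHom R S Sm)
    haveI : Algebra.FiniteType R A := by
      let e : ResidueField A ≃+* ResidueField (A ⧸ J) :=
        RingEquiv.ofBijective (ResidueField.map (Ideal.Quotient.mk J))
          (AdicSmooth.residueField_map_bijective_of_surjective _ Ideal.Quotient.mk_surjective)
      let ρ : S →+* ResidueField A :=
        e.symm.toRingHom.comp ((ResidueField.map ψ.toRingHom).comp ((residue Sm).comp (algebraMap S Sm)))
      have hρ : ∀ r, ρ (algebraMap R S r) = algebraMap R (ResidueField A) r := fun r => by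
        apply e.injective
        show e (e.symm (ResidueField.map ψ.toRingHom (residue Sm (algebraMap S Sm (algebraMap R S r))))) =
          e (algebraMap R (ResidueField A) r)
        rw [e.apply_symm_apply, ← IsScalarTower.algebraMap_apply R S Sm,
          IsScalarTower.algebraMap_apply R Rp Sm]
        show residue (A ⧸ J) (ψ (algebraMap Rp Sm (algebraMap R Rp r))) = _
        rw [ψ.commutes]
        rfl
      have hsurj : Function.Surjective ρ := by
        haveI := hm
        intro z
        obtain ⟨y, hy⟩ := hψ.2 (e z)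
        obtain ⟨s, rfl⟩ := Ideal.algebraMap_residueField_surjective m.asIdeal y
        refine ⟨s, e.injective ?_⟩
        show e (e.symm _) = _
        rw [e.apply_symm_apply, ← hy]
        rfl
      exact finiteType_of_isArtinian ({ toRingHom := ρ, commutes' := hρ } : S →ₐ[R] ResidueField A) hsurj
    obtain ⟨g', hg'⟩ := h (A ⧸ J) A (Ideal.Quotient.mkₐ R J) ε Ideal.Quotient.mk_surjective hspan hann g
    have hu : ∀ s : m.asIdeal.primeCompl, IsUnit (g' s) := by
      intro s
      have h1 : IsUnit (Ideal.Quotient.mk J (g' s.1)) := by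
        show IsUnit (Ideal.Quotient.mkₐ R J (g' s.1))
        rw [show Ideal.Quotient.mkₐ R J (g' s.1) = g s.1 from AlgHom.congr_fun hg' s.1]
        exact (IsLocalization.map_units Sm s).map ψ
      exact isUnit_of_map_unit (Ideal.Quotient.mk J) _ h1
    let χ : Sm →+* A := IsLocalization.lift (g := g'.toRingHom) hu
    have hχ : ∀ s, χ (algebraMap S Sm s) = g' s := fun s => IsLocalization.lift_eq hu s
    have hcomm : χ.comp (algebraMap Rp Sm) = algebraMap Rp A :=
      IsLocalization.ringHom_ext p.primeCompl (RingHom.ext fun r => by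
        simp only [RingHom.comp_apply]
        rw [← IsScalarTower.algebraMap_apply R Rp Sm, IsScalarTower.algebraMap_apply R S Sm, hχ,
          g'.commutes]
        rfl)
    refine ⟨{ χ with commutes' := fun a => RingHom.congr_fun hcomm a }, AlgHom.coe_ringHom_injective ?_⟩
    refine IsLocalization.ringHom_ext m.asIdeal.primeCompl (RingHom.ext fun s => ?_)
    show Ideal.Quotient.mk J (χ (algebraMap S Sm s)) = ψ (algebraMap S Sm s)
    rw [hχ]
    exact AlgHom.congr_fun hg' s
  have hadic := AdicSmooth.isAdicFormallySmooth_of_smallLift hSL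
  rw [AdicFS4.isAdicFormallySmooth_base_iff (A := R) p.primeCompl] at hadic
  exact AdicFS4.formallySmooth_of_essFiniteType R Sm hadic

end Groth.Agent.FlatFibres
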