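import Groth.Agent.FlatFibres.AicSection
import Mathlib.RingTheory.IntegralClosure.IsIntegral.Basic
import Mathlib.RingTheory.Localization.Integral
import Mathlib.RingTheory.Polynomial.ScaleRoots
import Mathlib.FieldTheory.IsAlgClosed.Basic
import Mathlib.RingTheory.LocalProperties.Basic

/-!
# The integral closure of a ring in a product of algebraically closed fields
-/

set_option autoImplicit false
universe u

open Polynomial

namespace Groth.Agent.FlatFibres

theorem SplitsAll.of_exists_root {A : Type u} [CommRing A]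
    (h : ∀ f : A[X], f.Monic → f.natDegree ≠ 0 → ∃ a, f.IsRoot a) : SplitsAll A := by
  intro f hf
  nontriviality A
  induction hn : f.natDegree generalizing f with
  | zero => exact ⟨0, by simp [hf.natDegree_eq_zero.1 hn]⟩
  | succ n ih =>
    obtain ⟨a, ha⟩ := h f hf (by omega)
    obtain ⟨g, rfl⟩ := dvd_iff_isRoot.2 ha
    have hg : g.Monic := (monic_X_sub_C a).of_mul_monic_left hf
    rw [(monic_X_sub_C a).natDegree_mul hg, natDegree_X_sub_C] at hn
    obtain ⟨s, hs⟩ := ih g hg (by omega)
    exact ⟨a ::ₘ s, by rw [Multiset.map_cons, Multiset.prod_cons, ← hs]⟩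

theorem exists_root_localization {A L : Type u} [CommRing A] [CommRing L] [Algebra A L] (M : Submonoid A)
    [IsLocalization M L] (hA : ∀ f : A[X], f.Monic → f.natDegree ≠ 0 → ∃ a, f.IsRoot a)
    (P : L[X]) (hP : P.Monic) (hd : P.natDegree ≠ 0) : ∃ x, P.IsRoot x := by
  nontriviality L
  let s := IsLocalization.commonDenom M P.support P.coeff
  have hl : P.scaleRoots (algebraMap A L s) ∈ lifts (algebraMap A L) :=
    IsLocalization.scaleRoots_commonDenom_mem_lifts M P (by rw [hP.leadingCoeff]; exact one_mem _)
  obtain ⟨Q, hQ, -, hQm⟩ := lifts_and_natDegree_eq_and_monic hl ((monic_scaleRoots_iff _).mpr hP)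
  have : Nontrivial A := (algebraMap A L).domain_nontrivial
  obtain ⟨a, ha⟩ := hA Q hQm (by
    rw [← hQm.natDegree_map (algebraMap A L), hQ, natDegree_scaleRoots]; exact hd)
  obtain ⟨t, ht⟩ := (IsLocalization.map_units L s).exists_right_inv
  refine ⟨t * algebraMap A L a, ?_⟩
  have h1 : (P.scaleRoots (algebraMap A L s)).eval (algebraMap A L a) = 0 := by
    rw [← hQ, eval_map, eval₂_at_apply, ha, map_zero]
  have h2 : algebraMap A L a = algebraMap A L s * (t * algebraMap A L a) := by
    rw [← mul_assoc, ht, one_mul]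
  rw [h2, scaleRoots_eval_mul] at h1
  exact ((IsLocalization.map_units L s).pow _).mul_right_eq_zero.1 h1

section Pi

variable (A : Type u) [CommRing A] {ι : Type u} (κ : ι → Type u) [∀ i, Field (κ i)] [∀ i, IsAlgClosed (κ i)]
  [Algebra A (∀ i, κ i)]

theorem exists_root_integralClosure (f : (integralClosure A (∀ i, κ i))[X]) (hf : f.Monic) (hd : f.natDegree ≠ 0) :
    ∃ a, f.IsRoot a := by
  let ev : ∀ i, integralClosure A (∀ i, κ i) →+* κ i := fun i =>
    (Pi.evalRingHom κ i).comp (integralClosure A (∀ i, κ i)).val.toRingHom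
  have hr : ∀ i, ∃ x, (f.map (ev i)).IsRoot x := fun i => by
    refine IsAlgClosed.exists_root _ ?_
    rw [degree_eq_natDegree (hf.map _).ne_zero, hf.natDegree_map]
    exact_mod_cast hd
  choose x hx using hr
  have hfx : f.eval₂ (integralClosure A (∀ i, κ i)).val.toRingHom x = 0 := by
    funext i
    have := hom_eval₂ f (integralClosure A (∀ i, κ i)).val.toRingHom (Pi.evalRingHom κ i) x
    rw [Pi.evalRingHom_apply] at this
    rw [this, Pi.zero_apply, ← eval_map]
    exact hx i
  have hint : IsIntegral A x := isIntegral_trans (R := A) (A := integralClosure A (∀ i, κ i)) x ⟨f, hf, hfx⟩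
  refine ⟨⟨x, hint⟩, Subtype.val_injective ?_⟩
  have := hom_eval₂ f (RingHom.id _) (integralClosure A (∀ i, κ i)).val.toRingHom ⟨x, hint⟩
  rw [RingHom.comp_id] at this
  exact this.trans hfx

theorem isDomain_localization_integralClosure (P : Ideal (integralClosure A (∀ i, κ i))) [P.IsPrime] :
    IsDomain (Localization.AtPrime P) := by
  classical
  have : Nontrivial (Localization.AtPrime P) := inferInstance
  refine @NoZeroDivisors.to_isDomain _ _ this ⟨fun {a b} hab => ?_⟩
  obtain ⟨a, s, rfl⟩ := IsLocalization.exists_mk'_eq P.primeCompl a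
  obtain ⟨b, t, rfl⟩ := IsLocalization.exists_mk'_eq P.primeCompl b
  rw [← IsLocalization.mk'_mul, IsLocalization.mk'_eq_zero_iff] at hab
  obtain ⟨w, hw⟩ := hab
  have hwmem : (w : integralClosure A (∀ i, κ i)) ∉ P := w.2
  -- idempotent of the support of `w * a`
  let c : ∀ i, κ i := fun i => if (w * a : integralClosure A (∀ i, κ i)).1 i = 0 then 0 else 1
  have hc : IsIdempotentElem c := by
    funext i
    show c i * c i = c i
    simp only [c]; split_ifs <;> simp
  have hci : IsIntegral A c :=
    ⟨X * (X - 1), monic_X.mul (monic_X_sub_C 1), by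
      rw [eval₂_mul, eval₂_X, eval₂_sub, eval₂_X, eval₂_one, mul_sub, mul_one, hc.eq, sub_self]⟩
  let e : integralClosure A (∀ i, κ i) := ⟨c, hci⟩
  have h1 : (1 - e) * (w * a) = 0 := by
    apply Subtype.ext; funext i
    show (1 - c i) * (w * a : integralClosure A (∀ i, κ i)).1 i = 0
    simp only [c]; split_ifs with h
    · rw [h, mul_zero]
    · rw [sub_self, zero_mul]
  have h2 : e * b = 0 := by
    apply Subtype.ext; funext i
    show c i * b.1 i = 0
    simp only [c]; split_ifs with h
    · rw [zero_mul]
    · have h3 := congrFun (congrArg Subtype.val hw) i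
      rw [one_mul]
      refine (mul_eq_zero.1 ?_).resolve_left h
      show ((w : integralClosure A (∀ i, κ i)).1 i * a.1 i) * b.1 i = 0
      rw [mul_assoc]
      exact h3
  by_cases he : e ∈ P
  · left
    rw [IsLocalization.mk'_eq_zero_iff]
    refine ⟨⟨(1 - e) * w, ?_⟩, (mul_assoc _ _ _).trans h1⟩
    intro h
    rcases (‹P.IsPrime›).mem_or_mem h with h' | h'
    · exact (‹P.IsPrime›).ne_top ((Ideal.eq_top_iff_one _).2 (by simpa using P.add_mem h' he))
    · exact hwmem h'
  · right
    rw [IsLocalization.mk'_eq_zero_iff]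
    exact ⟨⟨e, he⟩, h2⟩

theorem splitsAll_localization_integralClosure (P : Ideal (integralClosure A (∀ i, κ i))) [P.IsPrime] :
    SplitsAll (Localization.AtPrime P) :=
  SplitsAll.of_exists_root fun f hf hd =>
    exists_root_localization P.primeCompl (exists_root_integralClosure A κ) f hf hd

end Pi

end Groth.Agent.FlatFibres
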