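import Mathlib.AlgebraicGeometry.Normalization
import Mathlib.AlgebraicGeometry.ResidueField
import Mathlib.Algebra.Group.Pi.Units
import Groth.Agent.FlatFibres.AicRing

/-!
# An integral surjective morphism all of whose stalks are absolutely integrally closed domains

Glue, over the affine opens `U` of `S`, the integral closures of `Γ(S, U)` in the product over the points
of `U` of algebraic closures of the residue fields.
-/

set_option autoImplicit false
universe u

open CategoryTheory CategoryTheory.Limits AlgebraicGeometry Opposite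
open AlgebraicGeometry.Scheme AlgebraicGeometry.Scheme.AffineZariskiSite

namespace Groth.Agent.FlatFibres

variable {S : Scheme.{u}}

/-- Evaluation at all points, with values in algebraic closures of the residue fields. -/
noncomputable def geomEval (U : S.Opens) :
    Γ(S, U) →+* ∀ p : (U : Set S), AlgebraicClosure (S.residueField p.1) :=
  Pi.ringHom fun p => (algebraMap (S.residueField p.1) (AlgebraicClosure (S.residueField p.1))).comp
    (S.evaluation U p.1 p.2).hom

theorem geomEval_apply (U : S.Opens) (a : Γ(S, U)) (p : (U : Set S)) :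
    geomEval U a p = algebraMap (S.residueField p.1) (AlgebraicClosure (S.residueField p.1))
      (S.evaluation U p.1 p.2 a) := rfl

theorem geomEval_map {U V : S.Opens} (h : U ≤ V) (a : Γ(S, V)) (p : (U : Set S)) :
    geomEval U (S.presheaf.map (homOfLE h).op a) p = geomEval V a ⟨p.1, h p.2⟩ := by
  rw [geomEval_apply, geomEval_apply]
  congr 1
  show S.residue p.1 (S.presheaf.germ U p.1 p.2 (S.presheaf.map (homOfLE h).op a)) =
    S.residue p.1 (S.presheaf.germ V p.1 (h p.2) a)
  rw [TopCat.Presheaf.germ_res_apply]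

/-- Restriction of families indexed by points. -/
noncomputable def geomRestrict {U V : S.Opens} (h : U ≤ V) :
    (∀ p : (V : Set S), AlgebraicClosure (S.residueField p.1)) →+*
      ∀ p : (U : Set S), AlgebraicClosure (S.residueField p.1) :=
  Pi.ringHom fun p => Pi.evalRingHom _ (⟨p.1, h p.2⟩ : (V : Set S))

theorem geomRestrict_isIntegral {U V : S.Opens} (h : U ≤ V)
    {x : ∀ p : (V : Set S), AlgebraicClosure (S.residueField p.1)} (hx : (geomEval V).IsIntegralElem x) :
    (geomEval U).IsIntegralElem (geomRestrict h x) := by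
  obtain ⟨f, hf, hfx⟩ := hx
  refine ⟨f.map (S.presheaf.map (homOfLE h).op).hom, hf.map _, ?_⟩
  rw [Polynomial.eval₂_map]
  have : (geomEval U).comp (S.presheaf.map (homOfLE h).op).hom = (geomRestrict h).comp (geomEval V) := by
    ext a p
    exact geomEval_map h a p
  rw [this, ← Polynomial.hom_eval₂, hfx, map_zero]

/-- The presheaf of integral closures. -/
noncomputable def aicDiagram (S : Scheme.{u}) : S.Opensᵒᵖ ⥤ CommRingCat.{u} where
  obj U :=
    letI := (geomEval U.unop).toAlgebra
    .of (integralClosure Γ(S, U.unop) (∀ p : (U.unop : Set S), AlgebraicClosure (S.residueField p.1)))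
  map {V U} i := CommRingCat.ofHom ((geomRestrict i.unop.le).restrict _ _ fun x hx => by
    exact geomRestrict_isIntegral i.unop.le hx)
  map_id U := rfl
  map_comp i j := rfl

/-- The structure map. -/
noncomputable def aicMap (S : Scheme.{u}) : S.presheaf ⟶ aicDiagram S where
  app U :=
    letI := (geomEval U.unop).toAlgebra
    CommRingCat.ofHom (algebraMap Γ(S, U.unop)
      (integralClosure Γ(S, U.unop) (∀ p : (U.unop : Set S), AlgebraicClosure (S.residueField p.1))))
  naturality {U V} i := by
    ext x
    refine Subtype.ext (funext fun p => ?_)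
    exact geomEval_map i.unop.le x p

theorem coequifibered_aicMap :
    ((toOpensFunctor S).op.whiskerLeft (aicMap S)).Coequifibered := by
  classical
  refine coequifibered_iff_forall_isLocalizationAway.mpr fun U r ↦ ?_
  let D : S.Opens := S.basicOpen r
  let hDU : D ≤ U.1 := S.basicOpen_le r
  letI : Algebra Γ(S, U.1) (∀ p : (U.1 : Set S), AlgebraicClosure (S.residueField p.1)) := (geomEval U.1).toAlgebra
  letI : Algebra Γ(S, D) (∀ p : (D : Set S), AlgebraicClosure (S.residueField p.1)) := (geomEval D).toAlgebra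
  let P := ∀ p : (U.1 : Set S), AlgebraicClosure (S.residueField p.1)
  let Q := ∀ p : (D : Set S), AlgebraicClosure (S.residueField p.1)
  letI : Algebra P Q := (geomRestrict hDU).toAlgebra
  letI : Algebra (integralClosure Γ(S, U.1) P) (integralClosure Γ(S, D) Q) :=
    ((aicDiagram S).map (homOfLE hDU).op).hom.toAlgebra
  haveI : IsLocalization.Away r Γ(S, D) := U.2.isLocalization_basicOpen _
  haveI : IsLocalization.Away (algebraMap Γ(S, U.1) P r) Q := by
    refine (isLocalization_iff _ Q).2 ⟨fun ⟨y, n, hn⟩ => ?_, fun z => ?_, fun {x y} hxy => ?_⟩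
    · subst hn
      rw [map_pow]
      refine IsUnit.pow _ (Pi.isUnit_iff.2 fun p => isUnit_iff_ne_zero.2 ?_)
      show geomEval U.1 r ⟨p.1, hDU p.2⟩ ≠ 0
      rw [geomEval_apply]
      exact (map_ne_zero _).2 ((Scheme.evaluation_ne_zero_iff_mem_basicOpen _ _ _ r).2 p.2)
    · refine ⟨⟨fun p => if h : p.1 ∈ D then z ⟨p.1, h⟩ else 0, 1⟩, ?_⟩
      rw [OneMemClass.coe_one, map_one, mul_one]
      funext p
      show z p = if h : p.1 ∈ D then z ⟨p.1, h⟩ else 0
      rw [dif_pos (show p.1 ∈ D from p.2)]
    · refine ⟨⟨algebraMap Γ(S, U.1) P r, 1, pow_one _⟩, funext fun p => ?_⟩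
      by_cases h : p.1 ∈ D
      · show geomEval U.1 r p * x p = geomEval U.1 r p * y p
        exact congrArg _ (congrFun hxy ⟨p.1, h⟩)
      · show geomEval U.1 r p * x p = geomEval U.1 r p * y p
        rw [geomEval_apply, (Scheme.evaluation_eq_zero_iff_notMem_basicOpen _ _ _ r).2 h, map_zero, zero_mul,
          zero_mul]
  change IsLocalization.Away (algebraMap Γ(S, U.1) (integralClosure Γ(S, U.1) P) r)
    (integralClosure Γ(S, D) Q)
  letI : Algebra Γ(S, U.1) Q := ((geomRestrict hDU).comp (geomEval U.1)).toAlgebra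
  haveI : IsScalarTower Γ(S, U.1) P Q := .of_algebraMap_eq' rfl
  haveI : IsScalarTower Γ(S, U.1) Γ(S, D) Q := .of_algebraMap_eq' (by
    ext a p
    exact (geomEval_map hDU a p).symm)
  haveI : IsScalarTower (integralClosure Γ(S, U.1) P) (integralClosure Γ(S, D) Q) Q := .of_algebraMap_eq' rfl
  haveI : IsScalarTower Γ(S, U.1) (integralClosure Γ(S, U.1) P) (integralClosure Γ(S, D) Q) :=
    .of_algebraMap_eq' rfl
  exact IsLocalization.Away.integralClosure r

/-- The gluing data. -/
noncomputable def aicGlueData (S : Scheme.{u}) := relativeGluingData (coequifibered_aicMap (S := S))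

instance : ((aicGlueData S).functor ⋙ Scheme.forget).IsLocallyDirected :=
  Cover.RelativeGluingData.instIsLocallyDirectedI₀CompFunctorForgetOfIsThin ..

/-- The cover. -/
noncomputable def aicScheme (S : Scheme.{u}) : Scheme.{u} := (aicGlueData S).glued

/-- The structure morphism. -/
noncomputable def aicHom (S : Scheme.{u}) : aicScheme S ⟶ S := (aicGlueData S).toBase

/-- The open cover by spectra. -/
noncomputable def aicOpenCover (S : Scheme.{u}) : (aicScheme S).OpenCover := (aicGlueData S).cover

@[reassoc]
theorem ι_aicHom (U : S.affineOpens) :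
    (aicOpenCover S).f U ≫ aicHom S = Spec.map ((aicMap S).app (.op U.1)) ≫ U.2.fromSpec :=
  colimit.ι_desc _ _

set_option backward.isDefEq.respectTransparency.types false in
theorem aicHom_preimage (U : S.affineOpens) :
    aicHom S ⁻¹ᵁ U = ((aicOpenCover S).f U).opensRange := by
  simpa using! (aicGlueData S).toBase_preimage_eq_opensRange_ι U

set_option backward.isDefEq.respectTransparency false in
instance isIntegralHom_aicHom : IsIntegralHom (aicHom S) := by
  rw [IsZariskiLocalAtTarget.iff_of_iSup_eq_top (P := @IsIntegralHom) _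
    (iSup_affineOpens_eq_top _)]
  intro U
  let e := IsOpenImmersion.isoOfRangeEq (aicHom S ⁻¹ᵁ U).ι ((aicOpenCover S).f U)
      (by simpa using congr($(aicHom_preimage U).1))
  rw [← MorphismProperty.cancel_left_of_respectsIso @IsIntegralHom e.inv,
    ← MorphismProperty.cancel_right_of_respectsIso @IsIntegralHom _ U.2.isoSpec.hom]
  have : ((aicMap S).app (.op U)).hom.IsIntegral := by
    let := (geomEval U.1).toAlgebra
    change (algebraMap Γ(S, U) (integralClosure Γ(S, U) _)).IsIntegral
    exact algebraMap_isIntegral_iff.mpr inferInstance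
  convert! IsIntegralHom.SpecMap_iff.mpr this
  rw [← cancel_mono U.2.fromSpec]
  simp [IsAffineOpen.isoSpec_hom, e, ι_aicHom]

instance surjective_aicHom : Surjective (aicHom S) := by
  refine ⟨fun s => ?_⟩
  obtain ⟨U, hU, hs, -⟩ := exists_isAffineOpen_mem_and_subset (U := (⊤ : S.Opens)) (x := s) trivial
  letI := (geomEval U).toAlgebra
  let ρ : (∀ p : (U : Set S), AlgebraicClosure (S.residueField p.1)) →+* AlgebraicClosure (S.residueField s) :=
    Pi.evalRingHom (fun p : (U : Set S) => AlgebraicClosure (S.residueField p.1)) ⟨s, hs⟩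
  let π := ρ.comp (integralClosure Γ(S, U) (∀ p : (U : Set S), AlgebraicClosure (S.residueField p.1))).val.toRingHom
  let Q : PrimeSpectrum (integralClosure Γ(S, U) (∀ p : (U : Set S), AlgebraicClosure (S.residueField p.1))) :=
    ⟨RingHom.ker π, RingHom.ker_isPrime _⟩
  let V : S.affineOpens := ⟨U, hU⟩
  refine ⟨(aicOpenCover S).f V Q, ?_⟩
  refine (congrArg (fun m => (m : _ ⟶ S) Q) (ι_aicHom V)).trans ?_
  refine (Scheme.Hom.comp_apply _ _ _).trans ?_
  refine Eq.trans ?_ (hU.fromSpec_primeIdealOf ⟨s, hs⟩)
  refine congrArg _ (PrimeSpectrum.ext (Ideal.ext fun a => ?_))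
  show geomEval U a ⟨s, hs⟩ = 0 ↔ _
  rw [geomEval_apply, map_eq_zero, Scheme.evaluation_eq_zero_iff_notMem_basicOpen]
  have h1 : hU.fromSpec (hU.primeIdealOf ⟨s, hs⟩) ∈ S.basicOpen a ↔
      hU.primeIdealOf ⟨s, hs⟩ ∈ PrimeSpectrum.basicOpen a :=
    SetLike.ext_iff.1 (hU.fromSpec_preimage_basicOpen a) _
  rw [hU.fromSpec_primeIdealOf] at h1
  rw [h1, PrimeSpectrum.mem_basicOpen, not_not]

end Groth.Agent.FlatFibres
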