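import Mathlib.AlgebraicGeometry.SpreadingOut
import Mathlib.AlgebraicGeometry.Morphisms.FinitePresentation
import Mathlib.RingTheory.TensorProduct.Basic
import Groth.Agent.IndEtLib.Localization

/-!
# Spreading out a morphism from a stalk into a scheme locally of finite presentation
-/

set_option autoImplicit false
set_option backward.isDefEq.respectTransparency false
set_option backward.isDefEq.respectTransparency.types false
universe u

open CategoryTheory AlgebraicGeometry TensorProduct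

namespace Groth.Agent.FlatFibres

theorem exists_algHom_away {R C A L : Type u} [CommRing R] [CommRing C] [CommRing A] [CommRing L] [Algebra R C]
    [Algebra R A] [Algebra R L] [Algebra C L] [IsScalarTower R C L] [Algebra.FinitePresentation R A]
    (M : Submonoid C) [IsLocalization M L] (φ : A →ₐ[R] L) :
    ∃ m ∈ M, ∀ (L' : Type u) [CommRing L'] [Algebra C L'] [IsLocalization.Away m L'],
      ∃ χ : A →+* L', ∀ r, χ (algebraMap R A r) = algebraMap C L' (algebraMap R C r) := by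
  let Φ : C ⊗[R] A →ₐ[C] L := Algebra.TensorProduct.lift (Algebra.ofId C L) φ fun _ _ => Commute.all _ _
  obtain ⟨m, ψ, -⟩ := IndEtLib.exists_lift_away M L (C ⊗[R] A) Φ
  refine ⟨m.el, Subtype.prop m, fun L' _ _ _ => ?_⟩
  let e : m.Stage ≃ₐ[C] L' := IsLocalization.algEquiv (Submonoid.powers m.el) _ _
  refine ⟨(e.toAlgHom.comp ψ).toRingHom.comp Algebra.TensorProduct.includeRight.toRingHom, fun r => ?_⟩
  show (e.toAlgHom.comp ψ) ((1 : C) ⊗ₜ[R] algebraMap R A r) = _
  have h1 : (1 : C) ⊗ₜ[R] algebraMap R A r = algebraMap C (C ⊗[R] A) (algebraMap R C r) := by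
    rw [Algebra.TensorProduct.algebraMap_apply, Algebra.algebraMap_eq_smul_one, Algebra.algebraMap_eq_smul_one,
      ← TensorProduct.smul_tmul, ← Algebra.algebraMap_eq_smul_one, smul_eq_mul, mul_one]
  rw [h1, AlgHom.commutes]

theorem exists_nhd_lift {T S' S : Scheme.{u}} (π : T ⟶ S) (g : S' ⟶ S) [LocallyOfFinitePresentation g] (t : T)
    (l : Spec (T.presheaf.stalk t) ⟶ S') (hl : l ≫ g = T.fromSpecStalk t ≫ π) :
    ∃ (V : T.Opens) (r : (V : Scheme.{u}) ⟶ S'), t ∈ V ∧ r ≫ g = V.ι ≫ π := by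
  let y := l (IsLocalRing.closedPoint (T.presheaf.stalk t))
  have hgy : g y = π t := by
    rw [← Scheme.Hom.comp_apply, hl, Scheme.Hom.comp_apply, Scheme.fromSpecStalk_closedPoint]
  obtain ⟨U, hU, htU, -⟩ := exists_isAffineOpen_mem_and_subset (U := (⊤ : S.Opens)) (x := π t) trivial
  obtain ⟨V', hV', hyV, hVU⟩ := exists_isAffineOpen_mem_and_subset (U := g ⁻¹ᵁ U) (x := y)
    (show g y ∈ U from hgy ▸ htU)
  obtain ⟨W, hW, htW, hWU⟩ := exists_isAffineOpen_mem_and_subset (U := π ⁻¹ᵁ U) (x := t) htU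
  replace hWU : W ≤ π ⁻¹ᵁ U := hWU
  replace hVU : V' ≤ g ⁻¹ᵁ U := hVU
  let φ : Γ(S', V') ⟶ T.presheaf.stalk t := S'.presheaf.germ V' y hyV ≫ Scheme.stalkClosedPointTo l
  have hφ : g.appLE U V' hVU ≫ φ = π.appLE U W hWU ≫ T.presheaf.germ W t htW := by
    apply Spec.map_injective
    rw [← cancel_mono hU.fromSpec]
    simp only [φ, Spec.map_comp, Category.assoc]
    rw [IsAffineOpen.SpecMap_appLE_fromSpec g hU hV' hVU, IsAffineOpen.SpecMap_appLE_fromSpec π hU hW hWU,
      ← Category.assoc (Spec.map (S'.presheaf.germ V' y hyV)),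
      show Spec.map (S'.presheaf.germ V' y hyV) ≫ hV'.fromSpec = hV'.fromSpecStalk hyV from rfl,
      IsAffineOpen.fromSpecStalk_eq_fromSpecStalk, Scheme.Spec_stalkClosedPointTo_fromSpecStalk_assoc, hl,
      ← Category.assoc (Spec.map (T.presheaf.germ W t htW)),
      show Spec.map (T.presheaf.germ W t htW) ≫ hW.fromSpec = hW.fromSpecStalk htW from rfl,
      IsAffineOpen.fromSpecStalk_eq_fromSpecStalk]
  letI : Algebra Γ(S, U) Γ(S', V') := (g.appLE U V' hVU).hom.toAlgebra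
  letI : Algebra Γ(S, U) Γ(T, W) := (π.appLE U W hWU).hom.toAlgebra
  haveI : Algebra.FinitePresentation Γ(S, U) Γ(S', V') := g.finitePresentation_appLE hU hV' hVU
  letI : Algebra Γ(T, W) (T.presheaf.stalk t) := (T.presheaf.germ W t htW).hom.toAlgebra
  letI : Algebra Γ(S, U) (T.presheaf.stalk t) := (π.appLE U W hWU ≫ T.presheaf.germ W t htW).hom.toAlgebra
  haveI : IsScalarTower Γ(S, U) Γ(T, W) (T.presheaf.stalk t) := .of_algebraMap_eq' rfl
  haveI : IsLocalization.AtPrime (T.presheaf.stalk t) (hW.primeIdealOf ⟨t, htW⟩).asIdeal :=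
    hW.isLocalization_stalk ⟨t, htW⟩
  obtain ⟨m, hm, H⟩ := exists_algHom_away (R := Γ(S, U)) (C := Γ(T, W)) (hW.primeIdealOf ⟨t, htW⟩).asIdeal.primeCompl
    { φ.hom with commutes' := fun r => congrArg (fun k => k.hom r) hφ : Γ(S', V') →ₐ[Γ(S, U)] T.presheaf.stalk t }
  letI : Algebra Γ(T, W) Γ(T, T.basicOpen m) :=
    (T.presheaf.map (homOfLE (T.basicOpen_le m)).op).hom.toAlgebra
  haveI : IsLocalization.Away m Γ(T, T.basicOpen m) := hW.isLocalization_basicOpen m
  obtain ⟨χ, hχ⟩ := H Γ(T, T.basicOpen m)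
  have hDU : T.basicOpen m ≤ π ⁻¹ᵁ U := (T.basicOpen_le m).trans hWU
  refine ⟨T.basicOpen m, (hW.basicOpen m).isoSpec.hom ≫ Spec.map (CommRingCat.ofHom χ) ≫ hV'.fromSpec, ?_, ?_⟩
  · have h1 := SetLike.ext_iff.1 (hW.fromSpec_preimage_basicOpen m) (hW.primeIdealOf ⟨t, htW⟩)
    have h2 : hW.fromSpec (hW.primeIdealOf ⟨t, htW⟩) ∈ T.basicOpen m := h1.2 hm
    rwa [hW.fromSpec_primeIdealOf] at h2
  · have hc : g.appLE U V' hVU ≫ CommRingCat.ofHom χ = π.appLE U (T.basicOpen m) hDU := by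
      ext r
      refine (hχ r).trans ?_
      rw [← Scheme.Hom.appLE_map π hWU (homOfLE (T.basicOpen_le m)).op]
      rfl
    rw [Category.assoc, Category.assoc, ← IsAffineOpen.SpecMap_appLE_fromSpec g hU hV' hVU, ← Spec.map_comp_assoc,
      hc, IsAffineOpen.SpecMap_appLE_fromSpec π hU (hW.basicOpen m) hDU, IsAffineOpen.isoSpec_hom,
      IsAffineOpen.toSpecΓ_fromSpec_assoc]

end Groth.Agent.FlatFibres
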