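import Mathlib.AlgebraicGeometry.Morphisms.QuasiFinite
import Groth.Agent.FlatFibres.AicCover
import Groth.Agent.FlatFibres.SpreadStalk
import Groth.Agent.S1375

/-!
# fppf covers have sections locally on the absolutely integrally closed cover
-/

set_option autoImplicit false
set_option backward.isDefEq.respectTransparency false
set_option backward.isDefEq.respectTransparency.types false
universe u

open CategoryTheory CategoryTheory.Limits AlgebraicGeometry

namespace Groth.Agent.FlatFibres

theorem SplitsAll.of_ringEquiv {A B : Type u} [CommRing A] [CommRing B] (e : A ≃+* B) (h : SplitsAll A) :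
    SplitsAll B := by
  intro f hf
  obtain ⟨s, hs⟩ := h (f.map e.symm.toRingHom) (hf.map _)
  refine ⟨s.map e, ?_⟩
  have := congrArg (Polynomial.map e.toRingHom) hs
  rw [Polynomial.map_map, show e.toRingHom.comp e.symm.toRingHom = RingHom.id B from by ext; simp,
    Polynomial.map_id, Polynomial.map_multiset_prod, Multiset.map_map] at this
  rw [this, Multiset.map_map]
  congr 1
  refine Multiset.map_congr rfl fun a _ => ?_
  simp

theorem exists_section {R : CommRingCat.{u}} [IsDomain R] [IsLocalRing R] (hR : SplitsAll R) {X : Scheme.{u}}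
    (p : X ⟶ Spec R) [Flat p] [LocallyOfFiniteType p] [LocallyQuasiFinite p] [Surjective p] :
    ∃ σ : Spec R ⟶ X, σ ≫ p = 𝟙 _ := by
  obtain ⟨u, hu⟩ := p.surjective (IsLocalRing.closedPoint R)
  obtain ⟨U, hU, huU, -⟩ := exists_isAffineOpen_mem_and_subset (U := (⊤ : X.Opens)) (x := u) trivial
  obtain ⟨φ, hφ⟩ := Spec.map_surjective (hU.fromSpec ≫ p)
  haveI : Flat (Spec.map φ) := by rw [hφ]; infer_instance
  haveI : LocallyOfFiniteType (Spec.map φ) := by rw [hφ]; infer_instance
  haveI : LocallyQuasiFinite (Spec.map φ) := by rw [hφ]; infer_instance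
  letI : Algebra R Γ(X, U) := φ.hom.toAlgebra
  haveI : Module.Flat R Γ(X, U) := RingHom.flat_algebraMap_iff.1 (Flat.SpecMap_iff.1 ‹_›)
  haveI : Algebra.FiniteType R Γ(X, U) := RingHom.finiteType_algebraMap.1 ((HasRingHomProperty.Spec_iff (P := @LocallyOfFiniteType)).1 inferInstance)
  haveI : Algebra.QuasiFinite R Γ(X, U) :=
    RingHom.quasiFinite_algebraMap.1 ((HasRingHomProperty.Spec_iff (P := @LocallyQuasiFinite)).1 inferInstance)
  haveI : (hU.primeIdealOf ⟨u, huU⟩).asIdeal.LiesOver (IsLocalRing.maximalIdeal R) := by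
    refine ⟨?_⟩
    have h1 : Spec.map φ (hU.primeIdealOf ⟨u, huU⟩) = IsLocalRing.closedPoint R := by
      rw [hφ, Scheme.Hom.comp_apply, hU.fromSpec_primeIdealOf]
      exact hu
    exact (congrArg PrimeSpectrum.asIdeal h1).symm
  obtain ⟨s⟩ := exists_algHom_of_flat_quasiFinite hR (hU.primeIdealOf ⟨u, huU⟩).asIdeal
  refine ⟨Spec.map (CommRingCat.ofHom s.toRingHom) ≫ hU.fromSpec, ?_⟩
  rw [Category.assoc, ← hφ, ← Spec.map_comp, ← Spec.map_id]
  congr 1
  ext r
  exact s.commutes r

theorem stalk_aicScheme {S : Scheme.{u}} (t : aicScheme S) :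
    IsDomain ((aicScheme S).presheaf.stalk t) ∧ SplitsAll ((aicScheme S).presheaf.stalk t) := by
  obtain ⟨i, q, rfl⟩ := (aicOpenCover S).exists_eq t
  let U : S.affineOpens := i
  letI := (geomEval U.1).toAlgebra
  let C : CommRingCat.{u} :=
    .of (integralClosure Γ(S, U.1) (∀ p : (U.1 : Set S), AlgebraicClosure (S.residueField p.1)))
  let q' : PrimeSpectrum C := q
  let e : Localization.AtPrime q'.asIdeal ≃+* (aicScheme S).presheaf.stalk ((aicOpenCover S).f i q) :=
    (Spec.stalkIso C q').symm.commRingCatIsoToRingEquiv.trans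
      (asIso (((aicOpenCover S).f i).stalkMap q)).symm.commRingCatIsoToRingEquiv
  haveI := isDomain_localization_integralClosure Γ(S, U.1)
    (fun p : (U.1 : Set S) => AlgebraicClosure (S.residueField p.1)) q'.asIdeal
  exact ⟨e.symm.toMulEquiv.isDomain _, (splitsAll_localization_integralClosure Γ(S, U.1)
    (fun p : (U.1 : Set S) => AlgebraicClosure (S.residueField p.1)) q'.asIdeal).of_ringEquiv e⟩

theorem exists_integral_surjective_refinement {S' S : Scheme.{u}} (g : S' ⟶ S) [Flat g]
    [LocallyOfFinitePresentation g] [Surjective g] :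
    ∃ (T : Scheme.{u}) (π : T ⟶ S), Surjective π ∧ IsIntegralHom π ∧
      ∀ t : ↑T, ∃ (V : T.Opens) (r : ↑V ⟶ S'), t ∈ V ∧ r ≫ g = V.ι ≫ π := by
  obtain ⟨T', h, h1, h2, h3, h4, hloc⟩ := S1375.result g
  refine ⟨aicScheme S, aicHom S, inferInstance, inferInstance, fun t => ?_⟩
  obtain ⟨hdom, hsplit⟩ := stalk_aicScheme t
  let a := (aicScheme S).fromSpecStalk t ≫ aicHom S
  haveI : Surjective (pullback.snd h a) := MorphismProperty.pullback_snd _ _ h4
  obtain ⟨σ, hσ⟩ := exists_section hsplit (pullback.snd h a)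
  let l₀ := σ ≫ pullback.fst h a
  have hl₀ : l₀ ≫ h = a := by rw [Category.assoc, pullback.condition, reassoc_of% hσ]
  obtain ⟨W, rW, htW, hrW⟩ := hloc (l₀ (IsLocalRing.closedPoint _))
  have hrange : Set.range l₀ ⊆ Set.range W.ι := by
    rw [Scheme.Opens.range_ι]
    rintro _ ⟨z, rfl⟩
    exact ((IsLocalRing.specializes_closedPoint (R := (aicScheme S).presheaf.stalk t) z).map l₀.continuous).mem_open
      W.2 htW
  refine exists_nhd_lift (aicHom S) g t (IsOpenImmersion.lift W.ι l₀ hrange ≫ rW) ?_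
  rw [Category.assoc, hrW, IsOpenImmersion.lift_fac_assoc]
  exact hl₀

end Groth.Agent.FlatFibres
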