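import Mathlib.RingTheory.ZariskisMainTheorem
import Mathlib.RingTheory.Ideal.GoingDown
import Mathlib.RingTheory.Flat.Basic

/-!
# Sections of quasi-finite flat algebras over absolutely integrally closed local domains
-/

set_option autoImplicit false
universe u

open Polynomial

namespace Groth.Agent.FlatFibres

/-- Every monic polynomial is a product of linear factors. -/
def SplitsAll (A : Type u) [CommRing A] : Prop :=
  ∀ f : A[X], f.Monic → ∃ s : Multiset A, f = (s.map fun a => X - C a).prod

theorem SplitsAll.mem_range_of_isIntegral {R C : Type u} [CommRing R] (hR : SplitsAll R) [CommRing C] [IsDomain C]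
    [Algebra R C] {c : C} (hc : IsIntegral R c) : c ∈ Set.range (algebraMap R C) := by
  obtain ⟨f, hf, hfc⟩ := hc
  obtain ⟨s, hs⟩ := hR f hf
  rw [hs, Polynomial.eval₂_eq_eval_map, Polynomial.map_multiset_prod, Polynomial.eval_multiset_prod,
    Multiset.map_map, Multiset.map_map, Multiset.prod_eq_zero_iff, Multiset.mem_map] at hfc
  obtain ⟨a, -, ha⟩ := hfc
  exact ⟨a, (sub_eq_zero.1 (by simpa using ha)).symm⟩

/-- A flat quasi-finite algebra over an absolutely integrally closed local domain with a prime over the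
closed point has a section. -/
theorem exists_algHom_of_flat_quasiFinite {R B : Type u} [CommRing R] [IsDomain R] [IsLocalRing R] (hR : SplitsAll R)
    [CommRing B] [Algebra R B] [Module.Flat R B] [Algebra.FiniteType R B] [Algebra.QuasiFinite R B]
    (q : Ideal B) [q.IsPrime] [q.LiesOver (IsLocalRing.maximalIdeal R)] : Nonempty (B →ₐ[R] R) := by
  obtain ⟨Q, hQ, _, hQ0⟩ := Ideal.exists_ideal_le_liesOver_of_le (p := (⊥ : Ideal R))
    (q := IsLocalRing.maximalIdeal R) q bot_le
  let C := B ⧸ Q
  have hinj : Function.Injective (algebraMap R C) := by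
    rw [injective_iff_map_eq_zero]
    intro r hr
    rw [IsScalarTower.algebraMap_apply R B C, Ideal.Quotient.algebraMap_eq, Ideal.Quotient.eq_zero_iff_mem] at hr
    have : r ∈ Q.under R := hr
    rwa [← hQ0.over, Ideal.mem_bot] at this
  let π : B →ₐ[R] C := Ideal.Quotient.mkₐ R Q
  let q' : Ideal C := q.map π
  haveI : q'.IsPrime := Ideal.map_isPrime_of_surjective Ideal.Quotient.mk_surjective (by
    show RingHom.ker (Ideal.Quotient.mk Q) ≤ q
    rw [Ideal.mk_ker]; exact hQ)
  have hq' : q'.comap π = q := by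
    refine (Ideal.comap_map_of_surjective _ Ideal.Quotient.mk_surjective q).trans (sup_eq_left.2 ?_)
    intro b hb
    exact hQ (Ideal.Quotient.eq_zero_iff_mem.1 hb)
  haveI : Algebra.QuasiFinite R C := Algebra.QuasiFinite.of_surjective_algHom π Ideal.Quotient.mk_surjective
  haveI : Algebra.FiniteType R C := Algebra.FiniteType.of_surjective π Ideal.Quotient.mk_surjective
  obtain ⟨r, hrq, hr, hx⟩ := Algebra.zariskisMainProperty_iff.1
    (Algebra.ZariskisMainProperty.of_finiteType (R := R) q')
  obtain ⟨r₀, rfl⟩ := hR.mem_range_of_isIntegral hr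
  have hu : IsUnit r₀ := by
    by_contra h
    apply hrq
    have h1 : r₀ ∈ q.under R := by
      rw [← Ideal.over_def q (IsLocalRing.maximalIdeal R)]
      exact (IsLocalRing.mem_maximalIdeal _).2 h
    rw [← π.commutes r₀]
    exact Ideal.mem_map_of_mem π h1
  have hsurj : Function.Surjective (algebraMap R C) := fun x => by
    obtain ⟨m, hm⟩ := hx x
    obtain ⟨s, hs⟩ := hR.mem_range_of_isIntegral hm
    refine ⟨(↑(hu.unit ^ m)⁻¹ : R) * s, ?_⟩
    rw [map_mul, hs, ← mul_assoc, ← map_pow, ← map_mul]
    rw [show (↑(hu.unit ^ m)⁻¹ : R) * r₀ ^ m = 1 from by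
      rw [show r₀ ^ m = ↑(hu.unit ^ m) by simp, Units.inv_mul]]
    rw [map_one, one_mul]
  exact ⟨(AlgEquiv.ofBijective (Algebra.ofId R C) ⟨hinj, hsurj⟩).symm.toAlgHom.comp π⟩

end Groth.Agent.FlatFibres
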