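import Groth.Agent.PBC50.ConnFibre
import Groth.Agent.LimMor.ChowLim
import Groth.Agent.PnCoh.Chow.Proper

/-!
Over a henselian pair, a clopen proper piece of the closed fibre of a separated scheme of finite
type lifts to a clopen proper piece of the scheme.
-/

set_option autoImplicit false

universe u

open CategoryTheory Limits AlgebraicGeometry Topology
open Groth.Agent

namespace FlatFibres.ClopenProperLift

set_option backward.isDefEq.respectTransparency.types false in
theorem exists_lift {A : Type u} [CommRing A] (I : Ideal A) [HenselianRing A I]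
    {X : Scheme.{u}} (f : X ⟶ Spec (CommRingCat.of A)) [IsSeparated f] [LocallyOfFiniteType f]
    [QuasiCompact f]
    (Y : (pullback f (Spec.map (CommRingCat.ofHom (Ideal.Quotient.mk I)))).Opens)
    (hYc : IsClosed (Y : Set ↑(pullback f (Spec.map (CommRingCat.ofHom (Ideal.Quotient.mk I))))))
    (hYp : IsProper (Y.ι ≫ pullback.snd f (Spec.map (CommRingCat.ofHom (Ideal.Quotient.mk I))))) :
    ∃ W : X.Opens, IsClosed (W : Set ↑X) ∧ IsProper (W.ι ≫ f) ∧
      pullback.fst f (Spec.map (CommRingCat.ofHom (Ideal.Quotient.mk I))) ⁻¹ᵁ W = Y := by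
  let q := Spec.map (CommRingCat.ofHom (Ideal.Quotient.mk I))
  let c := pullback.fst f q
  have : IsClosedImmersion q := IsClosedImmersion.spec_of_surjective _ Ideal.Quotient.mk_surjective
  have hcr : Set.range c = f ⁻¹' PrimeSpectrum.zeroLocus (I : Set A) := HensCouple7.range_fst_mk I f
  have hcinj : Function.Injective c := c.isClosedEmbedding.injective
  set Y₀ : Set X := c '' (Y : Set ↥(pullback f q))
  obtain ⟨O, hO, hOY⟩ := c.isClosedEmbedding.isInducing.isOpen_iff.mp Y.2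
  obtain ⟨n, X', π, j, hj, hjπ, hπ, hπs, -⟩ := LimMor.exists_chow f
  let p := CohB1.ProjSpaceOver.toBase n (Spec (CommRingCat.of A))
  have : IsProper p := MorphismProperty.pullback_snd _ _ (PnCoh.Chow.isProper_toSpec n (ULift.{u} ℤ))
  have : QuasiCompact (j ≫ p) := by rw [hjπ]; infer_instance
  have : QuasiCompact j := QuasiCompact.of_comp j p
  let t := j.toImage
  let g : j.image ⟶ Spec (CommRingCat.of A) := j.imageι ≫ p
  have hgt : t ≫ g = π ≫ f :=
    (Category.assoc _ _ _).symm.trans ((congrArg (· ≫ p) (Scheme.Hom.toImage_imageι j)).trans hjπ)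
  set Z : Set j.image := g ⁻¹' PrimeSpectrum.zeroLocus (I : Set A)
  have htZ : ∀ a : X', t a ∈ Z ↔ π a ∈ Set.range c := fun a => by
    rw [hcr]
    simp only [Z, Set.mem_preimage]
    rw [← Scheme.Hom.comp_apply, ← Scheme.Hom.comp_apply, hgt]
  -- the closed part `V` of the compactification
  set V : Set j.image := t '' (π ⁻¹' Y₀)
  have hVZ : V ⊆ Z := by
    rintro _ ⟨a, ⟨x, -, hx⟩, rfl⟩
    exact (htZ a).mpr ⟨x, hx⟩
  have hVc : IsClosed V := by
    let m := Y.ι ≫ c
    let sX : pullback π m ⟶ j.image := pullback.fst π m ≫ t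
    have : IsProper (sX ≫ g) := by
      have h1 : sX ≫ g = pullback.snd π m ≫ (Y.ι ≫ pullback.snd f q) ≫ q := by
        simp only [sX, Category.assoc, hgt, m, c, q]
        rw [pullback.condition_assoc, Category.assoc, pullback.condition]
      rw [h1]
      have : IsProper (Y.ι ≫ pullback.snd f q) := hYp
      have : IsProper (pullback.snd π m) := MorphismProperty.pullback_snd _ _ hπ
      infer_instance
    have : UniversallyClosed sX := UniversallyClosed.of_comp_of_isSeparated sX g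
    have hr : Set.range sX = V := by
      show Set.range (⇑(pullback.fst π m ≫ t)) = _
      rw [Scheme.Hom.comp_base, TopCat.coe_comp, Set.range_comp, Scheme.Pullback.range_fst]
      congr 2
      rw [Scheme.Hom.comp_base, TopCat.coe_comp, Set.range_comp, Scheme.Opens.range_ι]
    rw [← hr]
    exact sX.isClosedMap.isClosed_range
  have hVO : V = t '' (π ⁻¹' O) ∩ Z := by
    refine Set.Subset.antisymm ?_ ?_
    · rintro _ ⟨a, ⟨x, hx, hxa⟩, rfl⟩
      refine ⟨⟨a, ?_, rfl⟩, hVZ ⟨a, ⟨x, hx, hxa⟩, rfl⟩⟩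
      show π a ∈ O
      rw [← hxa]
      exact (Set.ext_iff.mp hOY x).mpr hx
    · rintro _ ⟨⟨a, ha, rfl⟩, haZ⟩
      obtain ⟨x, hx⟩ := (htZ a).mp haZ
      refine ⟨a, ⟨x, (Set.ext_iff.mp hOY x).mp ?_, hx⟩, rfl⟩
      show c x ∈ O
      rw [hx]; exact ha
  have hVclopen : IsClopen (Subtype.val ⁻¹' V : Set Z) := by
    refine ⟨hVc.preimage continuous_subtype_val, ?_⟩
    rw [hVO, Set.preimage_inter]
    simp only [Subtype.coe_preimage_self, Set.inter_univ]
    exact (t.isOpenEmbedding.isOpenMap _ (hO.preimage π.continuous)).preimage continuous_subtype_val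
  obtain ⟨Wb, ⟨hWb, hWbV⟩, -⟩ := PBC50.lifts I g _ hVclopen
  have hWbV' : ∀ z ∈ Z, (z ∈ Wb ↔ z ∈ V) := fun z hz => Set.ext_iff.mp hWbV ⟨z, hz⟩
  have hWr : Wb ⊆ Set.range t := by
    by_contra hne
    obtain ⟨z, hz, hzW, hzt⟩ := PBC50.nonempty_inter_preimage_zeroLocus I g
      (D := Wb ∩ (Set.range t)ᶜ) (hWb.isClosed.inter t.isOpenEmbedding.isOpen_range.isClosed_compl)
      (Set.not_subset.mp hne)
    exact hzt (Set.image_subset_range _ _ ((hWbV' z hz).mp hzW))
  let W' : X'.Opens := ⟨t ⁻¹' Wb, hWb.isOpen.preimage t.continuous⟩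
  have hW'c : IsClosed (W' : Set X') := hWb.isClosed.preimage t.continuous
  have : IsClosedImmersion (W'.ι ≫ t) := by
    refine IsClosedImmersion.of_isPreimmersion _ ?_
    rw [Scheme.Hom.comp_base, TopCat.coe_comp, Set.range_comp, Scheme.Opens.range_ι]
    show IsClosed (t '' (t ⁻¹' Wb))
    rw [Set.image_preimage_eq_of_subset hWr]
    exact hWb.isClosed
  have hW'p : IsProper (W'.ι ≫ π ≫ f) := by
    rw [← hgt, ← Category.assoc]; infer_instance
  -- images of the two halves are disjoint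
  have key : ∀ a ∈ W', ∀ b : X', π a = π b → b ∈ W' := by
    by_contra hcon
    push_neg at hcon
    obtain ⟨a₀, ha₀, b₀, hab, hb₀⟩ := hcon
    let D' : Set X' := (W' : Set X') ∩ π ⁻¹' (π '' (W' : Set X')ᶜ)
    have hD'c : IsClosed D' := hW'c.inter
      ((π.isClosedMap _ W'.2.isClosed_compl).preimage π.continuous)
    have htD' : IsClosed (t '' D') := by
      have : t '' D' = (W'.ι ≫ t) '' (W'.ι ⁻¹' D') := by
        rw [Scheme.Hom.comp_base, TopCat.coe_comp, Set.image_comp,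
          Set.image_preimage_eq_inter_range, Scheme.Opens.range_ι,
          Set.inter_eq_left.mpr Set.inter_subset_left]
      rw [this]
      exact (W'.ι ≫ t).isClosedEmbedding.isClosedMap _ (hD'c.preimage W'.ι.continuous)
    obtain ⟨_, hz, a, ⟨haW, b, hbW, hba⟩, rfl⟩ := PBC50.nonempty_inter_preimage_zeroLocus I g htD'
      ⟨t a₀, a₀, ⟨ha₀, b₀, hb₀, hab.symm⟩, rfl⟩
    obtain ⟨a', ha', hta⟩ := (hWbV' _ hz).mp haW
    have ha'' : π a ∈ Y₀ := t.isOpenEmbedding.injective hta ▸ ha'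
    have hbV : t b ∈ V := ⟨b, show π b ∈ Y₀ from hba ▸ ha'', rfl⟩
    exact hbW ((hWbV' _ (hVZ hbV)).mpr hbV)
  let Wset : Set X := π '' (W' : Set X')
  have hpre : π ⁻¹' Wset = (W' : Set X') :=
    Set.Subset.antisymm (fun b ⟨a, ha, hab⟩ => key a ha b hab) (Set.subset_preimage_image _ _)
  have hWo : IsOpen Wset := by
    have : Wset = (π '' (W' : Set X')ᶜ)ᶜ := by
      ext x
      refine ⟨fun ⟨a, ha, hax⟩ ⟨b, hb, hbx⟩ => hb (key a ha b (hax.trans hbx.symm)), fun hx => ?_⟩
      obtain ⟨b, rfl⟩ := π.surjective x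
      by_contra hn
      exact hx ⟨b, fun hb => hn ⟨b, hb, rfl⟩, rfl⟩
    rw [this]
    exact (π.isClosedMap _ W'.2.isClosed_compl).isOpen_compl
  let W : X.Opens := ⟨Wset, hWo⟩
  have hW'eq : π ⁻¹ᵁ W = W' := TopologicalSpace.Opens.ext hpre
  refine ⟨W, π.isClosedMap _ hW'c, ?_, ?_⟩
  · have h1 : (π ∣_ W) ≫ W.ι ≫ f = (π ⁻¹ᵁ W).ι ≫ π ≫ f := morphismRestrict_ι_assoc ..
    have : IsProper ((π ∣_ W) ≫ W.ι ≫ f) := by rw [h1, hW'eq]; exact hW'p
    have : Surjective (π ∣_ W) := MorphismProperty.of_isPullback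
      (isPullback_morphismRestrict π W).flip hπs
    have : UniversallyClosed (W.ι ≫ f) := UniversallyClosed.of_comp_surjective (π ∣_ W) (W.ι ≫ f)
    have : QuasiCompact (W.ι ≫ f) := inferInstance
    exact ⟨⟩
  ext x
  show c x ∈ Wset ↔ x ∈ Y
  constructor
  · rintro ⟨a, ha, hax⟩
    have haZ : t a ∈ Z := (htZ a).mpr ⟨x, hax.symm⟩
    obtain ⟨a', ⟨y, hy, hya⟩, hta⟩ := (hWbV' _ haZ).mp ha
    rw [t.isOpenEmbedding.injective hta, hax] at hya
    exact hcinj hya ▸ hy
  · intro hx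
    obtain ⟨a, ha⟩ := π.surjective (c x)
    have hV : t a ∈ V := ⟨a, show π a ∈ Y₀ from ha ▸ ⟨x, hx, rfl⟩, rfl⟩
    exact ⟨a, (hWbV' _ (hVZ hV)).mpr hV, ha⟩

end FlatFibres.ClopenProperLift
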