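import Mathlib
import Groth.Agent.GenFreeRed.Main
import Groth.Agent.GrFlat5.AtPrime

/-!
# Generic flatness of a cokernel `N ⧸ U`, `N` finite over `A[y]`, `U` finite over `A`
-/

set_option autoImplicit false
universe u

open scoped TensorProduct
open Polynomial (monomial)

namespace Groth.Agent.FlatFibres

theorem flat_of_chain {K : Type u} [CommRing K] {C : Type u} [AddCommGroup C] [Module K C]
    (X : ℕ → Type u) [∀ d, AddCommGroup (X d)] [∀ d, Module K (X d)]
    (Y : ℕ → Type u) [∀ d, AddCommGroup (Y d)] [∀ d, Module K (Y d)]
    (j : ∀ d, X d →ₗ[K] C) (i : ∀ d, X d →ₗ[K] X (d + 1)) (p : ∀ d, X (d + 1) →ₗ[K] Y d)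
    (hj : ∀ d, Function.Injective (j d)) (hji : ∀ d, j (d + 1) ∘ₗ i d = j d)
    (hp : ∀ d, Function.Surjective (p d)) (hip : ∀ d, Function.Exact (i d) (p d))
    (hY : ∀ d, Module.Flat K (Y d)) (h0 : Module.Flat K (X 0))
    (hcover : ∀ c : C, ∃ d x, j d x = c) : Module.Flat K C := by
  have hX : ∀ d, Module.Flat K (X d) := by
    intro d
    induction d with
    | zero => exact h0
    | succ d ih =>
      have := hY d
      exact GrFlat5.flat_of_exact (f := i d)
        (fun a b h => hj d (by rw [← hji d, LinearMap.comp_apply, LinearMap.comp_apply, h]))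
        (hip d) (hp d)
  rw [Module.Flat.iff_rTensor_injective']
  intro I
  have hmono : Monotone fun d => LinearMap.range ((j d).lTensor I) := monotone_nat_of_le_succ fun d => by
    rw [← hji d, LinearMap.lTensor_comp]; exact LinearMap.range_comp_le_range _ _
  have hall : ∀ z : I ⊗[K] C, ∃ d, z ∈ LinearMap.range ((j d).lTensor I) := by
    intro z
    induction z with
    | zero => exact ⟨0, zero_mem _⟩
    | tmul a c =>
      obtain ⟨d, x, rfl⟩ := hcover c
      exact ⟨d, a ⊗ₜ x, by simp⟩
    | add z w hz hw =>
      obtain ⟨d, hd⟩ := hz; obtain ⟨e, he⟩ := hw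
      exact ⟨max d e, add_mem (hmono (le_max_left d e) hd) (hmono (le_max_right d e) he)⟩
  rw [injective_iff_map_eq_zero]
  intro z hz
  obtain ⟨d, x, rfl⟩ := hall z
  have := hX d
  have h1 : ((j d).lTensor K) (I.subtype.rTensor (X d) x) = 0 := by
    rw [← hz, ← LinearMap.comp_apply, ← LinearMap.comp_apply, LinearMap.lTensor_comp_rTensor,
      LinearMap.rTensor_comp_lTensor]
  have h2 := (Module.Flat.lTensor_preserves_injective_linearMap (M := K) (j d) (hj d))
  have h3 : I.subtype.rTensor (X d) x = 0 := h2 (h1.trans (map_zero _).symm)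
  have h4 : x = 0 := (Module.Flat.iff_rTensor_injective'.mp ‹_› I) (h3.trans (map_zero _).symm)
  rw [h4, map_zero]

section

variable {R A N : Type u} [CommRing R] [Nontrivial R] [CommRing A] [Algebra R A] [Algebra.FiniteType R A]
  {m : ℕ} [AddCommGroup N] [Module A N] [Module (MvPolynomial (Fin m) A) N] [Module R N]
  [IsScalarTower A (MvPolynomial (Fin m) A) N] [IsScalarTower R A N]

theorem exists_flat_localized_quotient [Module.Finite (MvPolynomial (Fin m) A) N]
    (U : Submodule A N) (hU : U.FG) :
    ∃ f : R, f ≠ 0 ∧ Module.Flat (Localization.Away f)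
      (LocalizedModule (Submonoid.powers f) (N ⧸ U.restrictScalars R)) := by
  classical
  let P := MvPolynomial (Fin m) A
  haveI : IsScalarTower R P N := ⟨fun r p n => by
    rw [← IsScalarTower.algebraMap_smul A r (p • n), ← IsScalarTower.algebraMap_smul P
      (algebraMap R A r) (p • n), ← mul_smul, ← IsScalarTower.algebraMap_apply, Algebra.smul_def]⟩
  let S := MvPolynomial (Option (Fin m)) A
  let c : Option (Fin m) → P := fun o => o.elim 1 MvPolynomial.X
  let σ : S →ₐ[A] Polynomial P := MvPolynomial.aeval fun o => monomial 1 (c o)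
  let PM := PolynomialModule P N
  letI : Module S PM := Module.compHom PM σ.toRingHom
  haveI : IsScalarTower R S PM := .of_algebraMap_smul fun r x => by
    change σ (algebraMap R S r) • x = r • x
    rw [IsScalarTower.algebraMap_apply R A S, σ.commutes,
      ← IsScalarTower.algebraMap_apply R A (Polynomial P), IsScalarTower.algebraMap_smul]
  have hC : ∀ (a : A) (z : PM) (d : ℕ), ((MvPolynomial.C a : S) • z).coeff d = a • z.coeff d := by
    intro a z d
    show (σ (MvPolynomial.C a) • z : PM).coeff d = _
    rw [MvPolynomial.aeval_C, show algebraMap A (Polynomial P) a = monomial 0 (algebraMap A P a) from rfl,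
      PolynomialModule.monomial_smul_apply, if_pos (Nat.zero_le d), Nat.sub_zero,
      IsScalarTower.algebraMap_smul]
  have hC' : ∀ (a : A) (d : ℕ) (x : N), (MvPolynomial.C a : S) • PolynomialModule.single P d x =
      PolynomialModule.single P d (a • x) := by
    intro a d x
    show σ (MvPolynomial.C a) • PolynomialModule.single P d x = _
    rw [MvPolynomial.aeval_C, show algebraMap A (Polynomial P) a = monomial 0 (algebraMap A P a) from rfl,
      PolynomialModule.monomial_smul_single, Nat.zero_add, IsScalarTower.algebraMap_smul]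
  have hX : ∀ (o : Option (Fin m)) (z : PM) (d : ℕ),
      ((MvPolynomial.X o : S) • z).coeff d = if 1 ≤ d then c o • z.coeff (d - 1) else 0 := by
    intro o z d
    show (σ (MvPolynomial.X o) • z : PM).coeff d = _
    rw [MvPolynomial.aeval_X, PolynomialModule.monomial_smul_apply]
  have hX' : ∀ (o : Option (Fin m)) (d : ℕ) (x : N), (MvPolynomial.X o : S) • PolynomialModule.single P d x =
      PolynomialModule.single P (1 + d) (c o • x) := by
    intro o d x
    show σ (MvPolynomial.X o) • PolynomialModule.single P d x = _
    rw [MvPolynomial.aeval_X, PolynomialModule.monomial_smul_single]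
  obtain ⟨T, hT⟩ := hU
  obtain ⟨G, hG⟩ := (Module.finite_def (R := P) (M := N)).mp inferInstance
  let gens : Finset PM := T.image (PolynomialModule.single P 0) ∪ G.image (PolynomialModule.single P 1)
  let W : Submodule S PM := Submodule.span S (gens : Set PM)
  let F : ℕ → Submodule R N := fun d =>
    (W.restrictScalars R).comap ((PolynomialModule.lsingle P d).restrictScalars R)
  have hFdef : ∀ d x, x ∈ F d ↔ PolynomialModule.single P d x ∈ W := fun _ _ => Iff.rfl
  -- `F 0 = U`
  have hUF : ∀ x ∈ U, x ∈ F 0 := by
    intro x hx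
    rw [← hT] at hx
    induction hx using Submodule.span_induction with
    | mem y hy => exact Submodule.subset_span (Finset.mem_union_left _ (Finset.mem_image_of_mem _ hy))
    | zero => exact zero_mem _
    | add _ _ _ _ h1 h2 => exact add_mem h1 h2
    | smul a y _ h1 =>
      rw [hFdef, ← hC']; exact W.smul_mem _ h1
  have hmem : ∀ w ∈ W, (∀ d, w.coeff d ∈ F d) ∧ w.coeff 0 ∈ U := by
    intro w hw
    induction hw using Submodule.span_induction with
    | mem y hy =>
      rcases Finset.mem_union.mp hy with h | h
      all_goals obtain ⟨x, hx, rfl⟩ := Finset.mem_image.mp h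
      · have hxU : x ∈ U := hT ▸ Submodule.subset_span hx
        refine ⟨fun d => ?_, by simpa using hxU⟩
        rcases eq_or_ne d 0 with rfl | hd
        · simpa using hUF x hxU
        · rw [PolynomialModule.coeff_single, Finsupp.single_eq_of_ne hd]; exact zero_mem _
      · refine ⟨fun d => ?_, by simp⟩
        rcases eq_or_ne d 1 with rfl | hd
        · rw [PolynomialModule.coeff_single, Finsupp.single_eq_same]
          exact Submodule.subset_span (Finset.mem_union_right _ (Finset.mem_image_of_mem _ hx))
        · rw [PolynomialModule.coeff_single, Finsupp.single_eq_of_ne hd]; exact zero_mem _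
    | zero => exact ⟨fun d => by simp, by simp⟩
    | add y z _ _ hy hz =>
      exact ⟨fun d => add_mem (hy.1 d) (hz.1 d), add_mem hy.2 hz.2⟩
    | smul s y _ hy =>
      induction s using MvPolynomial.induction_on with
      | C a =>
        refine ⟨fun d => ?_, by rw [hC]; exact U.smul_mem a hy.2⟩
        rw [hC, hFdef, ← hC']
        exact W.smul_mem _ (hy.1 d)
      | add p q hp hq =>
        rw [add_smul]
        exact ⟨fun d => add_mem (hp.1 d) (hq.1 d), add_mem hp.2 hq.2⟩
      | mul_X p o hp =>
        rw [mul_comm, mul_smul]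
        refine ⟨fun d => ?_, by rw [hX, if_neg (by omega)]; exact zero_mem _⟩
        rw [hX]
        split_ifs with hd
        · have := W.smul_mem (MvPolynomial.X o : S) (hp.1 (d - 1))
          change (MvPolynomial.X o : S) • PolynomialModule.single P (d - 1) _ ∈ W at this
          rw [hX', Nat.add_sub_cancel' hd] at this
          exact this
        · exact zero_mem _
  have hF0 : F 0 = U.restrictScalars R := by
    ext x
    exact ⟨fun hx => Finsupp.single_eq_same (α := ℕ) (a := 0) (b := x) ▸ (hmem _ hx).2, hUF x⟩
  have hsucc : ∀ d, F d ≤ F (d + 1) := by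
    intro d x hx
    have := W.smul_mem (MvPolynomial.X none : S) hx
    change (MvPolynomial.X none : S) • PolynomialModule.single P d x ∈ W at this
    rw [hX', Nat.add_comm 1 d, show c none • x = x from one_smul P x] at this
    exact this
  have hmono : Monotone F := monotone_nat_of_le_succ hsucc
  -- the filtration is exhaustive
  have hcov : ∀ x : N, ∃ d, x ∈ F d := by
    have hpoly : ∀ (p : P) (x : N) (d : ℕ), x ∈ F d → ∃ e, p • x ∈ F e := by
      intro p
      induction p using MvPolynomial.induction_on with
      | C a =>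
        intro x d hx
        refine ⟨d, ?_⟩
        rw [show (MvPolynomial.C a : P) • x = a • x from IsScalarTower.algebraMap_smul P a x, hFdef, ← hC']
        exact W.smul_mem _ hx
      | add p q hp hq =>
        intro x d hx
        obtain ⟨e, he⟩ := hp x d hx; obtain ⟨e', he'⟩ := hq x d hx
        exact ⟨max e e', by rw [add_smul]; exact add_mem (hmono (le_max_left _ _) he) (hmono (le_max_right _ _) he')⟩
      | mul_X p i hp =>
        intro x d hx
        have h1 := W.smul_mem (MvPolynomial.X (some i) : S) hx
        change (MvPolynomial.X (some i) : S) • PolynomialModule.single P d x ∈ W at h1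
        rw [hX'] at h1
        rw [mul_smul]
        exact hp _ (1 + d) h1
    intro x
    have hx : x ∈ Submodule.span P (G : Set N) := by rw [hG]; trivial
    induction hx using Submodule.span_induction with
    | mem y hy => exact ⟨1, Submodule.subset_span (Finset.mem_union_right _ (Finset.mem_image_of_mem _ hy))⟩
    | zero => exact ⟨0, zero_mem _⟩
    | add y z _ _ hy hz =>
      obtain ⟨e, he⟩ := hy; obtain ⟨e', he'⟩ := hz
      exact ⟨max e e', add_mem (hmono (le_max_left _ _) he) (hmono (le_max_right _ _) he')⟩
    | smul p y _ hy =>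
      obtain ⟨d, hd⟩ := hy; exact hpoly p y d hd
  -- the graded module
  haveI : Module.Finite S W := Module.Finite.of_fg ⟨gens, rfl⟩
  let tW : Submodule S W := LinearMap.range (LinearMap.lsmul S W (MvPolynomial.X none))
  obtain ⟨g, hg, hgood, -⟩ := GenFreeRed.exists_isGood R S (W ⧸ tW) (1 : R) one_ne_zero
  rw [one_mul] at hg hgood
  refine ⟨g, hg, ?_⟩
  let M := Submonoid.powers g
  let UR : Submodule R N := U.restrictScalars R
  let Xm : ℕ → Type u := fun d => F d ⧸ UR.comap (F d).subtype
  let Ym : ℕ → Type u := fun d => F (d + 1) ⧸ (F d).comap (F (d + 1)).subtype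
  let j : ∀ d, Xm d →ₗ[R] N ⧸ UR := fun d => Submodule.mapQ _ UR (F d).subtype le_rfl
  let i : ∀ d, Xm d →ₗ[R] Xm (d + 1) := fun d =>
    Submodule.mapQ _ _ (Submodule.inclusion (hsucc d)) fun x hx => hx
  have hUle : ∀ d, UR ≤ F d := fun d => hF0.ge.trans (hmono (Nat.zero_le d))
  let p : ∀ d, Xm (d + 1) →ₗ[R] Ym d := fun d =>
    Submodule.factor (Submodule.comap_mono (hUle d))
  have hj : ∀ d, Function.Injective (j d) := fun d => by
    rw [injective_iff_map_eq_zero]
    intro x hx
    induction x using Submodule.Quotient.induction_on with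
    | _ x => exact (Submodule.Quotient.mk_eq_zero _).mpr ((Submodule.Quotient.mk_eq_zero UR (x := (x : N))).mp hx)
  have hji : ∀ d, j (d + 1) ∘ₗ i d = j d := fun d => Submodule.linearMap_qext _ rfl
  have hp : ∀ d, Function.Surjective (p d) := fun d x => by
    induction x using Submodule.Quotient.induction_on with
    | _ x => exact ⟨Submodule.Quotient.mk x, rfl⟩
  have hip : ∀ d, Function.Exact (i d) (p d) := fun d x => by
    induction x using Submodule.Quotient.induction_on with
    | _ x =>
      constructor
      · intro hx
        have hx' : (x : N) ∈ F d := (Submodule.Quotient.mk_eq_zero ((F d).comap (F (d + 1)).subtype)).mp hx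
        exact ⟨Submodule.Quotient.mk ⟨x, hx'⟩, rfl⟩
      · rintro ⟨y, hy⟩
        rw [← hy]
        induction y using Submodule.Quotient.induction_on with
        | _ y => exact (Submodule.Quotient.mk_eq_zero _).mpr y.2
  -- `Ym d` is a retract of `W ⧸ tW`
  let coe1 : ∀ d, W →ₗ[R] F (d + 1) := fun d =>
    { toFun := fun w => ⟨(w : PM).coeff (d + 1), (hmem w.1 w.2).1 (d + 1)⟩
      map_add' := fun _ _ => rfl
      map_smul' := fun _ _ => rfl }
  let r : ∀ d, (W ⧸ tW.restrictScalars R) →ₗ[R] Ym d := fun d =>
    Submodule.liftQ _ (((F d).comap (F (d + 1)).subtype).mkQ ∘ₗ coe1 d) fun w hw => by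
      obtain ⟨v, rfl⟩ := hw
      refine (Submodule.Quotient.mk_eq_zero _).mpr ?_
      change ((MvPolynomial.X none : S) • (v : PM)).coeff (d + 1) ∈ F d
      rw [hX, if_pos (by omega), Nat.add_sub_cancel, show c none • (v : PM).coeff d = (v : PM).coeff d from one_smul P _]
      exact (hmem v.1 v.2).1 d
  let s : ∀ d, Ym d →ₗ[R] W ⧸ tW.restrictScalars R := fun d =>
    Submodule.liftQ _ ((tW.restrictScalars R).mkQ ∘ₗ
      (((PolynomialModule.lsingle P (d + 1)).restrictScalars R ∘ₗ (F (d + 1)).subtype).codRestrict
        (W.restrictScalars R) fun x => x.2)) fun x hx => by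
      refine (Submodule.Quotient.mk_eq_zero _).mpr ⟨⟨_, hx⟩, Subtype.ext ?_⟩
      change (MvPolynomial.X none : S) • PolynomialModule.single P d (x : N) = _
      rw [hX', Nat.add_comm 1 d, show c none • (x : N) = x from one_smul P _]
      rfl
  have hrs : ∀ d, r d ∘ₗ s d = LinearMap.id := fun d => by
    refine Submodule.linearMap_qext _ (LinearMap.ext fun x => congrArg Submodule.Quotient.mk (Subtype.ext ?_))
    exact Finsupp.single_eq_same
  let e : (W ⧸ tW.restrictScalars R) ≃ₗ[R] W ⧸ tW := Submodule.Quotient.restrictScalarsEquiv R tW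
  have := hgood
  refine flat_of_chain (fun d => LocalizedModule M (Xm d)) (fun d => LocalizedModule M (Ym d))
    (fun d => LocalizedModule.map M (j d)) (fun d => LocalizedModule.map M (i d))
    (fun d => LocalizedModule.map M (p d))
    (fun d => LocalizedModule.map_injective M _ (hj d)) (fun d => ?_)
    (fun d => LocalizedModule.map_surjective M _ (hp d)) (fun d => LocalizedModule.map_exact M _ _ (hip d))
    (fun d => ?_) ?_ fun z => ?_
  · refine LinearMap.ext fun z => ?_
    induction z using LocalizedModule.induction_on with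
    | _ x t =>
      simp only [LinearMap.comp_apply, LocalizedModule.map_mk]
      rw [← hji d]; rfl
  · refine Module.Flat.of_retract (M := LocalizedModule M (W ⧸ tW))
      (LocalizedModule.map M (e.toLinearMap ∘ₗ s d)) (LocalizedModule.map M (r d ∘ₗ e.symm.toLinearMap))
      (LinearMap.ext fun z => ?_)
    induction z using LocalizedModule.induction_on with
    | _ x t =>
      simp only [LinearMap.comp_apply, LocalizedModule.map_mk, LinearEquiv.coe_coe,
        LinearEquiv.symm_apply_apply, LinearMap.id_apply]
      rw [show r d (s d x) = x from LinearMap.congr_fun (hrs d) x]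
  · haveI : Subsingleton (Xm 0) := by
      refine Submodule.Quotient.subsingleton_iff.mpr (eq_top_iff.mpr fun x _ => ?_)
      exact hF0.le x.2
    infer_instance
  · induction z using LocalizedModule.induction_on with
    | _ x t =>
      induction x using Submodule.Quotient.induction_on with
      | _ x =>
        obtain ⟨d, hd⟩ := hcov x
        exact ⟨d, LocalizedModule.mk (Submodule.Quotient.mk ⟨x, hd⟩) t, by rw [LocalizedModule.map_mk]; rfl⟩

end

end Groth.Agent.FlatFibres
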