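import Mathlib
import Groth.Prelude.Def_FlatCA
import Groth.Agent.SmoothDim.Basic
import Groth.Agent.MorLib.UnramLocus

/-!
# Supports of fibre modules, dimension of fibres of smooth algebras
-/

set_option autoImplicit false
universe u

open TensorProduct Order

namespace Groth.Agent.FlatFibres

attribute [local instance] Algebra.TensorProduct.rightAlgebra

variable {R : Type u} [CommRing R] (p : Ideal R) [p.IsPrime] (S : Type u) [CommRing S] [Algebra R S]

/-- The points of `Spec S` over `p` in the support of `N`. -/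
def fibSupp (N : Type u) [AddCommGroup N] [Module S N] : Set (PrimeSpectrum S) :=
  {P | P ∈ Module.support S N ∧ P.asIdeal.comap (algebraMap R S) = p}

variable (N : Type u) [AddCommGroup N] [Module S N] [Module R N] [IsScalarTower R S N]

theorem supportDim_fiberMod [Module.Finite S N] :
    Module.supportDim (p.Fiber S) (FlatCA.fiberMod p S N) = Order.krullDim (fibSupp p S N) := by
  let p0 : PrimeSpectrum R := ⟨p, inferInstance⟩
  let e := PrimeSpectrum.preimageOrderIsoFiber R S p0
  have hmem : ∀ x : PrimeSpectrum (p.Fiber S),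
      x ∈ Module.support (p.Fiber S) (FlatCA.fiberMod p S N) ↔ (e.symm x).1 ∈ Module.support S N := by
    intro x
    have h1 := MorLib.UnrLocus.support_baseChange_iff (A := S) (B := p.Fiber S) N x
    have h2 : PrimeSpectrum.comap (algebraMap S (p.Fiber S)) x = (e.symm x).1 := rfl
    rw [h2] at h1
    exact h1
  let f : fibSupp p S N ≃o Module.support (p.Fiber S) (FlatCA.fiberMod p S N) :=
    { toFun := fun P => ⟨e ⟨P.1, PrimeSpectrum.ext P.2.2⟩, (hmem _).mpr (by rw [OrderIso.symm_apply_apply]; exact P.2.1)⟩
      invFun := fun x => ⟨(e.symm x.1).1, (hmem _).mp x.2, congrArg PrimeSpectrum.asIdeal (e.symm x.1).2⟩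
      left_inv := fun P => Subtype.ext (congrArg Subtype.val (e.symm_apply_apply ⟨P.1, PrimeSpectrum.ext P.2.2⟩) :)
      right_inv := fun x => Subtype.ext (e.apply_symm_apply x.1)
      map_rel_iff' := fun {P Q} => e.le_iff_le }
  exact (Order.krullDim_eq_of_orderIso f).symm

/-- The fibres of a smooth algebra of relative dimension `n` have dimension at most `n`. -/
theorem length_le_of_smoothRelDim {n : ℕ} (h : FlatCA.SmoothRelDim n R S)
    (l : LTSeries {P : PrimeSpectrum S | P.asIdeal.comap (algebraMap R S) = p}) : l.length ≤ n := by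
  obtain ⟨s, hs, hloc⟩ := (AlgebraicGeometry.HasRingHomProperty.Spec_iff
    (P := @AlgebraicGeometry.SmoothOfRelativeDimension n)).mp h
  obtain ⟨t, ht, htP⟩ : ∃ t ∈ s, t ∉ l.last.1.asIdeal := by
    by_contra! h'
    exact l.last.1.isPrime.ne_top (top_le_iff.mp (hs ▸ Ideal.span_le.mpr h'))
  let S' := Localization.Away t
  have hS' : Algebra.IsStandardSmoothOfRelativeDimension n R S' := by
    have h0 : RingHom.IsStandardSmoothOfRelativeDimension n ((algebraMap S S').comp (algebraMap R S)) := hloc t ht
    rw [← IsScalarTower.algebraMap_eq R S S'] at h0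
    exact (RingHom.isStandardSmoothOfRelativeDimension_algebraMap n).mp h0
  let p0 : PrimeSpectrum R := ⟨p, inferInstance⟩
  let e := PrimeSpectrum.preimageOrderIsoFiber R S' p0
  let eo := IsLocalization.orderIsoOfPrime (Submonoid.powers t) S'
  have hd : ∀ i, Disjoint (Submonoid.powers t : Set S) (l i).1.asIdeal := by
    intro i
    rw [Set.disjoint_left]
    rintro _ ⟨k, rfl⟩ hk
    exact htP (l.monotone (Fin.le_last i) ((l i).1.isPrime.mem_of_pow_mem k hk))
  let g : Fin (l.length + 1) → PrimeSpectrum (p.Fiber S') := fun i =>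
    e ⟨⟨(eo.symm ⟨(l i).1.asIdeal, (l i).1.isPrime, hd i⟩).1,
      (eo.symm ⟨(l i).1.asIdeal, (l i).1.isPrime, hd i⟩).2⟩, PrimeSpectrum.ext (by
        show Ideal.comap (algebraMap R S') _ = p
        rw [IsScalarTower.algebraMap_eq R S S', ← Ideal.comap_comap]
        have := congrArg Subtype.val (eo.apply_symm_apply ⟨(l i).1.asIdeal, (l i).1.isPrime, hd i⟩)
        change Ideal.comap (algebraMap S S') _ = _ at this
        rw [this]
        exact (l i).2)⟩
  have hg : StrictMono g := fun i j hij => e.strictMono (by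
    show (eo.symm ⟨(l i).1.asIdeal, _⟩).1 < (eo.symm ⟨(l j).1.asIdeal, _⟩).1
    exact eo.symm.strictMono (show (l i).1.asIdeal < (l j).1.asIdeal from l.strictMono hij))
  haveI : Nontrivial (p.Fiber S') := by
    rw [← PrimeSpectrum.nonempty_iff_nontrivial]; exact ⟨g 0⟩
  haveI := hS'
  have hdim : ringKrullDim (p.Fiber S') = n := SmoothDim.ringKrullDim_eq p.ResidueField (p.Fiber S') n
  have hle := Order.LTSeries.length_le_krullDim (LTSeries.mk l.length g hg)
  rw [show Order.krullDim (PrimeSpectrum (p.Fiber S')) = ringKrullDim (p.Fiber S') from rfl, hdim] at hle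
  exact_mod_cast hle

end Groth.Agent.FlatFibres
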