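import Groth.Agent.DimFormula.Trdeg
import Groth.Agent.VarDim.Catenary

/-!
# `dim + trdeg` at a point of the closed fibre

For a local ring `A`, a finite type algebra `C`, and a prime `M` over the maximal ideal of `A`,
`dim (C_M / m C_M) + fd M` is the largest `fd` of a prime of the closed fibre below `M`.
-/

set_option autoImplicit false
universe u

open IsLocalRing Order

namespace Groth.Agent.FlatFibres

variable (A : Type u) {C : Type u} [CommRing A] [IsLocalRing A] [CommRing C] [Algebra A C]

/-- The closed fibre, as an algebra over the residue field. -/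
abbrev ClosedFibre (C : Type u) [CommRing C] [Algebra A C] : Type u := C ⧸ (maximalIdeal A).map (algebraMap A C)

variable {A} [Algebra.FiniteType A C]

theorem fd_eq_coheight (P : PrimeSpectrum (ClosedFibre A C)) :
    (coheight P : WithBot ℕ∞) =
      (DimFormula.fd A (P.asIdeal.comap (Ideal.Quotient.mk ((maximalIdeal A).map (algebraMap A C)))) : WithBot ℕ∞) := by
  letI : Field (A ⧸ maximalIdeal A) := Ideal.Quotient.field _
  let π : C →ₐ[A] ClosedFibre A C := Ideal.Quotient.mkₐ A _
  let φ : C →ₐ[A] ClosedFibre A C ⧸ P.asIdeal := (Ideal.Quotient.mkₐ A P.asIdeal).comp π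
  have hφ : Function.Surjective φ := Ideal.Quotient.mk_surjective.comp Ideal.Quotient.mk_surjective
  haveI : Algebra.FiniteType A (ClosedFibre A C ⧸ P.asIdeal) := Algebra.FiniteType.of_surjective φ hφ
  haveI : Algebra.FiniteType (A ⧸ maximalIdeal A) (ClosedFibre A C ⧸ P.asIdeal) :=
    .of_restrictScalars_finiteType A (A ⧸ maximalIdeal A) _
  obtain ⟨n, hn, hnt⟩ := VarDim.exists_dim_eq_trdeg (k := A ⧸ maximalIdeal A) (ClosedFibre A C ⧸ P.asIdeal)
  have hker : RingHom.ker φ.toRingHom = P.asIdeal.comap (Ideal.Quotient.mk ((maximalIdeal A).map (algebraMap A C))) := by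
    ext x
    exact Ideal.Quotient.eq_zero_iff_mem
  haveI : (P.asIdeal.comap (Ideal.Quotient.mk ((maximalIdeal A).map (algebraMap A C)))).IsPrime :=
    Ideal.comap_isPrime _ _
  have hp : (P.asIdeal.comap (Ideal.Quotient.mk ((maximalIdeal A).map (algebraMap A C)))).under A = maximalIdeal A := by
    refine ((maximalIdeal.isMaximal A).eq_of_le (Ideal.IsPrime.ne_top (Ideal.comap_isPrime _ _)) fun a ha => ?_).symm
    rw [Ideal.mem_comap, Ideal.mem_comap, Ideal.Quotient.eq_zero_iff_mem.2 (Ideal.mem_map_of_mem _ ha)]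
    exact P.asIdeal.zero_mem
  have h := DimFormula.fd_eq_trdeg A (maximalIdeal A) φ hφ _ hker hp
  rw [hnt] at h
  rw [VarDim.coheight_eq_ringKrullDim_quotient, hn]
  exact_mod_cast (Nat.cast_inj.1 h).symm

/-- The prime of the closed fibre attached to a prime over the maximal ideal. -/
def closedFibrePoint (P : Ideal C) [P.IsPrime] (hP : P.comap (algebraMap A C) = maximalIdeal A) :
    PrimeSpectrum (ClosedFibre A C) :=
  ⟨P.map (Ideal.Quotient.mk _), Ideal.map_isPrime_of_surjective Ideal.Quotient.mk_surjective
    (by rw [Ideal.mk_ker]; exact Ideal.map_le_iff_le_comap.2 hP.ge)⟩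

theorem comap_closedFibrePoint (P : Ideal C) [P.IsPrime] (hP : P.comap (algebraMap A C) = maximalIdeal A) :
    (closedFibrePoint P hP).asIdeal.comap (Ideal.Quotient.mk ((maximalIdeal A).map (algebraMap A C))) = P := by
  show (P.map _).comap _ = P
  rw [Ideal.comap_map_of_surjective _ Ideal.Quotient.mk_surjective, ← RingHom.ker_eq_comap_bot, Ideal.mk_ker,
    sup_eq_left.2 (Ideal.map_le_iff_le_comap.2 hP.ge)]

theorem coheight_closedFibrePoint (P : Ideal C) [P.IsPrime] (hP : P.comap (algebraMap A C) = maximalIdeal A) :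
    coheight (closedFibrePoint P hP) = (DimFormula.fd A P : ℕ∞) := by
  have h := fd_eq_coheight (closedFibrePoint P hP)
  simp only [comap_closedFibrePoint P hP] at h
  exact WithBot.coe_inj.1 h

theorem comap_comap_closedFibre (P : PrimeSpectrum (ClosedFibre A C)) :
    (P.asIdeal.comap (Ideal.Quotient.mk ((maximalIdeal A).map (algebraMap A C)))).comap (algebraMap A C) = maximalIdeal A := by
  refine ((maximalIdeal.isMaximal A).eq_of_le (Ideal.IsPrime.ne_top (Ideal.comap_isPrime _ _)) fun a ha => ?_).symm
  rw [Ideal.mem_comap, Ideal.mem_comap, Ideal.Quotient.eq_zero_iff_mem.2 (Ideal.mem_map_of_mem _ ha)]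
  exact P.asIdeal.zero_mem

/-- `fd` strictly decreases along the closed fibre. -/
theorem fd_lt_of_lt {P P' : Ideal C} [P.IsPrime] [P'.IsPrime] (hP : P.comap (algebraMap A C) = maximalIdeal A)
    (hP' : P'.comap (algebraMap A C) = maximalIdeal A) (h : P < P') : DimFormula.fd A P' < DimFormula.fd A P := by
  have hlt : closedFibrePoint P hP < closedFibrePoint P' hP' := by
    refine lt_of_le_of_ne (Ideal.map_mono h.le) fun e => h.ne ?_
    rw [← comap_closedFibrePoint P hP, ← comap_closedFibrePoint P' hP', e]
  have := Order.coheight_strictAnti hlt (by rw [coheight_closedFibrePoint]; exact ENat.natCast_lt_top _)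
  rw [coheight_closedFibrePoint, coheight_closedFibrePoint] at this
  exact_mod_cast this

variable [IsNoetherianRing (ClosedFibre A C)]

/-- `height + fd` at a point of the closed fibre is the largest `fd` of its generizations. -/
theorem exists_height_add_fd (M : Ideal C) [M.IsPrime] (hM : M.comap (algebraMap A C) = maximalIdeal A) :
    ∃ h : ℕ, height (closedFibrePoint M hM) = (h : ℕ∞) ∧
      (∀ (P : Ideal C) [P.IsPrime], P.comap (algebraMap A C) = maximalIdeal A → P ≤ M →
        DimFormula.fd A P ≤ h + DimFormula.fd A M) ∧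
      ∃ (P : Ideal C) (_ : P.IsPrime), P.comap (algebraMap A C) = maximalIdeal A ∧ P ≤ M ∧
        DimFormula.fd A P = h + DimFormula.fd A M := by
  letI : Field (A ⧸ maximalIdeal A) := Ideal.Quotient.field _
  haveI : Algebra.FiniteType A (ClosedFibre A C) :=
    Algebra.FiniteType.of_surjective (Ideal.Quotient.mkₐ A _) Ideal.Quotient.mk_surjective
  haveI : Algebra.FiniteType (A ⧸ maximalIdeal A) (ClosedFibre A C) :=
    .of_restrictScalars_finiteType A (A ⧸ maximalIdeal A) _
  set q := closedFibrePoint M hM with hq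
  obtain ⟨h, hh⟩ : ∃ h : ℕ, height q = (h : ℕ∞) := by
    have hfin : height q ≠ ⊤ := by
      rw [← PrimeSpectrum.height_eq_orderHeight]
      exact Ideal.height_ne_top_of_isPrime
    obtain ⟨h, hh⟩ := ENat.ne_top_iff_exists.1 hfin
    exact ⟨h, hh.symm⟩
  have hle : ∀ p : PrimeSpectrum (ClosedFibre A C), p ≤ q → coheight p ≤ (h + DimFormula.fd A M : ℕ) := by
    intro p hp
    refine le_trans le_add_self ((VarDim.height_add_coheight_mono (A ⧸ maximalIdeal A) hp).trans ?_)
    rw [hh, coheight_closedFibrePoint, Nat.cast_add]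
  refine ⟨h, hh, fun P _ hP hPM => ?_, ?_⟩
  · have := hle (closedFibrePoint P hP) (Ideal.map_mono hPM)
    rw [coheight_closedFibrePoint] at this
    exact_mod_cast this
  · obtain ⟨l, hl, hlen⟩ := exists_series_of_height_eq_coe q hh
    obtain ⟨m, hm, hmlen⟩ := exists_series_of_coheight_eq_coe q (coheight_closedFibrePoint M hM)
    have h0 : l.head ≤ q := hl ▸ LTSeries.head_le_last l
    let P := l.head.asIdeal.comap (Ideal.Quotient.mk ((maximalIdeal A).map (algebraMap A C)))
    have hP := comap_comap_closedFibre l.head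
    haveI : P.IsPrime := Ideal.comap_isPrime _ _
    have hPM : P ≤ M := by
      rw [← comap_closedFibrePoint M hM]
      exact Ideal.comap_mono h0
    refine ⟨P, inferInstance, hP, hPM, le_antisymm ?_ ?_⟩
    · have h2 := hle l.head h0
      have h3 : (coheight l.head : WithBot ℕ∞) = (DimFormula.fd A P : WithBot ℕ∞) := fd_eq_coheight l.head
      have h4 : coheight l.head = (DimFormula.fd A P : ℕ∞) := WithBot.coe_inj.1 h3
      rw [h4] at h2
      exact_mod_cast h2
    · have h1 := length_le_coheight (p := l.smash m (hl.trans hm.symm)) (x := l.head)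
        (le_of_eq (RelSeries.head_smash _).symm)
      have h3 : (coheight l.head : WithBot ℕ∞) = (DimFormula.fd A P : WithBot ℕ∞) := fd_eq_coheight l.head
      rw [RelSeries.smash_length, hlen, hmlen, WithBot.coe_inj.1 h3] at h1
      exact_mod_cast h1

end Groth.Agent.FlatFibres
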