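import Groth.Agent.FlatFibres.FibreParameter
import Groth.Agent.FibDim.Open
import Groth.Agent.FibDim.Semicont

/-!
# Locally principal closed subsets avoiding the generic fibre, on fibres of no excess dimension
-/

set_option autoImplicit false
universe u

open AlgebraicGeometry CategoryTheory

namespace Groth.Agent.FlatFibres

theorem fd_eq_fd_quotient_base {A₁ A₀ B : Type u} [CommRing A₁] [CommRing A₀] [CommRing B] [Algebra A₁ A₀] [Algebra A₁ B]
    [Algebra A₀ B] [IsScalarTower A₁ A₀ B] [Algebra.FiniteType A₁ B] [Algebra.FiniteType A₀ B]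
    (hsurj : Function.Surjective (algebraMap A₁ A₀)) (P : Ideal B) [P.IsPrime] :
    DimFormula.fd A₁ P = DimFormula.fd A₀ P := by
  have key : ∀ {n : ℕ} (t : Fin n → B), FibDim.IndepMod (A := A₁) t P ↔ FibDim.IndepMod (A := A₀) t P := by
    intro n t
    refine ⟨fun h G hG => ?_, fun h G hG => ?_⟩
    · obtain ⟨G, rfl⟩ := MvPolynomial.map_surjective _ hsurj G
      rw [MvPolynomial.aeval_map_algebraMap] at hG
      have h1 := h G hG
      rw [MvPolynomial.mem_map_C_iff] at h1 ⊢
      intro d
      rw [MvPolynomial.coeff_map]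
      show algebraMap A₀ B (algebraMap A₁ A₀ _) ∈ P
      rw [← IsScalarTower.algebraMap_apply]
      exact h1 d
    · have h1 := h (MvPolynomial.map (algebraMap A₁ A₀) G) (by rw [MvPolynomial.aeval_map_algebraMap]; exact hG)
      rw [MvPolynomial.mem_map_C_iff] at h1 ⊢
      intro d
      have h2 := h1 d
      rw [MvPolynomial.coeff_map] at h2
      show algebraMap A₁ B _ ∈ P
      rw [IsScalarTower.algebraMap_apply A₁ A₀ B]
      exact h2
  refine eq_of_forall_le_iff fun n => ?_
  rw [DimFormula.le_fd_iff, DimFormula.le_fd_iff]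
  exact exists_congr fun t => key t

/-- A point maximal in its fibre is the generic point of a component of the fibre. -/
theorem component_of_fibMax {X Y : Scheme.{u}} (f : X ⟶ Y) {s : Y} (z : X) (hz : f z = s) (hmax : FibDim.FibMax f z) :
    closure {(⟨z, hz⟩ : ↥(f ⁻¹' {s}))} ∈ irreducibleComponents ↥(f ⁻¹' {s}) := by
  refine ⟨isIrreducible_singleton.closure, fun C' hC' hle => ?_⟩
  have hirr : IsIrreducible (closure (Subtype.val '' C')) :=
    (hC'.image _ continuous_subtype_val.continuousOn).closure
  obtain ⟨w, hw⟩ := QuasiSober.sober hirr isClosed_closure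
  have hwz : w ⤳ z := hw.specializes (subset_closure ⟨_, hle (subset_closure rfl), rfl⟩)
  have hfw : f w = s := by
    refine ((hwz.map f.continuous).antisymm ?_).eq.trans hz
    rw [hz, specializes_iff_mem_closure]
    have h1 : f w ∈ closure (f '' (Subtype.val '' C')) :=
      image_closure_subset_closure_image f.continuous ⟨w, hw.mem, rfl⟩
    refine closure_mono ?_ h1
    rintro _ ⟨_, ⟨a, -, rfl⟩, rfl⟩
    exact a.2
  have heq : w = z := hmax w hwz (hfw.trans hz.symm)
  intro a ha
  rw [closure_subtype, Set.image_singleton]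
  have := hw.specializes (subset_closure ⟨a, ha, rfl⟩)
  rw [heq] at this
  exact specializes_iff_mem_closure.1 this

end Groth.Agent.FlatFibres
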