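import Groth.Agent.FlatFibres.ValuationModel

/-!
# Cutting a domain over a valuation ring along a given element of the special fibre
-/

set_option autoImplicit false
universe u

open IsLocalRing

namespace Groth.Agent.FlatFibres

/-- Going down for a quasi-finite point of a domain over a polynomial ring of full dimension over a
normal domain. -/
theorem exists_prime_over_of_quasiFiniteAt {R B : Type u} [CommRing R] [IsDomain R] [IsIntegrallyClosed R] [CommRing B]
    [IsDomain B] [Algebra R B] [Algebra.FiniteType R B] [FaithfulSMul R B] {ι : Type} [Finite ι] (t : ι → B)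
    (hn : (Nat.card ι : Cardinal.{u}) ≤ Algebra.trdeg R B) (P : Ideal B) [P.IsPrime]
    (hqf : letI := (MvPolynomial.aeval (R := R) t).toRingHom.toAlgebra
      Algebra.QuasiFiniteAt (MvPolynomial ι R) P)
    (y : Ideal (MvPolynomial ι R)) [y.IsPrime] (hy : y ≤ P.comap (MvPolynomial.aeval (R := R) t).toRingHom) :
    ∃ Q : Ideal B, Q.IsPrime ∧ Q ≤ P ∧ Q.comap (MvPolynomial.aeval (R := R) t).toRingHom = y := by
  classical
  let A := MvPolynomial ι R
  let φ : A →ₐ[R] B := MvPolynomial.aeval t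
  letI : Algebra A B := φ.toRingHom.toAlgebra
  haveI : IsScalarTower R A B := .of_algebraMap_eq fun x => (φ.commutes x).symm
  haveI : Algebra.FiniteType A B := Algebra.FiniteType.of_restrictScalars_finiteType R A B
  haveI : Algebra.QuasiFiniteAt A P := hqf
  obtain ⟨r, hrP, hr, hrx⟩ := Algebra.zariskisMainProperty_iff.1 (Algebra.ZariskisMainProperty.of_finiteType (R := A) P)
  have hr0 : r ≠ 0 := fun h => hrP (h ▸ P.zero_mem)
  let A' := Algebra.adjoin R (Set.range t)
  have hmem : ∀ x, φ x ∈ A' := fun x => by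
    show φ x ∈ Algebra.adjoin R (Set.range t)
    rw [Algebra.adjoin_range_eq_range_aeval]; exact ⟨x, rfl⟩
  let ψ : A →ₐ[R] A' := φ.codRestrict A' hmem
  have halg' : ∀ x : B, IsIntegral A x → IsAlgebraic A' x := fun x hx =>
    (IsIntegral.map_of_comp_eq (ψ.toRingHom) (RingHom.id B) rfl hx).isAlgebraic
  haveI : Algebra.IsAlgebraic A' B := ⟨fun x => by
    obtain ⟨k, hk⟩ := hrx x
    exact IsAlgebraic.of_mul (mem_nonZeroDivisors_of_ne_zero (pow_ne_zero k hr0)) ((halg' r hr).pow k) (halg' _ hk)⟩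
  have htb : IsTranscendenceBasis R t :=
    Algebra.IsAlgebraic.isTranscendenceBasis_of_lift_le_trdeg_of_finite R t (by
      haveI := Fintype.ofFinite ι
      rw [Cardinal.mk_fintype, Cardinal.lift_natCast, ← Nat.card_eq_fintype_card]
      simpa using hn)
  have hφ : Function.Injective φ := algebraicIndependent_iff_injective_aeval.1 htb.1
  haveI : FaithfulSMul A B := (faithfulSMul_iff_algebraMap_injective _ _).2 hφ
  haveI : IsIntegrallyClosed A := by
    haveI := Groth.Agent.UnivOpen.isIntegrallyClosed_mvPolynomial R (ULift.{u} ι)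
    exact IsIntegrallyClosed.of_equiv (MvPolynomial.renameEquiv R Equiv.ulift).toRingEquiv
  let C := integralClosure A B
  haveI : FaithfulSMul A C := (faithfulSMul_iff_algebraMap_injective _ _).2
    fun a b h => hφ (congrArg Subtype.val h)
  haveI : Algebra.HasGoingDown A C := inferInstance
  let PC : Ideal C := P.comap C.val
  haveI : PC.IsPrime := Ideal.comap_isPrime _ _
  haveI : (P.comap φ.toRingHom).IsPrime := Ideal.comap_isPrime _ _
  haveI : PC.LiesOver (P.comap φ.toRingHom) := ⟨rfl⟩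
  obtain ⟨QC, hQC, hQCp, hQCy⟩ := Ideal.exists_ideal_le_liesOver_of_le (p := y) (q := P.comap φ.toRingHom) PC hy
  have hrQ : (⟨r, hr⟩ : C) ∉ QC := fun h => hrP (hQC h)
  have key : ∀ {c : C} {k : ℕ}, (⟨r, hr⟩ : C) ^ k * c ∈ QC → c ∈ QC := fun {c k} h =>
    (hQCp.mem_or_mem h).resolve_left fun h' => hrQ (hQCp.mem_of_pow_mem _ h')
  let Q : Ideal B :=
    { carrier := {b | ∃ (k : ℕ) (h : IsIntegral A (r ^ k * b)), (⟨r ^ k * b, h⟩ : C) ∈ QC}
      zero_mem' := ⟨0, by rw [mul_zero]; exact isIntegral_zero, by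
        simp only [mul_zero]; exact QC.zero_mem⟩
      add_mem' := by
        rintro a b ⟨k, hk, hka⟩ ⟨l, hl, hlb⟩
        have h := QC.add_mem (QC.mul_mem_left ((⟨r, hr⟩ : C) ^ l) hka) (QC.mul_mem_left ((⟨r, hr⟩ : C) ^ k) hlb)
        have e1 : r ^ (k + l) * (a + b) = r ^ l * (r ^ k * a) + r ^ k * (r ^ l * b) := by ring
        exact ⟨k + l, e1 ▸ ((hr.pow l).mul hk).add ((hr.pow k).mul hl), by convert h using 1; exact Subtype.ext e1⟩
      smul_mem' := by
        rintro c b ⟨k, hk, hkb⟩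
        obtain ⟨l, hl⟩ := hrx c
        have h := QC.mul_mem_left (⟨r ^ l * c, hl⟩ : C) hkb
        have e1 : r ^ (l + k) * (c • b) = (r ^ l * c) * (r ^ k * b) := by rw [smul_eq_mul]; ring
        exact ⟨l + k, e1 ▸ hl.mul hk, by convert h using 1; exact Subtype.ext e1⟩ }
  have hQC' : ∀ c : C, (c : B) ∈ Q ↔ c ∈ QC := fun c => by
    refine ⟨?_, fun h => ⟨0, by rw [pow_zero, one_mul]; exact c.2, by simpa using h⟩⟩
    rintro ⟨k, hk, h⟩
    exact key (c := c) (k := k) (by convert h using 1; exact Subtype.ext rfl)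
  refine ⟨Q, ⟨fun h => hQCp.ne_top ((Ideal.eq_top_iff_one _).2 ((hQC' 1).1 (h ▸ Submodule.mem_top))), ?_⟩,
    fun b hb => ?_, ?_⟩
  · rintro a b ⟨m, hm, hab⟩
    obtain ⟨k, hk⟩ := hrx a
    obtain ⟨l, hl⟩ := hrx b
    have h1 : (⟨r ^ k * a, hk⟩ * ⟨r ^ l * b, hl⟩ : C) ∈ QC := by
      refine key (k := m) ?_
      convert QC.mul_mem_left ((⟨r, hr⟩ : C) ^ (k + l)) hab using 1
      exact Subtype.ext (show r ^ m * (r ^ k * a * (r ^ l * b)) = r ^ (k + l) * (r ^ m * (a * b)) by ring)
    exact (hQCp.mem_or_mem h1).imp (fun h => ⟨k, hk, h⟩) fun h => ⟨l, hl, h⟩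
  · obtain ⟨k, hk, h⟩ := hb
    exact ((‹P.IsPrime›).mem_or_mem (hQC h : r ^ k * b ∈ P)).resolve_left fun h' => hrP ((‹P.IsPrime›).mem_of_pow_mem _ h')
  · ext a
    rw [hQCy.over, Ideal.mem_comap]
    exact hQC' (algebraMap A C a)

/-- The substitution killing the variable `i0` has prime kernel, over `0` of the base. -/
theorem exists_prime_single_variable (R : Type u) [CommRing R] [IsDomain R] {ι : Type} (i0 : ι) :
    ∃ y : Ideal (MvPolynomial ι R), y.IsPrime ∧ MvPolynomial.X i0 ∈ y ∧ y.comap MvPolynomial.C = ⊥ ∧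
      y ≤ Ideal.span {MvPolynomial.X i0} := by
  classical
  let σ : MvPolynomial ι R →ₐ[R] MvPolynomial ι R :=
    MvPolynomial.aeval fun i => if i = i0 then 0 else MvPolynomial.X i
  refine ⟨RingHom.ker σ, RingHom.ker_isPrime _, by simp [σ], ?_, fun G hG => ?_⟩
  · rw [eq_bot_iff]
    intro a ha
    have : σ (MvPolynomial.C a) = 0 := ha
    rw [show σ (MvPolynomial.C a) = MvPolynomial.C a from MvPolynomial.aeval_C _ a] at this
    simpa using this
  · have key : ∀ G : MvPolynomial ι R, G - σ G ∈ Ideal.span {MvPolynomial.X i0} := fun G => by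
      induction G using MvPolynomial.induction_on with
      | C a => simp [σ]
      | add p q hp hq =>
        rw [map_add, add_sub_add_comm]
        exact Ideal.add_mem _ hp hq
      | mul_X p i hp =>
        rw [map_mul, show σ (MvPolynomial.X i) = if i = i0 then 0 else MvPolynomial.X i from MvPolynomial.aeval_X _ i]
        split
        · next h =>
          rw [mul_zero, sub_zero, h]
          exact Ideal.mul_mem_left _ _ (Ideal.mem_span_singleton_self _)
        · rw [← sub_mul]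
          exact Ideal.mul_mem_right _ _ hp
    have h := key G
    rwa [show σ G = 0 from hG, sub_zero] at h

/-- A prime of a quotient by an element avoiding the minimal primes has smaller height. -/
theorem height_map_span_lt {D : Type u} [CommRing D] [IsNoetherianRing D] (c : D) (q : PrimeSpectrum D) (hc : c ∈ q.asIdeal)
    (hmin : ∀ t ∈ minimalPrimes D, t ≤ q.asIdeal → c ∉ t) {h : ℕ} (hh : Order.height q = (h : ℕ∞)) :
    ∃ (q' : PrimeSpectrum (D ⧸ Ideal.span {c})) (r : ℕ), q'.asIdeal.comap (Ideal.Quotient.mk _) = q.asIdeal ∧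
      q'.asIdeal.height = (r : ℕ∞) ∧ r + 1 ≤ h := by
  have hle : Ideal.span {c} ≤ q.asIdeal := (Ideal.span_singleton_le_iff_mem _).2 hc
  let q' : PrimeSpectrum (D ⧸ Ideal.span {c}) := ⟨q.asIdeal.map (Ideal.Quotient.mk _),
    Ideal.map_isPrime_of_surjective Ideal.Quotient.mk_surjective (by rw [Ideal.mk_ker]; exact hle)⟩
  have hq' : q'.asIdeal.comap (Ideal.Quotient.mk _) = q.asIdeal := by
    show (q.asIdeal.map _).comap _ = _
    rw [Ideal.comap_map_of_surjective _ Ideal.Quotient.mk_surjective, ← RingHom.ker_eq_comap_bot, Ideal.mk_ker,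
      sup_eq_left.2 hle]
  haveI : q'.asIdeal.IsPrime := q'.isPrime
  obtain ⟨r, hr⟩ : ∃ r : ℕ, q'.asIdeal.height = (r : ℕ∞) := by
    obtain ⟨r, hr⟩ := ENat.ne_top_iff_exists.1 (Ideal.height_ne_top_of_isPrime (I := q'.asIdeal))
    exact ⟨r, hr.symm⟩
  obtain ⟨l, hl, hlen⟩ := Order.exists_series_of_height_eq_coe q' (by rw [← PrimeSpectrum.height_eq_orderHeight]; exact hr)
  let l' := l.map (PrimeSpectrum.comap (Ideal.Quotient.mk (Ideal.span {c})))
    (RingHom.strictMono_comap_of_surjective Ideal.Quotient.mk_surjective)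
  have hhead : c ∈ l'.head.asIdeal := by
    show Ideal.Quotient.mk _ c ∈ l.head.asIdeal
    rw [Ideal.Quotient.eq_zero_iff_mem.2 (Ideal.mem_span_singleton_self c)]
    exact l.head.asIdeal.zero_mem
  obtain ⟨t, ht, htl⟩ := Ideal.exists_minimalPrimes_le (bot_le : (⊥ : Ideal D) ≤ l'.head.asIdeal)
  have hlast : l'.last = q := by
    show PrimeSpectrum.comap _ l.last = q
    rw [hl]
    exact PrimeSpectrum.ext hq'
  have htq : t ≤ q.asIdeal := htl.trans (by rw [← hlast]; exact LTSeries.head_le_last l')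
  have hlt : (⟨t, ht.1.1⟩ : PrimeSpectrum D) < l'.head :=
    lt_of_le_of_ne htl fun e => hmin t ht htq ((congrArg PrimeSpectrum.asIdeal e).ge hhead)
  have hlen' := Order.length_le_height (p := l'.cons ⟨t, ht.1.1⟩ hlt) (x := q)
    (le_of_eq (by rw [RelSeries.last_cons, hlast]))
  rw [hh, RelSeries.cons_length] at hlen'
  refine ⟨q', r, hq', hr, ?_⟩
  have : l'.length = r := hlen
  rw [this] at hlen'
  exact_mod_cast hlen'

/-- An element isolating a minimal prime among the primes containing given generators. -/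
theorem exists_isolating_element {D E : Type*} [CommRing D] [CommRing E] [IsNoetherianRing E] (ρ : D →+* E)
    (hρ : Function.Surjective ρ) (T : Finset E) (q' : Ideal E) [q'.IsPrime]
    (hmin : q' ∈ (Ideal.span (T : Set E)).minimalPrimes) :
    ∃ (t : Fin T.card → D) (e : D), (∀ i, t i ∈ q'.comap ρ) ∧ e ∉ q'.comap ρ ∧
      ∀ Q : Ideal D, Q.IsPrime → RingHom.ker ρ ≤ Q → (∀ i, t i ∈ Q) → e ∉ Q → q'.comap ρ ≤ Q := by
  classical
  choose lift hlift using hρ
  let others := (Ideal.span (T : Set E)).minimalPrimes \ {q'}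
  have hfin : others.Finite := (Ideal.finite_minimalPrimes_of_isNoetherianRing _ _).sdiff
  obtain ⟨eb, heb, hebP⟩ := SetLike.not_le_iff_exists.1 (show ¬ hfin.toFinset.inf id ≤ q' from fun h => by
    obtain ⟨s, hs, hsq⟩ := (Ideal.IsPrime.inf_le' ‹q'.IsPrime›).1 h
    rw [Set.Finite.mem_toFinset] at hs
    exact hs.2 (hsq.antisymm (hmin.2 ⟨hs.1.1.1, hs.1.1.2⟩ hsq)))
  refine ⟨fun i => lift (T.equivFin.symm i), lift eb, fun i => ?_, fun h => hebP (by rwa [Ideal.mem_comap, hlift] at h),
    fun Q hQ hker htQ heQ => ?_⟩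
  · rw [Ideal.mem_comap, hlift]
    exact hmin.1.2 (Ideal.subset_span (T.equivFin.symm i).2)
  haveI : (Q.map ρ).IsPrime := Ideal.map_isPrime_of_surjective (fun x => ⟨lift x, hlift x⟩) hker
  have hQb : (Q.map ρ).comap ρ = Q := by
    rw [Ideal.comap_map_of_surjective _ (fun x => ⟨lift x, hlift x⟩), ← RingHom.ker_eq_comap_bot, sup_eq_left.2 hker]
  have hJ : Ideal.span (T : Set E) ≤ Q.map ρ := by
    rw [Ideal.span_le]
    intro x hx
    have := htQ (T.equivFin ⟨x, hx⟩)
    simp only [Equiv.symm_apply_apply] at this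
    rw [← hlift x]
    exact Ideal.mem_map_of_mem ρ this
  obtain ⟨s, hs, hsQ⟩ := Ideal.exists_minimalPrimes_le hJ
  by_cases hsq : s = q'
  · exact hQb ▸ Ideal.comap_mono (hsq ▸ hsQ)
  · refine absurd ?_ heQ
    rw [← hQb, Ideal.mem_comap, hlift]
    exact hsQ ((Finset.inf_le (f := id) (hfin.mem_toFinset.2 ⟨hs, hsq⟩) :) heb)

/-- Parameters of the special fibre at `P`, the first of which is `c`. -/
theorem exists_params_starting_at {R D : Type u} [CommRing R] [IsLocalRing R] [CommRing D] [Algebra R D] [Algebra.FiniteType R D]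
    (P : Ideal D) [P.IsPrime] (hPR : P.comap (algebraMap R D) = maximalIdeal R) (c : D) (hc : c ∈ P)
    (hmin : ∀ T : Ideal D, T.IsPrime → T ≤ P → T.comap (algebraMap R D) = maximalIdeal R →
      (∀ Q : Ideal D, Q.IsPrime → Q ≤ T → Q.comap (algebraMap R D) = maximalIdeal R → Q = T) → c ∉ T) :
    ∃ (r : ℕ) (t : Fin r → D) (e : D), (∀ i, t i ∈ P) ∧ e ∉ P ∧
      (∀ Q : Ideal D, Q.IsPrime → Q.comap (algebraMap R D) = maximalIdeal R → c ∈ Q → (∀ i, t i ∈ Q) → e ∉ Q → P ≤ Q) ∧
      ∃ (P0 : Ideal D) (_ : P0.IsPrime), P0.comap (algebraMap R D) = maximalIdeal R ∧ P0 ≤ P ∧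
        r + 1 + DimFormula.fd R P ≤ DimFormula.fd R P0 := by
  letI : Field (R ⧸ maximalIdeal R) := Ideal.Quotient.field _
  haveI : Algebra.FiniteType R (ClosedFibre R D) :=
    Algebra.FiniteType.of_surjective (Ideal.Quotient.mkₐ R _) Ideal.Quotient.mk_surjective
  haveI : Algebra.FiniteType (R ⧸ maximalIdeal R) (ClosedFibre R D) :=
    .of_restrictScalars_finiteType R (R ⧸ maximalIdeal R) _
  haveI : IsNoetherianRing (ClosedFibre R D) := Algebra.FiniteType.isNoetherianRing (R ⧸ maximalIdeal R) _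
  obtain ⟨h, hh, -, P0, hP0, hP0R, hP0P, hP0fd⟩ := exists_height_add_fd P hPR
  let π : D →+* ClosedFibre R D := Ideal.Quotient.mk _
  have hπ : Function.Surjective π := Ideal.Quotient.mk_surjective
  have hqP : (closedFibrePoint P hPR).asIdeal.comap π = P := comap_closedFibrePoint P hPR
  obtain ⟨q', r, hq', hr, hrh⟩ := height_map_span_lt (π c) (closedFibrePoint P hPR) (hqP.ge hc) (fun t ht htq hct => by
    haveI := ht.1.1
    refine hmin (t.comap π) (Ideal.comap_isPrime _ _) ((Ideal.comap_mono htq).trans hqP.le)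
      (comap_comap_closedFibre ⟨t, ht.1.1⟩) (fun Q hQ hQT hQR => ?_) hct
    have hker : RingHom.ker π ≤ Q := by
      rw [show RingHom.ker π = _ from Ideal.mk_ker]
      exact Ideal.map_le_iff_le_comap.2 hQR.ge
    have hb : (Q.map π).comap π = Q := by
      rw [Ideal.comap_map_of_surjective π hπ, ← RingHom.ker_eq_comap_bot, sup_eq_left.2 hker]
    haveI : (Q.map π).IsPrime := Ideal.map_isPrime_of_surjective hπ hker
    have hle : Q.map π ≤ t := Ideal.map_le_iff_le_comap.2 hQT
    rw [← hb, le_antisymm hle (ht.2 ⟨inferInstance, bot_le⟩ hle)]) hh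
  obtain ⟨T, hTmin, hTcard⟩ := Ideal.exists_finset_card_eq_height_of_isNoetherianRing q'.asIdeal
  have hTr : T.card = r := by rw [hr] at hTcard; exact_mod_cast hTcard
  let ρ : D →+* ClosedFibre R D ⧸ Ideal.span {π c} := (Ideal.Quotient.mk _).comp π
  obtain ⟨t, e, ht, he, hiso⟩ := exists_isolating_element ρ (Ideal.Quotient.mk_surjective.comp hπ) T q'.asIdeal hTmin
  have hP : q'.asIdeal.comap ρ = P := by rw [← Ideal.comap_comap, hq', hqP]
  rw [hP] at ht he
  refine ⟨T.card, t, e, ht, he, fun Q hQ hQR hcQ htQ heQ => hP.ge.trans (hiso Q hQ (fun x hx => ?_) htQ heQ),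
    P0, hP0, hP0R, hP0P, by omega⟩
  obtain ⟨y, hy⟩ := Ideal.mem_span_singleton'.1 (Ideal.Quotient.eq_zero_iff_mem.1 (RingHom.mem_ker.1 hx))
  obtain ⟨y, rfl⟩ := hπ y
  rw [← map_mul] at hy
  rw [← sub_add_cancel x (y * c)]
  exact Q.add_mem ((Ideal.map_le_iff_le_comap.2 hQR.ge) (Ideal.Quotient.eq.1 hy.symm)) (Q.mul_mem_left y hcQ)

/-- Below a point of the special fibre where `c` avoids the fibre's minimal primes there is a prime over
the generic point containing `c`. -/
theorem exists_prime_mem_le {R D : Type u} [CommRing R] [IsDomain R] [ValuationRing R] [CommRing D] [IsDomain D]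
    [Algebra R D] [Algebra.FiniteType R D] (hinj : Function.Injective (algebraMap R D))
    (P : Ideal D) [P.IsPrime] (hPR : P.comap (algebraMap R D) = maximalIdeal R) (c : D) (hc : c ∈ P)
    (hmin : ∀ T : Ideal D, T.IsPrime → T ≤ P → T.comap (algebraMap R D) = maximalIdeal R →
      (∀ Q : Ideal D, Q.IsPrime → Q ≤ T → Q.comap (algebraMap R D) = maximalIdeal R → Q = T) → c ∉ T)
    (hbound : ∀ T : Ideal D, ∀ [T.IsPrime], T.comap (algebraMap R D) = maximalIdeal R → T ≤ P →
      DimFormula.fd R T ≤ DimFormula.fd R (⊥ : Ideal D)) :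
    ∃ Q : Ideal D, Q.IsPrime ∧ Q ≤ P ∧ c ∈ Q ∧ Q.comap (algebraMap R D) = ⊥ := by
  classical
  haveI : FaithfulSMul R D := (faithfulSMul_iff_algebraMap_injective _ _).2 hinj
  obtain ⟨r, w, e, hwP, heP, hiso, P0, hP0, hP0R, hP0P, hP0fd⟩ := exists_params_starting_at P hPR c hc hmin
  have hn : r + 1 + DimFormula.fd R P ≤ DimFormula.fd R (⊥ : Ideal D) := by
    haveI := hP0
    exact hP0fd.trans (hbound P0 hP0R hP0P)
  obtain ⟨u, hu⟩ := (DimFormula.le_fd_iff R P _).1 le_rfl
  let ι := Option (Fin r) ⊕ Fin (DimFormula.fd R P)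
  let t : ι → D := Sum.elim (fun o => o.elim c w) u
  have htP : ∀ o, t (Sum.inl o) ∈ P := by
    rintro (_ | i)
    · exact hc
    · exact hwP i
  let φ := MvPolynomial.aeval (R := R) t
  have hcard : (Nat.card ι : Cardinal.{u}) ≤ Algebra.trdeg R D := by
    rw [← DimFormula.fd_bot_eq_trdeg R (B := D)]
    have : Nat.card ι ≤ DimFormula.fd R (⊥ : Ideal D) := by
      simp only [ι, Nat.card_eq_fintype_card, Fintype.card_sum, Fintype.card_option, Fintype.card_fin]
      omega
    exact_mod_cast this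
  have hfib : ∀ Q : Ideal D, Q.IsPrime → Q.comap φ.toRingHom = P.comap φ.toRingHom → e ∉ Q → Q = P := by
    intro Q hQ hQy heQ
    have hcomp : φ.toRingHom.comp (algebraMap R (MvPolynomial ι R)) = algebraMap R D := φ.comp_algebraMap
    have hQR : Q.comap (algebraMap R D) = maximalIdeal R := by
      rw [← hcomp, ← Ideal.comap_comap, hQy, Ideal.comap_comap, hcomp, hPR]
    have htQ : ∀ o, t (Sum.inl o) ∈ Q := fun o => by
      have h : (MvPolynomial.X (Sum.inl o) : MvPolynomial ι R) ∈ P.comap φ.toRingHom := by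
        show φ (MvPolynomial.X (Sum.inl o)) ∈ P
        rw [MvPolynomial.aeval_X]; exact htP o
      have h' : φ (MvPolynomial.X (Sum.inl o)) ∈ Q := hQy.ge h
      rwa [MvPolynomial.aeval_X] at h'
    have hPQ : P ≤ Q := hiso Q hQ hQR (htQ none) (fun i => htQ (some i)) heQ
    by_contra hne
    haveI := hQ
    have h1 : DimFormula.fd R Q < DimFormula.fd R P := fd_lt_of_lt hPR hQR (lt_of_le_of_ne hPQ (Ne.symm hne))
    have h2 : DimFormula.fd R P ≤ DimFormula.fd R Q := by
      refine (DimFormula.le_fd_iff R Q _).2 ⟨u, fun G hG => ?_⟩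
      have hG' : φ (MvPolynomial.rename Sum.inr G) ∈ Q := by
        rw [MvPolynomial.aeval_rename]; exact hG
      have hG'' : φ (MvPolynomial.rename Sum.inr G) ∈ P := hQy.le hG'
      rw [MvPolynomial.aeval_rename] at hG''
      have := hu G hG''
      rwa [show P.under R = maximalIdeal R from hPR, ← hQR] at this
    omega
  have hqf : letI := φ.toRingHom.toAlgebra
      Algebra.QuasiFiniteAt (MvPolynomial ι R) P := by
    letI : Algebra (MvPolynomial ι R) D := φ.toRingHom.toAlgebra
    haveI : IsScalarTower R (MvPolynomial ι R) D := .of_algebraMap_eq fun x => (φ.commutes x).symm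
    haveI : Algebra.FiniteType (MvPolynomial ι R) D := Algebra.FiniteType.of_restrictScalars_finiteType R _ D
    refine Algebra.QuasiFiniteAt.of_isOpen_singleton_fiber (⟨P, inferInstance⟩ : PrimeSpectrum D) ?_
    rw [isOpen_induced_iff]
    refine ⟨PrimeSpectrum.basicOpen e, (PrimeSpectrum.basicOpen e).isOpen, ?_⟩
    ext ⟨Q, hQ⟩
    simp only [Set.mem_preimage, SetLike.mem_coe, PrimeSpectrum.mem_basicOpen, Set.mem_singleton_iff]
    refine ⟨fun heQ => Subtype.ext (PrimeSpectrum.ext (hfib Q.asIdeal Q.isPrime (congrArg PrimeSpectrum.asIdeal hQ) heQ)),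
      fun h => ?_⟩
    have : Q.asIdeal = P := congrArg (fun z => z.1.asIdeal) h
    rw [this]; exact heP
  obtain ⟨y, hy, hXy, hyC, hyle⟩ := exists_prime_single_variable R (ι := ι) (Sum.inl none)
  haveI := hy
  obtain ⟨Q, hQ, hQP, hQy⟩ := exists_prime_over_of_quasiFiniteAt t hcard P hqf y (hyle.trans (by
    rw [Ideal.span_singleton_le_iff_mem, Ideal.mem_comap]
    show φ (MvPolynomial.X _) ∈ P
    rw [MvPolynomial.aeval_X]
    exact htP none))
  refine ⟨Q, hQ, hQP, ?_, ?_⟩
  · have : φ (MvPolynomial.X (Sum.inl none)) ∈ Q := hQy.ge hXy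
    rwa [MvPolynomial.aeval_X] at this
  · rw [← hyC, ← hQy, Ideal.comap_comap]
    congr 1
    exact φ.comp_algebraMap.symm

end Groth.Agent.FlatFibres
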