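import Groth.Agent.FlatFibres.LocalModel
import Groth.Agent.FlatFibres.GoingDownCut
import Mathlib.RingTheory.RingHom.FiniteType

/-!
# Hypersurfaces through a point of a fibre of no excess dimension

`A → C` of finite type, injective, of domains, `q` a prime over `p`. If no prime of the fibre below `q`
has degree above the generic one and `c ∈ q` avoids the minimal ones, then `V(c)` meets the generic
fibre at a prime below `q`.
-/

set_option autoImplicit false
universe u

open IsLocalRing

namespace Groth.Agent.FlatFibres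

theorem exists_prime_mem_of_bound_local {A C B : Type u} [CommRing A] [IsDomain A] [IsLocalRing A] [CommRing C] [IsDomain C]
    [CommRing B] [IsDomain B] [IsLocalRing B] [Algebra A C] [Algebra A B] [Algebra C B] [IsScalarTower A C B]
    [FaithfulSMul A B] [IsLocalHom (algebraMap A B)] [Algebra.FiniteType A C]
    (M : Ideal C) [M.IsPrime] [IsLocalization.AtPrime B M] (hM : M = (maximalIdeal B).comap (algebraMap C B))
    (c : C) (hcM : c ∈ M)
    (hbound : ∀ (P : Ideal C) [P.IsPrime], P.comap (algebraMap A C) = maximalIdeal A → P ≤ M →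
      (DimFormula.fd A P : Cardinal.{u}) ≤ Algebra.trdeg A B)
    (hmin : ∀ P : Ideal C, P.IsPrime → P ≤ M → P.comap (algebraMap A C) = maximalIdeal A →
      (∀ Q : Ideal C, Q.IsPrime → Q ≤ P → Q.comap (algebraMap A C) = maximalIdeal A → Q = P) → c ∉ P) :
    ∃ Q : Ideal C, Q.IsPrime ∧ Q ≤ M ∧ c ∈ Q ∧ Q.comap (algebraMap A C) = ⊥ := by
  obtain ⟨m, hn, -⟩ := exists_valModel (A := A) (B := B) M hM
  have hle : ∀ (P : Ideal C) [P.IsPrime], P.comap (algebraMap A C) = maximalIdeal A → P ≤ M →
      DimFormula.fd A P ≤ DimFormula.fd m.R (⊥ : Ideal m.D) := fun P _ hP hPM => by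
    have := hbound P hP hPM
    rw [← hn] at this
    exact_mod_cast this
  obtain ⟨Q, hQ, hQP, hcQ, hQR⟩ := exists_prime_mem_le m.injD m.P m.hPR (m.χ c) (m.hPM.ge hcM)
    (fun T hT hTP hTR hTmin hcT => by
      haveI := hT
      have hP0A := m.comap_χ_maximal T hTR
      have hP0M : T.comap m.χ ≤ M := (Ideal.comap_mono hTP).trans m.hPM.le
      have hge : DimFormula.fd m.R (⊥ : Ideal m.D) ≤ DimFormula.fd A (T.comap m.χ) :=
        (m.fd_eq_generic_of_minimal T hTR hTmin).ge.trans (m.fd_le_fd_comap T)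
      refine hmin _ (Ideal.comap_isPrime _ _) hP0M hP0A (fun Q hQ hQP hQA => ?_) hcT
      by_contra hne
      haveI := hQ
      have h1 := fd_lt_of_lt hQA hP0A (lt_of_le_of_ne hQP hne)
      have h2 := hle Q hQA (hQP.trans hP0M)
      omega)
    (fun T _ _ _ => m.fd_le_generic T)
  refine ⟨Q.comap m.χ, Ideal.comap_isPrime _ _, (Ideal.comap_mono hQP).trans m.hPM.le, hcQ, ?_⟩
  rw [m.comap_χ_algebraMap, hQR]
  exact Ideal.comap_bot_of_injective _ m.injA

/-- Rescaling variables by units respects extended ideals. -/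
theorem mem_map_C_of_scale {A σ : Type*} [CommRing A] (I : Ideal A) (u : σ → A) (hu : ∀ i, IsUnit (u i))
    (G : MvPolynomial σ A)
    (h : MvPolynomial.aeval (fun i => MvPolynomial.C (u i) * MvPolynomial.X i) G ∈ I.map (MvPolynomial.C (σ := σ))) :
    G ∈ I.map (MvPolynomial.C (σ := σ)) := by
  let τ : MvPolynomial σ A →ₐ[A] MvPolynomial σ A :=
    MvPolynomial.aeval fun i => MvPolynomial.C (((hu i).unit⁻¹ : Aˣ) : A) * MvPolynomial.X i
  have hinv : τ.comp (MvPolynomial.aeval fun i => MvPolynomial.C (u i) * MvPolynomial.X i) = AlgHom.id A _ := by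
    refine MvPolynomial.algHom_ext fun i => ?_
    rw [AlgHom.comp_apply, MvPolynomial.aeval_X, map_mul, MvPolynomial.aeval_C, MvPolynomial.aeval_X, AlgHom.id_apply,
      ← MvPolynomial.C_eq_algebraMap, ← mul_assoc, ← map_mul, IsUnit.mul_val_inv, map_one, one_mul]
  have hle : I.map (MvPolynomial.C (σ := σ)) ≤ (I.map (MvPolynomial.C (σ := σ))).comap τ.toRingHom :=
    Ideal.map_le_iff_le_comap.2 fun b hb => by
      simp only [Ideal.mem_comap, AlgHom.toRingHom_eq_coe, RingHom.coe_coe]
      rw [MvPolynomial.aeval_C]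
      exact Ideal.mem_map_of_mem _ hb
  have := hle h
  rwa [Ideal.mem_comap, AlgHom.toRingHom_eq_coe, RingHom.coe_coe, ← AlgHom.comp_apply, hinv, AlgHom.id_apply] at this

/-- Evaluation of a rescaled polynomial. -/
theorem aeval_scale {A₀ A C₀ C : Type*} [CommRing A₀] [CommRing A] [CommRing C₀] [CommRing C]
    [Algebra A₀ C₀] [Algebra A₀ A] [Algebra A C] [Algebra C₀ C] [Algebra A₀ C] [IsScalarTower A₀ A C]
    [IsScalarTower A₀ C₀ C] {σ : Type*} (u : σ → A) (x : σ → C₀) (t : σ → C)
    (h : ∀ i, algebraMap C₀ C (x i) = algebraMap A C (u i) * t i) (G : MvPolynomial σ A₀) :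
    MvPolynomial.aeval t (MvPolynomial.aeval (fun i => MvPolynomial.C (u i) * MvPolynomial.X i)
      (MvPolynomial.map (algebraMap A₀ A) G)) = algebraMap C₀ C (MvPolynomial.aeval x G) := by
  induction G using MvPolynomial.induction_on with
  | C a =>
    simp only [MvPolynomial.map_C, MvPolynomial.aeval_C, ← MvPolynomial.C_eq_algebraMap]
    rw [← IsScalarTower.algebraMap_apply A₀ C₀ C, ← IsScalarTower.algebraMap_apply A₀ A C]
  | add p q hp hq => simp only [map_add, hp, hq]
  | mul_X p i hp => simp only [map_mul, MvPolynomial.map_X, MvPolynomial.aeval_X, MvPolynomial.aeval_C, hp, h i]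

/-- Relative degree does not grow when the base is localised at the prime below. -/
theorem fd_le_fd_comap_localization {A₀ A C₀ C : Type u} [CommRing A₀] [CommRing A] [CommRing C₀] [CommRing C]
    [Algebra A₀ C₀] [Algebra A₀ A] [Algebra A C] [Algebra C₀ C] [Algebra A₀ C] [IsScalarTower A₀ A C]
    [IsScalarTower A₀ C₀ C] [Algebra.FiniteType A C] [Algebra.FiniteType A₀ C₀]
    (S : Submonoid A₀) [IsLocalization S A] [IsLocalization (Algebra.algebraMapSubmonoid C₀ S) C]
    (P : Ideal C) [P.IsPrime] :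
    DimFormula.fd A P ≤ DimFormula.fd A₀ (P.comap (algebraMap C₀ C)) := by
  classical
  obtain ⟨t, ht⟩ := (DimFormula.le_fd_iff A P _).1 le_rfl
  revert t ht
  generalize DimFormula.fd A P = n
  intro t ht
  choose x hx using fun i => IsLocalization.surj (Algebra.algebraMapSubmonoid C₀ S) (t i)
  choose a ha hae using fun i => (x i).2.2
  have hu : ∀ i, IsUnit (algebraMap A₀ A (a i)) := fun i => IsLocalization.map_units A (⟨a i, ha i⟩ : S)
  have hxt : ∀ i, algebraMap C₀ C (x i).1 = algebraMap A C (algebraMap A₀ A (a i)) * t i := fun i => by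
    rw [← hx i, mul_comm, ← hae i, ← IsScalarTower.algebraMap_apply A₀ C₀ C, ← IsScalarTower.algebraMap_apply A₀ A C]
  refine (DimFormula.le_fd_iff A₀ _ _).2 ⟨fun i => (x i).1, fun G hG => ?_⟩
  have h3 := mem_map_C_of_scale (P.under A) _ hu (MvPolynomial.map (algebraMap A₀ A) G)
    (ht _ (by rw [aeval_scale (C₀ := C₀) _ (fun i => (x i).1) t hxt G]; exact hG))
  rw [MvPolynomial.mem_map_C_iff] at h3 ⊢
  intro d
  have h4 := h3 d
  rw [MvPolynomial.coeff_map] at h4
  show algebraMap C₀ C (algebraMap A₀ C₀ _) ∈ P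
  rw [← IsScalarTower.algebraMap_apply A₀ C₀ C, IsScalarTower.algebraMap_apply A₀ A C]
  exact h4

/-- A hypersurface through `q` avoiding the minimal primes of a fibre of no excess dimension meets the
generic fibre below `q`. -/
theorem exists_prime_mem_of_bound {A₀ C₀ : Type u} [CommRing A₀] [IsDomain A₀] [CommRing C₀] [IsDomain C₀] [Algebra A₀ C₀]
    [Algebra.FiniteType A₀ C₀] [FaithfulSMul A₀ C₀] (q : Ideal C₀) [q.IsPrime] (c : C₀) (hcq : c ∈ q)
    (hbound : ∀ (P : Ideal C₀) [P.IsPrime], P.comap (algebraMap A₀ C₀) = q.comap (algebraMap A₀ C₀) → P ≤ q →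
      DimFormula.fd A₀ P ≤ DimFormula.fd A₀ (⊥ : Ideal C₀))
    (hmin : ∀ P : Ideal C₀, P.IsPrime → P ≤ q → P.comap (algebraMap A₀ C₀) = q.comap (algebraMap A₀ C₀) →
      (∀ Q : Ideal C₀, Q.IsPrime → Q ≤ P → Q.comap (algebraMap A₀ C₀) = q.comap (algebraMap A₀ C₀) → Q = P) → c ∉ P) :
    ∃ Q : Ideal C₀, Q.IsPrime ∧ Q ≤ q ∧ c ∈ Q ∧ Q.comap (algebraMap A₀ C₀) = ⊥ := by
  let p := q.comap (algebraMap A₀ C₀)
  haveI : p.IsPrime := Ideal.comap_isPrime _ _
  let A := Localization.AtPrime p
  let C := Localization (Algebra.algebraMapSubmonoid C₀ p.primeCompl)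
  letI : Algebra A C := localizationAlgebra p.primeCompl C₀
  haveI : IsScalarTower A₀ A C := .of_algebraMap_eq fun a => by
    rw [RingHom.algebraMap_toAlgebra, IsLocalization.map_eq]; rfl
  haveI : IsLocalization (Submonoid.map (algebraMap A₀ C₀) p.primeCompl) C :=
    inferInstanceAs (IsLocalization (Algebra.algebraMapSubmonoid C₀ p.primeCompl) C)
  haveI : Algebra.FiniteType A C := by
    rw [← RingHom.finiteType_algebraMap]
    exact RingHom.finiteType_localizationPreserves (algebraMap A₀ C₀) p.primeCompl A C (RingHom.finiteType_algebraMap.2 inferInstance)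
  have hA₀C₀ : Function.Injective (algebraMap A₀ C₀) := FaithfulSMul.algebraMap_injective A₀ C₀
  have hle0 : Algebra.algebraMapSubmonoid C₀ p.primeCompl ≤ nonZeroDivisors C₀ :=
    map_le_nonZeroDivisors_of_injective _ hA₀C₀ p.primeCompl_le_nonZeroDivisors
  haveI : IsDomain C := IsLocalization.isDomain_of_le_nonZeroDivisors C hle0
  have hdisj : Disjoint (Algebra.algebraMapSubmonoid C₀ p.primeCompl : Set C₀) (q : Set C₀) := by
    rw [Set.disjoint_left]
    rintro _ ⟨a, ha, rfl⟩ haq
    exact ha haq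
  let M : Ideal C := q.map (algebraMap C₀ C)
  haveI : M.IsPrime := IsLocalization.isPrime_of_isPrime_disjoint _ C q inferInstance hdisj
  have hMq : M.comap (algebraMap C₀ C) = q := IsLocalization.under_map_of_isPrime_disjoint _ C inferInstance hdisj
  let B := Localization.AtPrime M
  have hMA : M.comap (algebraMap A C) = maximalIdeal A := by
    rw [← IsLocalization.map_under p.primeCompl A (M.comap (algebraMap A C)), Localization.AtPrime.map_eq_maximalIdeal.symm]
    congr 1
    show (M.comap (algebraMap A C)).comap (algebraMap A₀ A) = p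
    rw [Ideal.comap_comap, ← IsScalarTower.algebraMap_eq, IsScalarTower.algebraMap_eq A₀ C₀ C, ← Ideal.comap_comap, hMq]
  have hM : M = (maximalIdeal B).comap (algebraMap C B) := (IsLocalization.AtPrime.under_maximalIdeal B M).symm
  haveI : IsLocalHom (algebraMap A B) := by
    constructor
    intro a ha
    by_contra hna
    have h1 : algebraMap A C a ∈ M := hMA.ge ((mem_maximalIdeal a).2 hna)
    rw [IsScalarTower.algebraMap_apply A C B, IsLocalization.AtPrime.isUnit_to_map_iff B M] at ha
    exact ha h1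
  have hA₀A : Function.Injective (algebraMap A₀ A) := IsLocalization.injective A p.primeCompl_le_nonZeroDivisors
  have hAC : Function.Injective (algebraMap A C) := by
    rw [injective_iff_map_eq_zero]
    intro z hz
    obtain ⟨x, s, rfl⟩ := IsLocalization.exists_mk'_eq p.primeCompl z
    have h1 := congrArg (· * algebraMap A C (algebraMap A₀ A s)) hz
    rw [zero_mul, ← map_mul, IsLocalization.mk'_spec, ← IsScalarTower.algebraMap_apply] at h1
    rw [IsScalarTower.algebraMap_apply A₀ C₀ C] at h1
    have h2 : x = 0 := hA₀C₀ ((IsLocalization.injective C hle0 (h1.trans (map_zero _).symm)).trans (map_zero _).symm)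
    rw [h2, IsLocalization.mk'_zero]
  haveI : FaithfulSMul A B := (faithfulSMul_iff_algebraMap_injective _ _).2 (by
    rw [IsScalarTower.algebraMap_eq A C B]
    exact (IsLocalization.injective B M.primeCompl_le_nonZeroDivisors).comp hAC)
  haveI : FaithfulSMul A C := (faithfulSMul_iff_algebraMap_injective _ _).2 hAC
  have hn : (DimFormula.fd A₀ (⊥ : Ideal C₀) : Cardinal.{u}) ≤ Algebra.trdeg A B := by
    obtain ⟨t, ht⟩ := (DimFormula.le_fd_iff A₀ (⊥ : Ideal C₀) _).1 le_rfl
    let j : C₀ →ₐ[A₀] B := IsScalarTower.toAlgHom A₀ C₀ B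
    have hj : Function.Injective j := by
      show Function.Injective (algebraMap C₀ B)
      rw [IsScalarTower.algebraMap_eq C₀ C B]
      exact (IsLocalization.injective B M.primeCompl_le_nonZeroDivisors).comp (IsLocalization.injective C hle0)
    haveI : Algebra.IsAlgebraic A₀ A := IsLocalization.isAlgebraic A p.primeCompl
    have hind : AlgebraicIndependent A₀ (fun i => j (t i)) := by
      rw [algebraicIndependent_iff]
      intro G hG
      rw [← MvPolynomial.comp_aeval_apply, map_eq_zero_iff _ hj] at hG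
      have := ht G (by rw [hG]; exact Ideal.zero_mem _)
      rwa [show (⊥ : Ideal C₀).under A₀ = ⊥ from Ideal.comap_bot_of_injective _ hA₀C₀, Ideal.map_bot, Ideal.mem_bot] at this
    haveI : FaithfulSMul A₀ A := (faithfulSMul_iff_algebraMap_injective _ _).2 hA₀A
    have h2 : Algebra.trdeg A₀ A + Algebra.trdeg A B = Algebra.trdeg A₀ B := trdeg_add_eq A₀ A
    rw [trdeg_eq_zero (R := A₀) (A := A), zero_add] at h2
    rw [h2]
    simpa using hind.lift_cardinalMk_le_trdeg
  have hbase : ∀ P : Ideal C, P.comap (algebraMap A C) = maximalIdeal A →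
      (P.comap (algebraMap C₀ C)).comap (algebraMap A₀ C₀) = p := fun P hP => by
    rw [Ideal.comap_comap, ← IsScalarTower.algebraMap_eq, IsScalarTower.algebraMap_eq A₀ A C, ← Ideal.comap_comap, hP]
    exact IsLocalization.AtPrime.under_maximalIdeal A p
  obtain ⟨Q, hQ, hQM, hcQ, hQA⟩ := exists_prime_mem_of_bound_local (B := B) M hM (algebraMap C₀ C c)
    (Ideal.mem_map_of_mem _ hcq)
    (fun P _ hP hPM => le_trans (by
      exact_mod_cast (fd_le_fd_comap_localization p.primeCompl P).trans
        (hbound _ (hbase P hP) ((Ideal.comap_mono hPM).trans hMq.le))) hn)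
    (fun P hP hPM hPA hPmin hcP => by
      haveI := hP
      refine hmin (P.comap (algebraMap C₀ C)) (Ideal.comap_isPrime _ _) ((Ideal.comap_mono hPM).trans hMq.le) (hbase P hPA)
        (fun Q hQ hQP hQA => ?_) hcP
      have hdQ : Disjoint (Algebra.algebraMapSubmonoid C₀ p.primeCompl : Set C₀) (Q : Set C₀) := by
        rw [Set.disjoint_left]
        rintro _ ⟨a, ha, rfl⟩ haQ
        exact ha (hQA.le haQ)
      have hQc : (Q.map (algebraMap C₀ C)).comap (algebraMap C₀ C) = Q :=
        IsLocalization.under_map_of_isPrime_disjoint _ C hQ hdQ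
      haveI := IsLocalization.isPrime_of_isPrime_disjoint _ C Q hQ hdQ
      have heq := hPmin (Q.map (algebraMap C₀ C)) inferInstance (Ideal.map_le_iff_le_comap.2 hQP) (by
        refine ((maximalIdeal.isMaximal A).eq_of_le (Ideal.IsPrime.ne_top (Ideal.comap_isPrime _ _)) ?_).symm
        rw [← Localization.AtPrime.map_eq_maximalIdeal, Ideal.map_le_iff_le_comap, Ideal.comap_comap,
          ← IsScalarTower.algebraMap_eq, IsScalarTower.algebraMap_eq A₀ C₀ C, ← Ideal.comap_comap, hQc]
        exact hQA.ge)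
      rw [← hQc, heq])
  refine ⟨Q.comap (algebraMap C₀ C), Ideal.comap_isPrime _ _, (Ideal.comap_mono hQM).trans hMq.le, hcQ, ?_⟩
  rw [Ideal.comap_comap, ← IsScalarTower.algebraMap_eq, IsScalarTower.algebraMap_eq A₀ A C, ← Ideal.comap_comap, hQA]
  exact Ideal.comap_bot_of_injective _ hA₀A

end Groth.Agent.FlatFibres
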