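import Mathlib
import Groth.Agent.MorLib.EventuallyCI

/-!
# Extending a finite morphism from a quasi-compact open
-/

set_option autoImplicit false
universe u v

open CategoryTheory Limits AlgebraicGeometry TopologicalSpace

namespace Groth.Agent.FlatFibres

theorem isAffineHom_resLE_preimage {A B S : Scheme.{u}} (a : A ⟶ B) (b : B ⟶ S) (U : S.Opens)
    [IsAffineHom a] [IsAffineHom b] :
    IsAffineHom ((a ≫ b).resLE U (a ⁻¹ᵁ b ⁻¹ᵁ U) le_rfl) := by
  have : IsAffineHom ((a ≫ b) ∣_ U) := MorphismProperty.of_isPullback (P := @IsAffineHom) (isPullback_morphismRestrict (a ≫ b) U).flip inferInstance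
  rwa [← Scheme.Hom.resLE_eq_morphismRestrict] at this

theorem compactSpace_preimage {A B S : Scheme.{u}} (a : A ⟶ B) (b : B ⟶ S) (U : S.Opens)
    [QuasiCompact a] [QuasiCompact b] (hU : IsCompact (U : Set S)) :
    CompactSpace (a ⁻¹ᵁ b ⁻¹ᵁ U : Scheme.{u}) :=
  isCompact_iff_compactSpace.mp (QuasiCompact.isCompact_preimage (f := a) _ (b ⁻¹ᵁ U).2
    (QuasiCompact.isCompact_preimage (f := b) _ U.2 hU))

/-- The scheme theoretic image of a closed immersion into the open part, completed by the reduced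
complement. -/
theorem exists_finite_extension {S V W P : Scheme.{u}} [QuasiSeparatedSpace S] [CompactSpace V] (U : S.Opens)
    (v : V ⟶ (U : Scheme.{u})) [Surjective v] (q : P ⟶ S) [IsFinite q]
    (m : V ⟶ W) [IsClosedImmersion m] (w : W ⟶ P) [IsOpenImmersion w]
    (hw : w.opensRange = q ⁻¹ᵁ U) (hcomp : (m ≫ w) ≫ q = v ≫ U.ι) :
    ∃ (V' : Scheme.{u}) (π : V' ⟶ S) (i : V ⟶ V'), Surjective π ∧ IsFinite π ∧ IsPullback i v π U.ι := by
  haveI : QuasiSeparatedSpace P := quasiSeparatedSpace_of_quasiSeparated q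
  haveI : QuasiCompact (m ≫ w) := quasiCompact_of_compactSpace _
  let f := m ≫ w
  let Zc : Closeds S := ⟨(U : Set S)ᶜ, U.isOpen.isClosed_compl⟩
  let Z := (Scheme.IdealSheafData.vanishingIdeal Zc).subscheme
  let zι : Z ⟶ S := (Scheme.IdealSheafData.vanishingIdeal Zc).subschemeι
  haveI : IsClosedImmersion zι := inferInstance
  let π : f.image ⨿ Z ⟶ S := coprod.desc (f.imageι ≫ q) zι
  let i : V ⟶ f.image ⨿ Z := f.toImage ≫ coprod.inl
  haveI : IsOpenImmersion f.toImage := inferInstance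
  haveI : IsOpenImmersion i := inferInstance
  have hiπ : i ≫ π = v ≫ U.ι := by
    simp only [i, π, Category.assoc, coprod.inl_desc]
    rw [← Category.assoc, Scheme.Hom.toImage_imageι, ← hcomp]
  have hz : ∀ z : Z, zι z ∉ U := by
    intro z hzU
    have : zι z ∈ Set.range zι := ⟨z, rfl⟩
    rw [Scheme.IdealSheafData.range_subschemeι, Scheme.IdealSheafData.coe_support_vanishingIdeal] at this
    exact this hzU
  have hrange : π ⁻¹ᵁ U.ι.opensRange = i.opensRange := by
    rw [Scheme.Opens.opensRange_ι]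
    ext x
    constructor
    · intro hx
      rcases (isCompl_range_inl_inr f.image Z).codisjoint.top_le (Set.mem_univ x) with ⟨y, rfl⟩ | ⟨z, rfl⟩
      · have hyU : q (f.imageι y) ∈ U := by
          have : π (coprod.inl (Y := Z) y) ∈ U := hx
          rwa [← Scheme.Hom.comp_apply, coprod.inl_desc, Scheme.Hom.comp_apply] at this
        obtain ⟨w₀, hw₀⟩ : f.imageι y ∈ Set.range w := by
          rw [← Scheme.Hom.coe_opensRange, hw]; exact hyU
        have hcl : f.imageι y ∈ closure (Set.range f) := by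
          have : f.imageι y ∈ Set.range f.imageι := ⟨y, rfl⟩
          rwa [Scheme.IdealSheafData.range_subschemeι, Scheme.Hom.support_ker] at this
        have hw₀m : w₀ ∈ closure (Set.range m) := by
          rw [w.isOpenEmbedding.isInducing.closure_eq_preimage_closure_image, Set.mem_preimage, hw₀,
            ← Set.range_comp, ← TopCat.coe_comp, ← Scheme.Hom.comp_base]
          exact hcl
        rw [m.isClosedEmbedding.isClosed_range.closure_eq] at hw₀m
        obtain ⟨x₀, rfl⟩ := hw₀m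
        refine ⟨x₀, ?_⟩
        have : f.imageι (f.toImage x₀) = f.imageι y := by
          rw [← Scheme.Hom.comp_apply, Scheme.Hom.toImage_imageι]
          exact hw₀
        show (coprod.inl : f.image ⟶ f.image ⨿ Z) (f.toImage x₀) = _
        rw [f.imageι.isEmbedding.injective this]
      · exfalso
        have : π (coprod.inr (X := f.image) z) ∈ U := hx
        rw [← Scheme.Hom.comp_apply, coprod.inr_desc] at this
        exact hz z this
    · rintro ⟨x₀, rfl⟩
      show π (i x₀) ∈ U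
      rw [← Scheme.Hom.comp_apply, hiπ, Scheme.Hom.comp_apply]
      exact (v x₀).2
  refine ⟨_, π, i, ⟨fun s => ?_⟩, inferInstance, (IsOpenImmersion.isPullback v i U.ι π hiπ hrange).flip⟩
  by_cases hs : s ∈ U
  · obtain ⟨x, hx⟩ := v.surjective ⟨s, hs⟩
    refine ⟨i x, ?_⟩
    rw [← Scheme.Hom.comp_apply, hiπ, Scheme.Hom.comp_apply, hx]
    rfl
  · have hs' : s ∈ Set.range zι := by
      rw [Scheme.IdealSheafData.range_subschemeι, Scheme.IdealSheafData.coe_support_vanishingIdeal]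
      exact hs
    obtain ⟨z, hz⟩ := hs'
    refine ⟨coprod.inr (X := f.image) z, ?_⟩
    rw [← Scheme.Hom.comp_apply, coprod.inr_desc]
    exact hz

/-- A finite algebra over the open part which maps monomorphically into a limit of finite schemes over
the base extends. -/
theorem exists_finite_extension_of_limit {S V : Scheme.{u}} [QuasiSeparatedSpace S] [CompactSpace V]
    {I : Type u} [SmallCategory I] [IsCofiltered I] (D : I ⥤ Scheme.{u}) (q : ∀ i, D.obj i ⟶ S)
    (hq : ∀ (i j : I) (a : i ⟶ j), D.map a ≫ q j = q i) (hfin : ∀ i, IsFinite (q i)) (c : Cone D) (hc : IsLimit c)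
    (U : S.Opens) (hU : IsCompact (U : Set S)) (v : V ⟶ (U : Scheme.{u})) [IsFinite v] [Surjective v]
    (m₀ : V ⟶ c.pt) [Mono m₀] (hm₀ : ∀ i, m₀ ≫ c.π.app i ≫ q i = v ≫ U.ι) :
    ∃ (V' : Scheme.{u}) (π : V' ⟶ S) (i : V ⟶ V'), Surjective π ∧ IsFinite π ∧ IsPullback i v π U.ι := by
  haveI := hfin
  haveI hD : ∀ {i j : I} (a : i ⟶ j), IsAffineHom (D.map a) := fun {i j} a => by
    haveI : IsAffineHom (D.map a ≫ q j) := by rw [hq]; infer_instance
    exact IsAffineHom.of_comp (D.map a) (q j)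
  obtain ⟨i₀⟩ := IsCofiltered.nonempty (C := I)
  let V₀ : (D.obj i₀).Opens := q i₀ ⁻¹ᵁ U
  let O : c.pt.Opens := c.π.app i₀ ⁻¹ᵁ V₀
  let cU := opensCone D c i₀ V₀
  have hcU : IsLimit cU := isLimitOpensCone D c hc i₀ V₀
  have hr : Set.range m₀ ⊆ Set.range O.ι := by
    rw [Scheme.Opens.range_ι]
    rintro _ ⟨x, rfl⟩
    have h1 : (m₀ ≫ c.π.app i₀ ≫ q i₀) x = (v ≫ U.ι) x := by rw [hm₀]
    show q i₀ (c.π.app i₀ (m₀ x)) ∈ U
    rw [show q i₀ (c.π.app i₀ (m₀ x)) = (v ≫ U.ι) x from h1]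
    exact (v x).2
  let h : V ⟶ (O : Scheme.{u}) := IsOpenImmersion.lift O.ι m₀ hr
  have hhι : h ≫ O.ι = m₀ := IsOpenImmersion.lift_fac _ _ _
  let T : Over i₀ := Over.mk (𝟙 i₀)
  haveI : CompactSpace ((opensDiagram D i₀ V₀).obj T) := compactSpace_preimage (D.map T.hom) (q i₀) U hU
  let t : (opensDiagram D i₀ V₀).obj T ⟶ (U : Scheme.{u}) :=
    (D.map T.hom ≫ q i₀).resLE U (D.map T.hom ⁻¹ᵁ q i₀ ⁻¹ᵁ U) le_rfl
  haveI : IsAffineHom t := isAffineHom_resLE_preimage (D.map T.hom) (q i₀) U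
  let a : ∀ j : Over i₀, (O : Scheme.{u}) ⟶ (D.map j.hom ⁻¹ᵁ V₀ : Scheme.{u}) := fun j => cU.π.app j
  have hπ : ∀ j : Over i₀, (h ≫ a j) ≫ (D.map j.hom ⁻¹ᵁ V₀).ι = m₀ ≫ c.π.app j.left := fun j => by
    show (h ≫ (c.π.app j.left).resLE _ _ _) ≫ _ = _
    rw [Category.assoc, Scheme.Hom.resLE_comp_ι]
    exact (Category.assoc h O.ι (c.π.app j.left)).symm.trans (congrArg (· ≫ c.π.app j.left) hhι)
  let tT : (D.map T.hom ⁻¹ᵁ V₀ : Scheme.{u}) ⟶ (U : Scheme.{u}) := t
  have hht : h ≫ a T ≫ tT = v := by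
    rw [← cancel_mono U.ι]
    have e1 : tT ≫ U.ι = (D.map T.hom ⁻¹ᵁ V₀).ι ≫ D.map T.hom ≫ q i₀ := Scheme.Hom.resLE_comp_ι _ _
    rw [Category.assoc, Category.assoc, e1, ← Category.assoc (a T), ← Category.assoc h,
      ← Category.assoc h (a T), hπ T, Category.assoc, hq]
    exact hm₀ T.left
  haveI : IsAffineHom (a T) := isAffineHom_π_app _ cU hcU _
  haveI : IsAffineHom tT := inferInstanceAs (IsAffineHom t)
  haveI : IsFinite (h ≫ a T ≫ tT) := by rw [hht]; infer_instance
  haveI : IsFinite h := IsFinite.of_comp h (a T ≫ tT)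
  haveI : Mono h := by
    haveI : Mono (h ≫ O.ι) := by rw [hhι]; infer_instance
    exact mono_of_mono h O.ι
  haveI : IsClosedImmersion h := (IsClosedImmersion.iff_isFinite_and_mono h).mpr ⟨inferInstance, inferInstance⟩
  let h' : V ⟶ cU.pt := h
  haveI : IsClosedImmersion h' := inferInstanceAs (IsClosedImmersion h)
  haveI : LocallyOfFiniteType (h' ≫ cU.π.app T ≫ t) := inferInstanceAs (LocallyOfFiniteType (h ≫ a T ≫ tT))
  obtain ⟨j, hj⟩ := MorLib.EvCI.exists_isClosedImmersion hcU T t h'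
  haveI : IsClosedImmersion (h ≫ a j.left) := hj j (𝟙 j)
  refine exists_finite_extension U v (q j.left.left) (h ≫ a j.left) (D.map j.left.hom ⁻¹ᵁ V₀).ι ?_ ?_
  · rw [Scheme.Opens.opensRange_ι, ← Scheme.Hom.comp_preimage, hq]
  · rw [hπ j.left, Category.assoc]
    exact hm₀ j.left.left

end Groth.Agent.FlatFibres
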