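import Mathlib
import Groth.Agent.FittX.Ideal
import Groth.Agent.FittX.Prod
import Groth.Agent.FittX.Free
import Groth.Prelude.Def_FlatCA

/-!
# The Fitting ideal of `C ⧸ J` over `A` after extension to an étale localisation of `C`
-/

set_option autoImplicit false
set_option backward.isDefEq.respectTransparency false
universe u

open TensorProduct

namespace Groth.Agent.FlatFibres

theorem fittingZero_eq_ideal (R : Type u) [CommRing R] (M : Type u) [AddCommGroup M] [Module R M] :
    FlatCA.fittingZero R M = Fitt.ideal R M 0 := by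
  unfold FlatCA.fittingZero Fitt.ideal
  congr 1
  ext d
  exact ⟨fun ⟨n, x, a, h1, h2, h3⟩ => ⟨n, x, a, h1, fun i _ => h2 i, h3⟩,
    fun ⟨n, x, a, h1, h2, h3⟩ => ⟨n, x, a, h1, fun i => h2 i (by simpa using i.2), h3⟩⟩

theorem fitt_ideal_quotient_self (R : Type u) [CommRing R] (I : Ideal R) : Fitt.ideal R (R ⧸ I) 0 = I := by
  refine le_antisymm ((FittX.ideal_annihilator).trans Ideal.annihilator_quotient.le) fun j hj => ?_
  refine Submodule.subset_span ⟨1, fun _ => 1, fun _ _ => j, ?_, fun i _ => ?_, ?_⟩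
  · rw [Set.range_const, eq_top_iff]
    rintro z -
    obtain ⟨r, rfl⟩ := Ideal.Quotient.mk_surjective z
    rw [Submodule.mem_span_singleton]
    exact ⟨r, (Algebra.smul_def _ _).trans (mul_one _)⟩
  · rw [Fin.sum_univ_one, Algebra.smul_def, mul_one, Ideal.Quotient.algebraMap_eq, Ideal.Quotient.eq_zero_iff_mem]
    exact hj
  · exact (Matrix.det_fin_one (fun _ _ => j : Matrix (Fin 1) (Fin 1) R)).symm

variable {A C : Type u} [CommRing A] [CommRing C] [Algebra A C] [Module.Finite A C] [Module.Projective A C]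
  (h : C) [Algebra.Etale A (Localization.Away h)]

local notation "B" => Localization.Away h

/-- The multiplication `B ⊗[A] C → B`. -/
noncomputable def mulHom : B ⊗[A] C →ₐ[B] B :=
  Algebra.TensorProduct.lift (AlgHom.id B B) (IsScalarTower.toAlgHom A C B) fun _ _ => .all _ _

theorem mulHom_tmul (b : B) (c : C) : mulHom h (b ⊗ₜ[A] c) = b * algebraMap C B c :=
  Algebra.TensorProduct.lift_tmul _ _ _ _ _

theorem mulHom_surjective : Function.Surjective (mulHom (A := A) h) := fun b =>
  ⟨b ⊗ₜ 1, by rw [mulHom_tmul, map_one, mul_one]⟩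

theorem exists_idempotent : ∃ e : B ⊗[A] C, IsIdempotentElem e ∧
    RingHom.ker (mulHom (A := A) h).toRingHom = Ideal.span {e} := by
  set K := RingHom.ker (mulHom (A := A) h).toRingHom with hK
  have hfg : K.FG := by
    haveI : Module.Finite B (B ⊗[A] C) := inferInstance
    obtain ⟨s, hs⟩ := Module.projective_lifting_property (mulHom (A := A) h).toLinearMap LinearMap.id
      (mulHom_surjective h)
    have hB : (LinearMap.ker (mulHom (A := A) h).toLinearMap).FG := by
      have : LinearMap.range (LinearMap.id - s ∘ₗ (mulHom (A := A) h).toLinearMap) =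
          LinearMap.ker (mulHom (A := A) h).toLinearMap := by
        refine le_antisymm ?_ fun x hx => ⟨x, by
          have hx' : (mulHom (A := A) h).toLinearMap x = 0 := hx
          rw [LinearMap.sub_apply, LinearMap.comp_apply, hx', map_zero, LinearMap.id_apply, sub_zero]⟩
        rintro _ ⟨x, rfl⟩
        have := LinearMap.congr_fun hs (mulHom h x)
        simp only [LinearMap.comp_apply, LinearMap.id_apply] at this
        simp only [AlgHom.toLinearMap_apply] at this
        simp [this]
      rw [← this]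
      exact Module.Finite.iff_fg.mp inferInstance
    obtain ⟨T, hT⟩ := hB
    refine ⟨T, le_antisymm (Ideal.span_le.mpr fun x hx => ?_) fun x hx => ?_⟩
    · exact LinearMap.mem_ker.mp (hT ▸ Submodule.subset_span hx)
    · have hx' : x ∈ Submodule.span B (T : Set (B ⊗[A] C)) := hT ▸ LinearMap.mem_ker.mpr hx
      exact Submodule.span_le_restrictScalars B (B ⊗[A] C) _ hx'
  refine (Ideal.isIdempotentElem_iff_of_fg K hfg).mp (le_antisymm Ideal.mul_le_left fun x hx => ?_) |>.imp
    fun e he => ⟨he.1, he.2⟩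
  -- the diagonal idempotent of `B ⊗ B`
  obtain ⟨ε, hε1, hε2⟩ : ∃ ε : B ⊗[A] B, IsIdempotentElem ε ∧
      KaehlerDifferential.ideal A B = Ideal.span {ε} := by
    refine (Ideal.isIdempotentElem_iff_of_fg _ (KaehlerDifferential.ideal_fg A B)).mp ?_
    exact (Ideal.cotangent_subsingleton_iff _).mp (Algebra.FormallyUnramified.subsingleton_kaehlerDifferential (R := A) (A := B))
  let ι : B ⊗[A] C →ₐ[B] B ⊗[A] B :=
    Algebra.TensorProduct.map (AlgHom.id B B) (IsScalarTower.toAlgHom A C B)
  have hι : ∀ z, Algebra.TensorProduct.lmul' A (ι z) = mulHom h z := by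
    intro z
    induction z with
    | zero => simp
    | tmul b c => simp [ι, mulHom_tmul]
    | add a b ha hb => simp [map_add, ha, hb]
  have hxε : (1 - ε) * ι x = 0 := by
    have hmem : ι x ∈ KaehlerDifferential.ideal A B := by
      show Algebra.TensorProduct.lmul' A (ι x) = 0
      rw [hι]; exact hx
    obtain ⟨t, ht⟩ := Ideal.mem_span_singleton'.mp (hε2 ▸ hmem)
    rw [← ht, sub_mul, one_mul, mul_left_comm, hε1, sub_self]
  -- clear denominators in `1 - ε`
  have hden : ∀ w : B ⊗[A] B, ∃ (k : ℕ) (z : B ⊗[A] C), ι z = ι (1 ⊗ₜ (h ^ k)) * w := by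
    intro w
    induction w with
    | zero => exact ⟨0, 0, by simp⟩
    | tmul b b' =>
      obtain ⟨k, c, hc⟩ := IsLocalization.Away.surj h b'
      refine ⟨k, b ⊗ₜ c, ?_⟩
      simp only [ι, Algebra.TensorProduct.map_tmul, Algebra.TensorProduct.tmul_mul_tmul, AlgHom.id_apply, one_mul, IsScalarTower.coe_toAlgHom', map_pow]
      rw [← hc, mul_comm b']
    | add u v hu hv =>
      obtain ⟨k, z, hz⟩ := hu; obtain ⟨l, z', hz'⟩ := hv
      refine ⟨k + l, z * (1 ⊗ₜ (h ^ l)) + z' * (1 ⊗ₜ (h ^ k)), ?_⟩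
      have hp : ((1 : B) ⊗ₜ[A] (h ^ (k + l))) = (1 ⊗ₜ (h ^ k)) * (1 ⊗ₜ (h ^ l)) := by
        rw [Algebra.TensorProduct.tmul_mul_tmul, one_mul, pow_add]
      rw [hp, map_add, map_mul, map_mul, map_mul, hz, hz']
      ring
  have hker : ∀ z : B ⊗[A] C, ι z = 0 → ∃ l : ℕ, ((1 : B) ⊗ₜ[A] (h ^ l)) * z = 0 := by
    intro z hz
    let f := (IsScalarTower.toAlgHom A C B).toLinearMap
    haveI : IsLocalizedModule (Submonoid.powers h) (Algebra.linearMap C B) :=
      (isLocalizedModule_iff_isLocalization' (Submonoid.powers h) B).mpr inferInstance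
    let g : C ⊗[A] B →ₗ[C] B ⊗[A] B := AlgebraTensorModule.rTensor A B (Algebra.linearMap C B)
    have hz' : g (TensorProduct.comm A B C z) = 0 := by
      have e1 : ∀ y, g (TensorProduct.comm A B C y) = TensorProduct.comm A B B (ι y) := by
        intro y
        induction y with
        | zero => simp
        | tmul b c => simp [g, ι]
        | add a b ha hb => simp [map_add, ha, hb]
      rw [e1, hz, map_zero]
    obtain ⟨⟨_, l, rfl⟩, hl⟩ := (IsLocalizedModule.eq_zero_iff (Submonoid.powers h) g).mp hz'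
    refine ⟨l, (TensorProduct.comm A B C).injective ?_⟩
    rw [map_zero, ← hl]
    clear hz hz' hl hxε hx
    show _ = (h ^ l : C) • TensorProduct.comm A B C z
    induction z with
    | zero => simp
    | tmul b c => simp [TensorProduct.smul_tmul', Algebra.TensorProduct.tmul_mul_tmul]
    | add a b ha hb => rw [mul_add, map_add, map_add, smul_add, ha, hb]
  obtain ⟨k, e₀, he₀⟩ := hden (1 - ε)
  obtain ⟨l, hl⟩ := hker (e₀ * x) (by rw [map_mul, he₀, mul_assoc, hxε, mul_zero])
  set e₁ := ((1 : B) ⊗ₜ[A] (h ^ l)) * e₀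
  have hμε : Algebra.TensorProduct.lmul' A ε = 0 :=
    (hε2 ▸ Ideal.mem_span_singleton_self ε : ε ∈ KaehlerDifferential.ideal A B)
  have hu : IsUnit (mulHom (A := A) h e₁) := by
    rw [map_mul, mulHom_tmul, one_mul, ← hι e₀, he₀, map_mul, map_sub, map_one, hμε, sub_zero, mul_one, hι,
      mulHom_tmul, one_mul, map_pow, map_pow]
    exact ((IsLocalization.Away.algebraMap_isUnit (S := B) h).pow l).mul
      ((IsLocalization.Away.algebraMap_isUnit (S := B) h).pow k)
  have hy : (1 - (hu.unit⁻¹ : Bˣ).1 • e₁) ∈ K := by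
    show mulHom h _ = 0
    rw [map_sub, map_one, map_smul, smul_eq_mul, IsUnit.val_inv_mul hu, sub_self]
  have hxeq : x = (1 - (hu.unit⁻¹ : Bˣ).1 • e₁) * x := by
    rw [sub_mul, one_mul, smul_mul_assoc, mul_assoc, hl, smul_zero, sub_zero]
  rw [hxeq]
  exact Ideal.mul_mem_mul hy hx

theorem exists_fittingZero_eq_mul (J : Ideal C) :
    ∃ J' : Ideal B, (FlatCA.fittingZero A (C ⧸ J)).map (algebraMap A B) = J.map (algebraMap C B) * J' ∧
      (J.FG → (FlatCA.fittingZero A (C ⧸ J)).FG ∧ J'.FG) := by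
  obtain ⟨e, he, hK⟩ := exists_idempotent (A := A) h
  let E := B ⊗[A] C
  let JE : Ideal E := J.map (Algebra.TensorProduct.includeRight (A := B) (R := A))
  let I₁ : Ideal E := JE ⊔ Ideal.span {e}
  let I₂ : Ideal E := JE ⊔ Ideal.span {1 - e}
  have hinf : I₁ ⊓ I₂ = JE := by
    refine le_antisymm (fun x hx => ?_) (le_inf le_sup_left le_sup_left)
    have h1 : e * x ∈ JE := by
      obtain ⟨a, ha, b, hb, rfl⟩ := Submodule.mem_sup.mp hx.2
      obtain ⟨t, rfl⟩ := Ideal.mem_span_singleton'.mp hb
      rw [mul_add, show e * (t * (1 - e)) = t * (e - e * e) by ring, he.eq, sub_self, mul_zero, add_zero]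
      exact Ideal.mul_mem_left _ _ ha
    have h2 : (1 - e) * x ∈ JE := by
      obtain ⟨a, ha, b, hb, rfl⟩ := Submodule.mem_sup.mp hx.1
      obtain ⟨t, rfl⟩ := Ideal.mem_span_singleton'.mp hb
      rw [mul_add, show (1 - e) * (t * e) = t * (e - e * e) by ring, he.eq, sub_self, mul_zero, add_zero]
      exact Ideal.mul_mem_left _ _ ha
    have := JE.add_mem h1 h2
    rwa [← add_mul, add_sub_cancel, one_mul] at this
  have hcop : IsCoprime I₁ I₂ := by
    rw [Ideal.isCoprime_iff_sup_eq, eq_top_iff]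
    intro x _
    have : x = x * e + x * (1 - e) := by ring
    rw [this]
    exact Submodule.add_mem _
      (le_sup_left (b := I₂) (le_sup_right (a := JE) (Ideal.mul_mem_left _ _ (Ideal.mem_span_singleton_self e))))
      (le_sup_right (a := I₁) (le_sup_right (a := JE) (Ideal.mul_mem_left _ _ (Ideal.mem_span_singleton_self _))))
  -- the first factor
  let φ : E →ₐ[B] B ⧸ J.map (algebraMap C B) := (Ideal.Quotient.mkₐ B _).comp (mulHom h)
  have hφ : Function.Surjective φ := Ideal.Quotient.mk_surjective.comp (mulHom_surjective h)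
  have hφker : RingHom.ker φ.toRingHom = I₁ := by
    have hmap : JE.map (mulHom (A := A) h).toRingHom = J.map (algebraMap C B) := by
      show (J.map (Algebra.TensorProduct.includeRight (A := B) (R := A) : C →ₐ[A] E).toRingHom).map
        (mulHom (A := A) h).toRingHom = _
      rw [Ideal.map_map]
      congr 1
      ext c
      simp [mulHom_tmul]
    show RingHom.ker ((Ideal.Quotient.mk (J.map (algebraMap C B))).comp (mulHom (A := A) h).toRingHom) = I₁
    rw [RingHom.ker_eq_comap_bot, ← Ideal.comap_comap, ← RingHom.ker_eq_comap_bot, Ideal.mk_ker, ← hmap,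
      Ideal.comap_map_of_surjective (mulHom (A := A) h).toRingHom (mulHom_surjective (A := A) h)]
    show JE ⊔ RingHom.ker (mulHom (A := A) h).toRingHom = _
    rw [hK]
  let e₁ : (E ⧸ I₁) ≃ₐ[B] B ⧸ J.map (algebraMap C B) :=
    (Ideal.quotientEquivAlgOfEq B hφker.symm).trans (Ideal.quotientKerAlgEquivOfSurjective hφ)
  -- the decomposition
  let crt : (E ⧸ I₁ ⊓ I₂) ≃ₗ[B] (E ⧸ I₁) × (E ⧸ I₂) :=
    (Ideal.quotientInfEquivQuotientProd I₁ I₂ hcop).toAddEquiv.toLinearEquiv fun b x => by
      obtain ⟨x, rfl⟩ := Ideal.Quotient.mk_surjective x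
      rfl
  let D : (B ⊗[A] (C ⧸ J)) ≃ₗ[B] (B ⧸ J.map (algebraMap C B)) × (E ⧸ I₂) :=
    (Algebra.TensorProduct.tensorQuotientEquiv B C B J).toLinearEquiv ≪≫ₗ
      (Ideal.quotientEquivAlgOfEq B hinf.symm).toLinearEquiv ≪≫ₗ
      crt ≪≫ₗ
      (e₁.toLinearEquiv.prodCongr (LinearEquiv.refl B _))
  haveI : Module.Finite A (C ⧸ J) := Module.Finite.of_surjective (Ideal.Quotient.mkₐ A J).toLinearMap Ideal.Quotient.mk_surjective
  haveI : Module.Finite B (E ⧸ I₂) := Module.Finite.of_surjective (Ideal.Quotient.mkₐ B I₂).toLinearMap Ideal.Quotient.mk_surjective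
  refine ⟨Fitt.ideal B (E ⧸ I₂) 0, ?_, fun hJ => ?_⟩
  · rw [fittingZero_eq_ideal, ← FittX.ideal_baseChange (TensorProduct.isBaseChange A (C ⧸ J) B) 0,
      FittX.ideal_congr D, FittX.ideal_prod, Finset.sum_range_one, fitt_ideal_quotient_self]
  · haveI : Module.FinitePresentation A C := Module.finitePresentation_of_projective A C
    haveI : Module.FinitePresentation C (C ⧸ J) :=
      Module.finitePresentation_of_surjective J.mkQ J.mkQ_surjective (by rwa [Submodule.ker_mkQ])
    haveI : Module.FinitePresentation A (C ⧸ J) := Module.FinitePresentation.trans A (C ⧸ J) C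
    refine ⟨fittingZero_eq_ideal A (C ⧸ J) ▸ FittX.ideal_fg 0, ?_⟩
    haveI : Module.FinitePresentation B ((B ⧸ J.map (algebraMap C B)) × (E ⧸ I₂)) := Module.FinitePresentation.of_equiv D
    haveI : Module.FinitePresentation B (E ⧸ I₂) := by
      refine Module.finitePresentation_of_surjective (LinearMap.snd B (B ⧸ J.map (algebraMap C B)) (E ⧸ I₂))
        LinearMap.snd_surjective ?_
      rw [LinearMap.ker_snd]
      exact Module.Finite.iff_fg.mp inferInstance
    exact FittX.ideal_fg 0

end Groth.Agent.FlatFibres
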