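import Mathlib
import Groth.Prelude.Def_FlatCA

/-!
# `FlatAt` under flat base change and along integral ring maps
-/

set_option autoImplicit false
universe u

open TensorProduct

namespace Groth.Agent.FlatFibres

/-- The elementwise criterion for flatness at a prime. -/
theorem flatAt_iff_forall {R S : Type u} [CommRing R] [CommRing S] [Algebra R S] (q : Ideal S) [q.IsPrime]
    (X : Type u) [AddCommGroup X] [Module S X] [Module R X] [IsScalarTower R S X] :
    FlatCA.FlatAt R q X ↔ ∀ (I : Ideal R) (z : X ⊗[R] I),
      LinearMap.lTensor X I.subtype z = 0 → ∃ s : S, s ∉ q ∧ s • z = 0 := by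
  let f := LocalizedModule.mkLinearMap q.primeCompl X
  let μ : ∀ I : Ideal R, X ⊗[R] I →ₗ[S] X ⊗[R] R := fun I =>
    AlgebraTensorModule.lTensor S X I.subtype
  have key : ∀ I : Ideal R, Function.Injective (LinearMap.lTensor (LocalizedModule q.primeCompl X) I.subtype) ↔
      ∀ z : X ⊗[R] I, μ I z = 0 → ∃ s : S, s ∉ q ∧ s • z = 0 := by
    intro I
    let fI := AlgebraTensorModule.rTensor R (I : Submodule R R) f
    let fR := AlgebraTensorModule.rTensor R R f
    have hmap : IsLocalizedModule.map q.primeCompl fI fR (μ I) =
        (AlgebraTensorModule.lTensor S (LocalizedModule q.primeCompl X) I.subtype) :=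
      IsLocalizedModule.map_lTensor ..
    rw [show LinearMap.lTensor (LocalizedModule q.primeCompl X) I.subtype =
      ⇑(AlgebraTensorModule.lTensor S (LocalizedModule q.primeCompl X) I.subtype) from
        (AlgebraTensorModule.coe_lTensor I.subtype).symm, ← hmap]
    constructor
    · intro h z hz
      have h1 : fI z = 0 := h (by rw [IsLocalizedModule.map_apply, hz, map_zero, map_zero])
      obtain ⟨s, hs⟩ := (IsLocalizedModule.eq_zero_iff q.primeCompl fI).mp h1
      exact ⟨s.1, s.2, hs⟩
    · intro h
      rw [injective_iff_map_eq_zero]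
      intro w hw
      obtain ⟨⟨z, t⟩, rfl⟩ := IsLocalizedModule.mk'_surjective q.primeCompl fI w
      rw [Function.uncurry_apply_pair, IsLocalizedModule.map_mk', IsLocalizedModule.mk'_eq_zero'] at hw
      obtain ⟨a, ha⟩ := hw
      obtain ⟨s, hs, hsz⟩ := h (a.1 • z) (by rw [map_smul]; exact ha)
      exact (IsLocalizedModule.mk'_eq_zero' fI t).mpr ⟨⟨s, hs⟩ * a, by
        show (s * a.1) • z = 0
        rw [mul_smul, hsz]⟩
  rw [FlatCA.FlatAt, Module.Flat.iff_lTensor_injective']
  exact forall_congr' fun I => by rw [key I]; simp only [μ, AlgebraTensorModule.coe_lTensor]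

/-- Along an integral map, flatness at a prime can be tested at the primes over it. -/
theorem flatAt_iff_forall_over {R S T : Type u} [CommRing R] [CommRing S] [CommRing T] [Algebra R S]
    [Algebra R T] [Algebra S T] [IsScalarTower R S T] [Algebra.IsIntegral S T] (q : Ideal S) [q.IsPrime]
    (X : Type u) [AddCommGroup X] [Module T X] [Module S X] [IsScalarTower S T X] [Module R X]
    [IsScalarTower R T X] [IsScalarTower R S X] :
    FlatCA.FlatAt R q X ↔ ∀ (r : Ideal T) [r.IsPrime], r.comap (algebraMap S T) = q → FlatCA.FlatAt R r X := by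
  constructor
  · intro h r _ hr
    rw [flatAt_iff_forall]
    intro I z hz
    obtain ⟨s, hs, hsz⟩ := (flatAt_iff_forall q X).mp h I z hz
    exact ⟨algebraMap S T s, fun hmem => hs (hr ▸ hmem), by rw [IsScalarTower.algebraMap_smul]; exact hsz⟩
  · intro h
    rw [flatAt_iff_forall]
    intro I z hz
    by_contra! hn
    let J : Ideal T := (Submodule.span T {z}).annihilator
    have hJ : Disjoint (J : Set T) (q.primeCompl.map (algebraMap S T)) := by
      rw [Set.disjoint_left]
      rintro _ ht ⟨s, hs, rfl⟩
      refine hn s hs ?_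
      rw [← IsScalarTower.algebraMap_smul T s z]
      exact (Submodule.mem_annihilator_span_singleton z _).mp ht
    obtain ⟨r₀, hr₀, hJr, hdisj⟩ := Ideal.exists_le_prime_disjoint J _ hJ
    have hle : r₀.comap (algebraMap S T) ≤ q := fun s hs => by
      by_contra h'
      exact Set.disjoint_left.mp hdisj hs ⟨s, h', rfl⟩
    obtain ⟨r, hr₀r, hr, hrq⟩ := Ideal.exists_ideal_over_prime_of_isIntegral q r₀ hle
    obtain ⟨t, ht, htz⟩ := (flatAt_iff_forall r X).mp (h r hrq) I z hz
    exact ht (hr₀r (hJr ((Submodule.mem_annihilator_span_singleton z _).mpr htz)))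

section Flat

variable {R S T : Type u} [CommRing R] [CommRing S] [CommRing T] [Algebra R S] [Algebra R T] [Algebra S T]
  [IsScalarTower R S T] {M X : Type u} [AddCommGroup M] [Module S M] [Module R M] [IsScalarTower R S M]
  [AddCommGroup X] [Module T X] [Module S X] [IsScalarTower S T X] [Module R X] [IsScalarTower R T X]
  (h : M →ₗ[S] X) (hh : IsBaseChange T h)

include hh in
theorem lTensor_injective_congr (I : Ideal R) :
    Function.Injective (LinearMap.lTensor X I.subtype) ↔
      Function.Injective ((AlgebraTensorModule.lTensor S M I.subtype).lTensor T) := by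
  haveI : IsScalarTower R S X := .of_algebraMap_smul fun r x => by
    rw [← IsScalarTower.algebraMap_smul T (algebraMap R S r) x, ← IsScalarTower.algebraMap_apply,
      IsScalarTower.algebraMap_smul]
  let e : ∀ (Q : Type u) [AddCommGroup Q] [Module R Q], T ⊗[S] (M ⊗[R] Q) ≃ₗ[T] X ⊗[R] Q := fun Q _ _ =>
    (AlgebraTensorModule.assoc R S T T M Q).symm ≪≫ₗ AlgebraTensorModule.congr hh.equiv (LinearEquiv.refl R Q)
  have hc : ∀ z, e R ((AlgebraTensorModule.lTensor S M I.subtype).lTensor T z) =
      LinearMap.lTensor X I.subtype (e I z) := by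
    intro z
    induction z with
    | zero => simp
    | add a b ha hb => simp only [map_add, ha, hb]
    | tmul t w =>
      induction w with
      | zero => simp
      | add a b ha hb => simp only [tmul_add, map_add, ha, hb]
      | tmul m a => simp [e]
  have : LinearMap.lTensor X I.subtype = e R ∘ (AlgebraTensorModule.lTensor S M I.subtype).lTensor T ∘ (e I).symm := by
    funext z
    simp only [Function.comp_apply]
    rw [hc, LinearEquiv.apply_symm_apply]
  rw [this, EquivLike.comp_injective, EquivLike.injective_comp]

include hh in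
theorem flat_of_isBaseChange [Module.Flat S T] [Module.Flat R M] : Module.Flat R X := by
  rw [Module.Flat.iff_lTensor_injective']
  intro I
  rw [lTensor_injective_congr h hh]
  refine Module.Flat.lTensor_preserves_injective_linearMap _ ?_
  rw [AlgebraTensorModule.coe_lTensor]
  exact Module.Flat.iff_lTensor_injective'.mp ‹_› I

include hh in
theorem flat_iff_of_isBaseChange [Module.FaithfullyFlat S T] : Module.Flat R X ↔ Module.Flat R M := by
  refine ⟨fun hX => ?_, fun hM => flat_of_isBaseChange h hh⟩
  rw [Module.Flat.iff_lTensor_injective']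
  intro I
  rw [← AlgebraTensorModule.coe_lTensor (A := S)]
  refine (Module.FaithfullyFlat.lTensor_injective_iff_injective S T _).1 ?_
  rw [← lTensor_injective_congr h hh]
  exact Module.Flat.iff_lTensor_injective'.mp hX I

include hh in
/-- Flatness at primes under flat base change. -/
theorem flatAt_iff_of_isBaseChange [Module.Flat S T] (q : Ideal S) [q.IsPrime] (r : Ideal T) [r.IsPrime]
    [r.LiesOver q] : FlatCA.FlatAt R q M ↔ FlatCA.FlatAt R r X := by
  let Sq := Localization.AtPrime q
  let Tr := Localization.AtPrime r
  letI : Algebra Sq Tr := Localization.AtPrime.algebraOfLiesOver q r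
  haveI : Module.Flat Sq Tr := inferInstance
  haveI : IsLocalHom (algebraMap Sq Tr) :=
    Localization.isLocalHom_localRingHom q r (algebraMap S T) Ideal.LiesOver.over
  haveI : Module.FaithfullyFlat Sq Tr := Module.FaithfullyFlat.of_flat_of_isLocalHom
  let Mq := LocalizedModule q.primeCompl M
  let Xr := LocalizedModule r.primeCompl X
  let fM := LocalizedModule.mkLinearMap q.primeCompl M
  let fX := LocalizedModule.mkLinearMap r.primeCompl X
  letI : Module Sq Xr := Module.compHom Xr (algebraMap Sq Tr)
  haveI : IsScalarTower Sq Tr Xr := .of_algebraMap_smul fun _ _ => rfl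
  haveI : IsScalarTower S Tr Xr := .of_algebraMap_smul fun s x => by
    rw [IsScalarTower.algebraMap_apply S T Tr, IsScalarTower.algebraMap_smul, IsScalarTower.algebraMap_smul]
  haveI : IsScalarTower S Sq Xr := .of_algebraMap_smul fun s x => by
    show algebraMap Sq Tr (algebraMap S Sq s) • x = s • x
    rw [← IsScalarTower.algebraMap_apply S Sq Tr, IsScalarTower.algebraMap_smul]
  haveI : IsScalarTower R Tr Xr := .of_algebraMap_smul fun s x => by
    rw [IsScalarTower.algebraMap_apply R T Tr, IsScalarTower.algebraMap_smul, IsScalarTower.algebraMap_smul]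
  have hfX : IsBaseChange Tr fX := IsLocalizedModule.isBaseChange r.primeCompl Tr fX
  have hfM : IsBaseChange Sq fM := IsLocalizedModule.isBaseChange q.primeCompl Sq fM
  have hc : IsBaseChange Tr (fX.restrictScalars S ∘ₗ h) := IsBaseChange.comp hh hfX
  let h' : Mq →ₗ[Sq] Xr := hfM.lift (fX.restrictScalars S ∘ₗ h)
  have hc' : IsBaseChange Tr h' := by
    refine IsBaseChange.of_comp hfM ?_
    have e : (h'.restrictScalars S) ∘ₗ fM = fX.restrictScalars S ∘ₗ h := LinearMap.ext fun m => hfM.lift_eq _ m
    rwa [e]
  exact (flat_iff_of_isBaseChange (R := R) h' hc').symm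

end Flat

end Groth.Agent.FlatFibres
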