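import Groth.Agent.RG11.LocalNhdAlg
import Groth.Agent.RG11.AssocFlat
import Groth.Agent.RG11.GlobalUI
import Groth.Agent.RG11.PureLoc
import Groth.Agent.RG11.UnivCompl
import Groth.Agent.FlatModel.Open

/-!
# The flat locus over a base with finitely many weakly associated primes
-/

set_option autoImplicit false
set_option linter.style.haveILetI false
universe u

namespace Groth.Agent.FlatFibres.FlatWeakAss

open TensorProduct

attribute [local instance] Algebra.TensorProduct.rightAlgebra

variable {R : Type u} [CommRing R] {P : Type u} [CommRing P] [Algebra R P]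

/-- The support of an element of a module at a prime, minimal: the annihilator meets. -/
theorem exists_prime_le_of_smul_ne {M : Type u} [AddCommGroup M] [Module P M] (x : Ideal P) [x.IsPrime]
    (p' : Ideal R) [p'.IsPrime] (z : M)
    (h : ∀ s ∉ x, ∀ r ∉ p', (s * algebraMap R P r) • z ≠ 0) :
    ∃ t : Ideal P, t.IsPrime ∧ t ≤ x ∧ t.comap (algebraMap R P) ≤ p' ∧ ∀ s ∉ t, s • z ≠ 0 := by
  let T : Submonoid P := x.primeCompl ⊔ p'.primeCompl.map (algebraMap R P)
  have hd : Disjoint (((Submodule.span P {z}).annihilator : Ideal P) : Set P) (T : Set P) := by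
    rw [Set.disjoint_left]
    intro a ha haT
    obtain ⟨s, hs, _, ⟨r, hr, rfl⟩, rfl⟩ := Submonoid.mem_sup.mp haT
    exact h s hs r hr (Submodule.mem_annihilator_span_singleton _ _ |>.mp ha)
  obtain ⟨t, ht, hle, hdt⟩ := Ideal.exists_le_prime_disjoint _ T hd
  refine ⟨t, ht, fun a ha => ?_, fun r hr => ?_, fun s hs hsz => hs (hle ?_)⟩
  · by_contra hax
    exact Set.disjoint_left.mp hdt ha ((le_sup_left : _ ≤ T) hax)
  · by_contra hrp
    exact Set.disjoint_left.mp hdt hr ((le_sup_right : _ ≤ T) ⟨r, hrp, rfl⟩)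
  · exact (Submodule.mem_annihilator_span_singleton _ _).mpr hsz

variable {M : Type u} [AddCommGroup M] [Module P M] [Module R M] [IsScalarTower R P M]

/-- A point minimal in the support of an element of a module flat there lies over a weakly associated
prime of the base, when the latter are finite in number. -/
theorem under_mem_weakAss (hR : (FlatCA.weakAss R R).Finite) (x : Ideal P) [x.IsPrime]
    (hflat : FlatCA.FlatAt R x M) (z : M) (hz : ∀ s ∉ x, s • z ≠ 0)
    (hmin : ∀ t : Ideal P, t.IsPrime → t ≤ x → (∀ s ∉ t, s • z ≠ 0) → t = x) :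
    x.comap (algebraMap R P) ∈ FlatCA.weakAss R R := by
  classical
  by_contra hp
  let p := x.comap (algebraMap R P)
  haveI : Finite {p' : Ideal R // p' ∈ FlatCA.weakAss R R ∧ p' ≤ p} :=
    (hR.subset fun p' hp' => hp'.1 : {p' | p' ∈ FlatCA.weakAss R R ∧ p' ≤ p}.Finite).to_subtype
  let W := {p' : Ideal R // p' ∈ FlatCA.weakAss R R ∧ p' ≤ p}
  have hkill : ∀ p' : W, ∃ s ∉ x, ∃ r ∉ p'.1, (s * algebraMap R P r) • z = 0 := fun p' => by
    haveI : p'.1.IsPrime := by obtain ⟨m, hm⟩ := p'.2.1; exact hm.1.1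
    by_contra! hne
    obtain ⟨t, ht, htx, htp, htz⟩ := exists_prime_le_of_smul_ne x p'.1 z hne
    obtain rfl := hmin t ht htx htz
    exact hp (le_antisymm htp p'.2.2 ▸ p'.2.1)
  choose s hs r hr hsr using hkill
  haveI : Fintype W := Fintype.ofFinite W
  let z' := LocalizedModule.mkLinearMap x.primeCompl M z
  let Mx := LocalizedModule x.primeCompl M
  have hunit : ∀ a : P, a ∉ x → ∀ y : Mx, a • y = 0 → y = 0 := fun a ha y hy =>
    ((Module.End.isUnit_iff _).mp (IsLocalizedModule.map_units (LocalizedModule.mkLinearMap x.primeCompl M)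
      (⟨a, ha⟩ : x.primeCompl))).1 (hy.trans (map_zero (algebraMap P (Module.End P Mx) a)).symm)
  have hz' : ∀ p' : W, r p' • z' = 0 := fun p' => by
    refine hunit _ (hs p') _ ?_
    rw [← algebraMap_smul P (r p') z', smul_smul, ← map_smul, hsr p', map_zero]
  let φ : R →ₗ[R] (W → R) := LinearMap.pi fun p' => LinearMap.mulLeft R (r p')
  have hK : ∀ a ∈ LinearMap.ker φ, ∃ b ∉ p, b * a = 0 := fun a ha => by
    by_contra! hne
    have hle : (Submodule.span R {a}).annihilator ≤ p := fun b hb => by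
      by_contra hbp
      exact hne b hbp ((Submodule.mem_annihilator_span_singleton a b).mp hb)
    obtain ⟨p', hp', hp'p⟩ := Ideal.exists_minimalPrimes_le hle
    haveI := hp'.1.1
    have hmem : r ⟨p', ⟨a, hp'⟩, hp'p⟩ ∈ p' :=
      hp'.1.2 ((Submodule.mem_annihilator_span_singleton a _).mpr (congrFun (LinearMap.mem_ker.mp ha) ⟨p', ⟨a, hp'⟩, hp'p⟩))
    exact hr ⟨p', ⟨a, hp'⟩, hp'p⟩ hmem
  haveI : Module.Flat R Mx := hflat
  have h0 : z' ⊗ₜ[R] (1 : R) = 0 := by
    have hex : Function.Exact ((LinearMap.ker φ).subtype.lTensor Mx) (φ.lTensor Mx) :=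
      Module.Flat.lTensor_exact Mx φ.exact_subtype_ker_map
    have hφ : φ.lTensor Mx (z' ⊗ₜ[R] (1 : R)) = 0 := by
      rw [LinearMap.lTensor_tmul]
      refine (TensorProduct.piScalarRight R R Mx W).injective ?_
      ext p'
      simp [φ, hz' p']
    obtain ⟨w, hw⟩ := (hex _).mp hφ
    rw [← hw]
    suffices w = 0 by rw [this, map_zero]
    clear hw
    induction w with
    | zero => rfl
    | add a b ha hb => rw [ha, hb, add_zero]
    | tmul y a =>
      obtain ⟨b, hb, hba⟩ := hK a.1 a.2
      obtain ⟨y', rfl⟩ := ((Module.End.isUnit_iff _).mp (IsLocalizedModule.map_units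
        (LocalizedModule.mkLinearMap x.primeCompl M) (⟨algebraMap R P b, hb⟩ : x.primeCompl))).2 y
      change (algebraMap R P b • y') ⊗ₜ[R] a = 0
      rw [algebraMap_smul, TensorProduct.smul_tmul, show b • a = 0 from Subtype.ext hba, TensorProduct.tmul_zero]
  have h1 : z' = 0 := by simpa using congrArg (TensorProduct.rid R Mx) h0
  obtain ⟨a, ha⟩ := (IsLocalizedModule.eq_zero_iff x.primeCompl (LocalizedModule.mkLinearMap x.primeCompl M)).mp h1
  exact hz a a.2 ha

/-- A point minimal in the support of an element of a module flat there is an associated point of the fibre. -/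
theorem fiberIdeal_mem_associatedPrimes [Algebra.FiniteType R P] [Module.Finite P M] (x : Ideal P) [x.IsPrime]
    (hflat : FlatCA.FlatAt R x M) (z : M) (hz : ∀ s ∉ x, s • z ≠ 0)
    (hmin : ∀ t : Ideal P, t.IsPrime → t ≤ x → (∀ s ∉ t, s • z ≠ 0) → t = x) :
    FlatCA.fiberIdeal (x.under R) x ∈
      associatedPrimes ((x.under R).Fiber P) (FlatCA.fiberMod (x.under R) P M) := by
  classical
  obtain ⟨T, hT, hmem⟩ := RG11.exists_assoc_points M (x.under R) x
  by_contra hass
  let L := ∀ t : T, LocalizedModule t.1.asIdeal.primeCompl M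
  haveI : ∀ t : T, Module.Flat R (LocalizedModule t.1.asIdeal.primeCompl M) := fun t =>
    RG11.flatAt_of_le M (hT _ t.2).1 hflat
  haveI : Module.Flat R L := Module.Flat.of_linearEquiv
    (DFinsupp.linearEquivFunOnFintype (R := R) (M := fun t : T => LocalizedModule t.1.asIdeal.primeCompl M)).symm
  let u : M →ₗ[P] L := LinearMap.pi fun t => LocalizedModule.mkLinearMap _ M
  have hu : u z = 0 := funext fun t => by
    obtain ⟨a, ha, ha0⟩ : ∃ a ∉ t.1.asIdeal, a • z = 0 := by
      by_contra! hne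
      have := hmin t.1.asIdeal t.1.isPrime (hT _ t.2).1 hne
      exact hass (by
        have h := (hT _ t.2).2.2
        simp only [this] at h
        exact h)
    exact (IsLocalizedModule.eq_zero_iff t.1.asIdeal.primeCompl (LocalizedModule.mkLinearMap _ M)).mpr ⟨⟨a, ha⟩, ha0⟩
  obtain ⟨a, ha, ha0⟩ := RG11.exists_smul_eq_zero_of_linear_map M (x.under R) x u (fun n hn => hmem n fun t ht => by
    refine RG11.exists_smul_mem_of_localized_mem (x.under R) t.asIdeal.primeCompl
      (LocalizedModule.mkLinearMap t.asIdeal.primeCompl M) n ?_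
    have h1 := Submodule.mem_map_of_mem (f := (LinearMap.proj (⟨t, ht⟩ : T) : L →ₗ[R] _)) hn
    rw [Submodule.map_smul''] at h1
    exact Submodule.smul_mono le_rfl le_top h1) R (z ⊗ₜ[R] (1 : R))
    (by rw [LinearMap.rTensor_tmul, LinearMap.restrictScalars_apply, hu, zero_tmul])
  refine hz a ha ?_
  rw [smul_tmul'] at ha0
  simpa using congrArg (TensorProduct.rid R M) ha0

/-- Near a point where it is flat, a finite module over a finitely presented algebra agrees with a
finitely presented flat module. -/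
theorem exists_fp_flat_nhd [Algebra.FinitePresentation R P] [Module.Finite P M] (hR : (FlatCA.weakAss R R).Finite)
    (q : Ideal P) [q.IsPrime] (hflat : FlatCA.FlatAt R q M) :
    ∃ g ∉ q, Module.Flat R (LocalizedModule (Submonoid.powers g) M) ∧
      Module.FinitePresentation (Localization.Away g) (LocalizedModule (Submonoid.powers g) M) := by
  classical
  obtain ⟨n, π, hπ⟩ := Module.Finite.exists_fin' P M
  haveI := RG11.fp_atPrime_of_flatAt M q hflat
  let Pq := Localization.AtPrime q
  let πq := IsLocalizedModule.mapExtendScalars q.primeCompl (LocalizedModule.mkLinearMap q.primeCompl (Fin n → P))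
    (LocalizedModule.mkLinearMap q.primeCompl M) Pq π
  haveI : Module.Finite Pq (LocalizedModule q.primeCompl (Fin n → P)) :=
    Module.Finite.of_isLocalizedModule q.primeCompl (LocalizedModule.mkLinearMap q.primeCompl (Fin n → P))
  have hπq : Function.Surjective πq :=
    IsLocalizedModule.map_surjective q.primeCompl (LocalizedModule.mkLinearMap q.primeCompl (Fin n → P))
      (LocalizedModule.mkLinearMap q.primeCompl M) π hπ
  obtain ⟨G, hG⟩ := Module.FinitePresentation.fg_ker πq hπq
  have hlift : ∀ y ∈ LinearMap.ker πq, ∃ k ∈ LinearMap.ker π, ∃ s : q.primeCompl,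
      s • y = LocalizedModule.mkLinearMap q.primeCompl (Fin n → P) k := fun y hy => by
    obtain ⟨⟨k, s⟩, hk⟩ := IsLocalizedModule.surj q.primeCompl (LocalizedModule.mkLinearMap q.primeCompl (Fin n → P)) y
    have h1 : LocalizedModule.mkLinearMap q.primeCompl M (π k) = 0 := by
      rw [← IsLocalizedModule.map_apply q.primeCompl (LocalizedModule.mkLinearMap q.primeCompl (Fin n → P))
        (LocalizedModule.mkLinearMap q.primeCompl M) π k, ← hk, Submonoid.smul_def, map_smul]
      exact (congrArg ((s : P) • ·) (LinearMap.mem_ker.mp hy)).trans (smul_zero _)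
    obtain ⟨c, hc⟩ := (IsLocalizedModule.eq_zero_iff q.primeCompl (LocalizedModule.mkLinearMap q.primeCompl M)).mp h1
    refine ⟨(c : P) • k, by rw [LinearMap.mem_ker, map_smul]; exact hc, c * s, ?_⟩
    rw [map_smul, ← hk, mul_smul]; rfl
  choose kk hkk ss hss using fun (y : G) => hlift y (hG ▸ Submodule.subset_span y.2)
  let K₀ : Submodule P (Fin n → P) := Submodule.span P (Set.range kk)
  have hK₀ : K₀ ≤ LinearMap.ker π := Submodule.span_le.mpr (Set.range_subset_iff.mpr hkk)
  let N₀ := (Fin n → P) ⧸ K₀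
  haveI : Module.FinitePresentation P N₀ :=
    Module.finitePresentation_of_surjective K₀.mkQ (Submodule.mkQ_surjective _) (by
      rw [Submodule.ker_mkQ]; exact Submodule.fg_span (Set.finite_range _))
  let ρ : N₀ →ₗ[P] M := K₀.liftQ π hK₀
  have hρ : Function.Surjective ρ := fun m => ⟨Submodule.Quotient.mk (hπ m).choose, (hπ m).choose_spec⟩
  have hker : ∀ z, ρ z = 0 → ∃ s ∉ q, s • z = 0 := by
    intro z hz
    obtain ⟨k, rfl⟩ := Submodule.mkQ_surjective K₀ z
    have hky : LocalizedModule.mkLinearMap q.primeCompl (Fin n → P) k ∈ Submodule.span Pq (G : Set _) := by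
      rw [hG, LinearMap.mem_ker]
      show IsLocalizedModule.map q.primeCompl _ _ π _ = 0
      rw [IsLocalizedModule.map_apply, show π k = 0 from hz, map_zero]
    have h2 : ∃ k' ∈ K₀, ∃ s : q.primeCompl,
        s • LocalizedModule.mkLinearMap q.primeCompl (Fin n → P) k =
          LocalizedModule.mkLinearMap q.primeCompl (Fin n → P) k' := by
      suffices ∀ y ∈ Submodule.span Pq (G : Set (LocalizedModule q.primeCompl (Fin n → P))), ∃ k' ∈ K₀,
          ∃ s : q.primeCompl, s • y = LocalizedModule.mkLinearMap q.primeCompl (Fin n → P) k' from this _ hky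
      intro y₀ hy₀
      induction hy₀ using Submodule.span_induction with
      | mem y hy => exact ⟨kk ⟨y, hy⟩, Submodule.subset_span ⟨⟨y, hy⟩, rfl⟩, ss ⟨y, hy⟩, hss ⟨y, hy⟩⟩
      | zero => exact ⟨0, zero_mem _, 1, by simp⟩
      | add y y' _ _ h h' =>
        obtain ⟨k₁, hk₁, s₁, e₁⟩ := h
        obtain ⟨k₂, hk₂, s₂, e₂⟩ := h'
        refine ⟨(s₂ : P) • k₁ + (s₁ : P) • k₂, add_mem (K₀.smul_mem _ hk₁) (K₀.smul_mem _ hk₂), s₁ * s₂, ?_⟩
        rw [map_add, map_smul, map_smul, ← e₁, ← e₂, Submonoid.smul_def, Submonoid.smul_def, Submonoid.smul_def,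
          Submonoid.coe_mul, smul_add]
        congr 1 <;> simp only [smul_smul, mul_comm]
      | smul b y _ h =>
        obtain ⟨k₁, hk₁, s₁, e₁⟩ := h
        obtain ⟨⟨c, t⟩, ht⟩ := IsLocalization.surj q.primeCompl b
        refine ⟨c • k₁, K₀.smul_mem _ hk₁, t * s₁, ?_⟩
        rw [map_smul, ← e₁, Submonoid.smul_def, Submonoid.smul_def, Submonoid.coe_mul, ← algebraMap_smul Pq c,
          ← algebraMap_smul Pq ((t : P) * (s₁ : P)), ← algebraMap_smul Pq (s₁ : P) y, smul_smul, smul_smul, ← ht,
          map_mul]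
        congr 1; ring
    obtain ⟨k', hk', s, hs⟩ := h2
    rw [Submonoid.smul_def, ← map_smul] at hs
    obtain ⟨c, hc⟩ := IsLocalizedModule.exists_of_eq (S := q.primeCompl) hs
    refine ⟨(c : P) * s, fun h => (‹q.IsPrime›.mem_or_mem h).elim c.2 s.2, ?_⟩
    rw [← map_smul, Submodule.mkQ_apply, Submodule.Quotient.mk_eq_zero, mul_smul,
      show (c : P) • (s : P) • k = (c : P) • k' from hc]
    exact K₀.smul_mem _ hk'
  let ρq := IsLocalizedModule.map q.primeCompl (LocalizedModule.mkLinearMap q.primeCompl N₀)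
    (LocalizedModule.mkLinearMap q.primeCompl M) ρ
  have hρq : Function.Bijective ρq := by
    refine ⟨(injective_iff_map_eq_zero _).mpr fun y hy => ?_,
      IsLocalizedModule.map_surjective q.primeCompl _ _ ρ hρ⟩
    obtain ⟨⟨w, s⟩, hw⟩ := IsLocalizedModule.surj q.primeCompl (LocalizedModule.mkLinearMap q.primeCompl N₀) y
    have h1 : LocalizedModule.mkLinearMap q.primeCompl M (ρ w) = 0 := by
      rw [← IsLocalizedModule.map_apply q.primeCompl (LocalizedModule.mkLinearMap q.primeCompl N₀)
        (LocalizedModule.mkLinearMap q.primeCompl M) ρ w, ← hw, Submonoid.smul_def, map_smul]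
      exact (congrArg ((s : P) • ·) hy).trans (smul_zero _)
    obtain ⟨c, hc⟩ := (IsLocalizedModule.eq_zero_iff q.primeCompl (LocalizedModule.mkLinearMap q.primeCompl M)).mp h1
    obtain ⟨a, ha, ha0⟩ := hker ((c : P) • w) (by rw [map_smul]; exact hc)
    have h2 : LocalizedModule.mkLinearMap q.primeCompl N₀ w = 0 :=
      (IsLocalizedModule.eq_zero_iff q.primeCompl _).mpr
        ⟨⟨a * c, fun h => (‹q.IsPrime›.mem_or_mem h).elim ha c.2⟩, by rw [Submonoid.smul_def, mul_smul]; exact ha0⟩
    exact ((Module.End.isUnit_iff _).mp (IsLocalizedModule.map_units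
      (LocalizedModule.mkLinearMap q.primeCompl N₀) s)).1 ((hw.trans h2).trans (map_zero _).symm)
  have hflat₀ : FlatCA.FlatAt R q N₀ :=
    haveI : Module.Flat R (LocalizedModule q.primeCompl M) := hflat
    Module.Flat.of_linearEquiv ((LinearEquiv.ofBijective ρq hρq).restrictScalars R)
  obtain ⟨g₁, hg₁, hflatW⟩ := FlatModel.exists_flat_nhd N₀ q hflat₀
  have hfl : ∀ (x : Ideal P) [x.IsPrime], g₁ ∉ x → FlatCA.FlatAt R x N₀ := fun x _ hx => hflatW x.primeCompl hx
  -- the associated points over the finitely many weakly associated primes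
  let A : Set (Ideal P) := {x | x.IsPrime ∧ x.comap (algebraMap R P) ∈ FlatCA.weakAss R R ∧
    ∃ (_ : x.IsPrime), FlatCA.fiberIdeal (x.under R) x ∈
      associatedPrimes ((x.under R).Fiber P) (FlatCA.fiberMod (x.under R) P N₀)}
  have hA : A.Finite := by
    haveI : Finite (FlatCA.weakAss R R) := hR.to_subtype
    have hsub : A ⊆ ⋃ p : FlatCA.weakAss R R, {x | ∃ (hp : p.1.IsPrime), x.comap (algebraMap R P) = p.1 ∧
        ∃ (_ : x.IsPrime), FlatCA.fiberIdeal p.1 x ∈ associatedPrimes (p.1.Fiber P) (FlatCA.fiberMod p.1 P N₀)} := by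
      rintro x ⟨hx, hw, hx', hass⟩
      exact Set.mem_iUnion.mpr ⟨⟨_, hw⟩, inferInstanceAs (Ideal.comap _ _).IsPrime, rfl, hx, hass⟩
    refine (Set.finite_iUnion fun p => ?_).subset hsub
    by_cases hp : p.1.IsPrime
    · haveI : IsNoetherianRing (p.1.Fiber P) := Algebra.FiniteType.isNoetherianRing p.1.ResidueField _
      haveI : Module.Finite (p.1.Fiber P) (FlatCA.fiberMod p.1 P N₀) :=
        inferInstanceAs (Module.Finite (p.1.Fiber P) ((p.1.Fiber P) ⊗[P] N₀))
      refine Set.Finite.of_finite_image (f := FlatCA.fiberIdeal p.1) ?_ ?_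
      · refine (associatedPrimes.finite (p.1.Fiber P) (FlatCA.fiberMod p.1 P N₀)).subset ?_
        rintro _ ⟨x, ⟨_, -, _, hass⟩, rfl⟩
        exact hass
      · rintro x₁ ⟨_, h1, hx₁, -⟩ x₂ ⟨_, h2, hx₂, -⟩ he
        have key : ∀ (x : Ideal P) (hx : x.IsPrime), x.comap (algebraMap R P) = p.1 →
            ∃ Q : PrimeSpectrum (p.1.Fiber P),
              Q.asIdeal.comap (Algebra.TensorProduct.includeRight (R := R) (A := p.1.ResidueField) (B := P)).toRingHom = x := by
          intro x hx hxp
          let e := PrimeSpectrum.preimageHomeomorphFiber R P ⟨p.1, hp⟩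
          exact ⟨e ⟨⟨x, hx⟩, PrimeSpectrum.ext hxp⟩,
            congrArg (fun z => z.1.asIdeal) (e.symm_apply_apply ⟨⟨x, hx⟩, PrimeSpectrum.ext hxp⟩)⟩
        obtain ⟨Q₁, hQ₁⟩ := key x₁ hx₁ h1
        obtain ⟨Q₂, hQ₂⟩ := key x₂ hx₂ h2
        rw [← hQ₁, ← hQ₂, RG11.fiberIdeal_comap, RG11.fiberIdeal_comap] at he
        rw [← hQ₁, ← hQ₂, he]
    · exact Set.Finite.subset Set.finite_empty fun x ⟨h, _⟩ => absurd h hp
  obtain ⟨g, hgq, hg₁d, hgA⟩ : ∃ g ∉ q, g₁ ∣ g ∧ ∀ x ∈ A, ¬ x ≤ q → g ∈ x := by
    have hchoose : ∀ x ∈ hA.toFinset.filter (fun x => ¬ x ≤ q), ∃ a ∈ x, a ∉ q := fun x hx =>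
      SetLike.not_le_iff_exists.mp (Finset.mem_filter.mp hx).2
    choose a ha haq using hchoose
    refine ⟨g₁ * ∏ x ∈ (hA.toFinset.filter fun x => ¬ x ≤ q).attach, a x.1 x.2, ?_, dvd_mul_right _ _, fun x hx hxq => ?_⟩
    · intro h
      rcases ‹q.IsPrime›.mem_or_mem h with h | h
      · exact hg₁ h
      · obtain ⟨x, -, hx⟩ := (Ideal.IsPrime.prod_mem_iff).mp h
        exact haq _ _ hx
    · refine x.mul_mem_left _ ?_
      have hxf : x ∈ hA.toFinset.filter (fun x => ¬ x ≤ q) := Finset.mem_filter.mpr ⟨hA.mem_toFinset.mpr hx, hxq⟩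
      exact Ideal.prod_mem (I := x) (Finset.mem_attach _ ⟨x, hxf⟩) (ha x hxf)
  -- the kernel of `N₀ → M` vanishes on `D(g)`
  have hzero : ∀ z, ρ z = 0 → ∃ k : ℕ, g ^ k • z = 0 := by
    intro z hz
    by_contra! hne
    have hd : Disjoint (((Submodule.span P {z}).annihilator : Ideal P) : Set P) (Submonoid.powers g : Set P) := by
      rw [Set.disjoint_left]
      rintro _ ha ⟨k, rfl⟩
      exact hne k ((Submodule.mem_annihilator_span_singleton _ _).mp ha)
    obtain ⟨x₁, hx₁, hle, hdx⟩ := Ideal.exists_le_prime_disjoint _ _ hd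
    obtain ⟨x, hxmin, hxx₁⟩ := Ideal.exists_minimalPrimes_le hle
    haveI := hxmin.1.1
    have hgx : g ∉ x := fun h => Set.disjoint_left.mp hdx (hxx₁ h) ⟨1, pow_one g⟩
    have hzx : ∀ s ∉ x, s • z ≠ 0 := fun s hs h =>
      hs (hxmin.1.2 ((Submodule.mem_annihilator_span_singleton _ _).mpr h))
    have hmin : ∀ t : Ideal P, t.IsPrime → t ≤ x → (∀ s ∉ t, s • z ≠ 0) → t = x := fun t ht htx htz =>
      le_antisymm htx (hxmin.2 ⟨ht, fun a ha => by
        by_contra hat
        exact htz a hat ((Submodule.mem_annihilator_span_singleton _ _).mp ha)⟩ htx)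
    have hfx := hfl x fun h => hgx (x.mem_of_dvd hg₁d h)
    have hxA : x ∈ A := ⟨inferInstance, under_mem_weakAss hR x hfx z hzx hmin, inferInstance,
      fiberIdeal_mem_associatedPrimes x hfx z hzx hmin⟩
    have hxq : x ≤ q := by
      by_contra h
      exact hgx (hgA x hxA h)
    obtain ⟨s, hs, hsz⟩ := hker z hz
    exact hzx s (fun h => hs (hxq h)) hsz
  let ρg := IsLocalizedModule.map (Submonoid.powers g) (LocalizedModule.mkLinearMap (Submonoid.powers g) N₀)
    (LocalizedModule.mkLinearMap (Submonoid.powers g) M) ρ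
  have hρg : Function.Bijective ρg := by
    refine ⟨(injective_iff_map_eq_zero _).mpr fun y hy => ?_,
      IsLocalizedModule.map_surjective (Submonoid.powers g) _ _ ρ hρ⟩
    obtain ⟨⟨w, s⟩, hw⟩ := IsLocalizedModule.surj (Submonoid.powers g) (LocalizedModule.mkLinearMap (Submonoid.powers g) N₀) y
    have h1 : LocalizedModule.mkLinearMap (Submonoid.powers g) M (ρ w) = 0 := by
      rw [← IsLocalizedModule.map_apply (Submonoid.powers g) (LocalizedModule.mkLinearMap (Submonoid.powers g) N₀)
        (LocalizedModule.mkLinearMap (Submonoid.powers g) M) ρ w, ← hw, Submonoid.smul_def, map_smul]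
      exact (congrArg ((s : P) • ·) hy).trans (smul_zero _)
    obtain ⟨c, hc⟩ := (IsLocalizedModule.eq_zero_iff (Submonoid.powers g) (LocalizedModule.mkLinearMap (Submonoid.powers g) M)).mp h1
    obtain ⟨k, hk⟩ := hzero ((c : P) • w) (by rw [map_smul]; exact hc)
    have h2 : LocalizedModule.mkLinearMap (Submonoid.powers g) N₀ w = 0 :=
      (IsLocalizedModule.eq_zero_iff (Submonoid.powers g) _).mpr
        ⟨⟨g ^ k, k, rfl⟩ * c, by rw [Submonoid.smul_def, Submonoid.coe_mul, mul_smul]; exact hk⟩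
    exact ((Module.End.isUnit_iff _).mp (IsLocalizedModule.map_units
      (LocalizedModule.mkLinearMap (Submonoid.powers g) N₀) s)).1 ((hw.trans h2).trans (map_zero _).symm)
  refine ⟨g, hgq, ?_, ?_⟩
  · haveI : Module.Flat R (LocalizedModule (Submonoid.powers g) N₀) :=
      (RG11.flat_away_iff_forall (N := N₀) g).mpr fun x _ hx => hfl x fun h => hx (x.mem_of_dvd hg₁d h)
    exact Module.Flat.of_linearEquiv ((LinearEquiv.ofBijective ρg hρg).restrictScalars R).symm
  · haveI : Module.FinitePresentation (Localization.Away g) (LocalizedModule (Submonoid.powers g) N₀) := by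
      rw [RG11.fp_localizedModule_iff N₀ (Submonoid.powers g) (Localization.Away g)]
      infer_instance
    exact Module.FinitePresentation.of_equiv
      (LinearEquiv.ofBijective
        (IsLocalizedModule.mapExtendScalars (Submonoid.powers g) (LocalizedModule.mkLinearMap (Submonoid.powers g) N₀)
          (LocalizedModule.mkLinearMap (Submonoid.powers g) M) (Localization.Away g) ρ) hρg)

end Groth.Agent.FlatFibres.FlatWeakAss
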