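import Groth.Agent.FlatFibres.FlatWeakAssFin

/-!
# The flat locus of a finite module over a finite type algebra
-/

set_option autoImplicit false
set_option linter.style.haveILetI false
universe u

namespace Groth.Agent.FlatFibres.FlatWeakAss

open TensorProduct

variable {R S : Type u} [CommRing R] [CommRing S] [Algebra R S]

theorem flatAt_comap_iff {P : Type u} [CommRing P] [Algebra R P] [Algebra P S] [IsScalarTower R P S]
    (hsurj : Function.Surjective (algebraMap P S)) (N : Type u) [AddCommGroup N] [Module S N] [Module P N]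
    [IsScalarTower P S N] [Module R N] [IsScalarTower R S N] [IsScalarTower R P N] (q : Ideal S) [q.IsPrime] :
    FlatCA.FlatAt R (q.comap (algebraMap P S)) N ↔ FlatCA.FlatAt R q N := by
  rw [FlatFibres.flatAt_iff_forall, FlatFibres.flatAt_iff_forall]
  refine forall_congr' fun I => forall_congr' fun z => imp_congr_right fun _ => ⟨?_, ?_⟩
  · rintro ⟨s, hs, hsz⟩
    exact ⟨algebraMap P S s, hs, by rw [algebraMap_smul]; exact hsz⟩
  · rintro ⟨s, hs, hsz⟩
    obtain ⟨p, rfl⟩ := hsurj s
    exact ⟨p, hs, by rw [← algebraMap_smul S p z]; exact hsz⟩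

set_option maxHeartbeats 800000 in
set_option synthInstance.maxHeartbeats 200000 in
theorem flatLocus_and_relFP [Algebra.FiniteType R S] (hR : (FlatCA.weakAss R R).Finite)
    (N : Type u) [AddCommGroup N] [Module S N] [Module R N] [IsScalarTower R S N] [Module.Finite S N] :
    IsOpen {q : PrimeSpectrum S | FlatCA.FlatAt R q.asIdeal N} ∧
    ∀ (q : Ideal S) [q.IsPrime], FlatCA.FlatAt R q N → ∃ g : S, g ∉ q ∧
      Module.Flat R (LocalizedModule (Submonoid.powers g) N) ∧
      FlatCA.RelFinitePresentation R (Localization.Away g) (LocalizedModule (Submonoid.powers g) N) := by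
  obtain ⟨n, φ, hφ⟩ := Algebra.FiniteType.iff_quotient_mvPolynomial''.mp ‹Algebra.FiniteType R S›
  let P := MvPolynomial (Fin n) R
  letI : Algebra P S := φ.toRingHom.toAlgebra
  haveI : IsScalarTower R P S := IsScalarTower.of_algebraMap_eq fun r => (φ.commutes r).symm
  letI : Module P N := Module.compHom N φ.toRingHom
  haveI : IsScalarTower P S N := IsScalarTower.of_algebraMap_smul fun _ _ => rfl
  haveI : IsScalarTower R P N := IsScalarTower.of_algebraMap_smul fun r x => by
    show φ (algebraMap R P r) • x = r • x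
    rw [φ.commutes, algebraMap_smul]
  haveI : Module.Finite P S := Module.Finite.of_surjective (Algebra.linearMap P S) hφ
  haveI : Module.Finite P N := Module.Finite.trans S N
  have main : ∀ (q : Ideal S) [q.IsPrime], FlatCA.FlatAt R q N → ∃ G : P, φ G ∉ q ∧
      Module.Flat R (LocalizedModule (Submonoid.powers (φ G)) N) ∧
      Module.FinitePresentation (Localization.Away G) (LocalizedModule (Submonoid.powers G) N) := by
    intro q _ hflat
    obtain ⟨G, hG, hfl, hfp⟩ := exists_fp_flat_nhd (M := N) hR (q.comap (algebraMap P S))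
      ((flatAt_comap_iff hφ N q).mpr hflat)
    refine ⟨G, hG, (RG11.flat_away_iff_forall (N := N) (φ G)).mpr fun x _ hx => (flatAt_comap_iff hφ N x).mp ?_, hfp⟩
    exact (RG11.flat_away_iff_forall (N := N) G).mp hfl (x.comap (algebraMap P S)) hx
  refine ⟨isOpen_iff_forall_mem_open.mpr fun q hq => ?_, fun q _ hflat => ?_⟩
  · obtain ⟨G, hG, hfl, -⟩ := main q.asIdeal hq
    exact ⟨PrimeSpectrum.basicOpen (φ G), fun x hx => (RG11.flat_away_iff_forall (N := N) (φ G)).mp hfl x.asIdeal hx,
      (PrimeSpectrum.basicOpen (φ G)).isOpen, hG⟩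
  obtain ⟨G, hG, hfl, hfp⟩ := main q hflat
  refine ⟨φ G, hG, hfl, ?_⟩
  let PG := Localization.Away G
  let SG := Localization.Away (φ G)
  let LP := LocalizedModule (Submonoid.powers G) N
  let LS := LocalizedModule (Submonoid.powers (φ G)) N
  let ψ : MvPolynomial (Fin (n + 1)) R →ₐ[R] PG :=
    MvPolynomial.aeval (Fin.lastCases (IsLocalization.Away.invSelf G) fun i => algebraMap P PG (MvPolynomial.X i))
  have hren : ψ.comp (MvPolynomial.rename Fin.castSucc) = IsScalarTower.toAlgHom R P PG :=
    MvPolynomial.algHom_ext fun i => by simp [ψ]; rfl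
  have hψ : Function.Surjective ψ := fun y => by
    obtain ⟨⟨a, s⟩, hs⟩ := IsLocalization.surj (Submonoid.powers G) y
    obtain ⟨k, hk⟩ := s.2
    refine ⟨MvPolynomial.rename Fin.castSucc a * MvPolynomial.X (Fin.last n) ^ k, ?_⟩
    have h1 : ψ (MvPolynomial.rename Fin.castSucc a) = algebraMap P PG a := AlgHom.congr_fun hren a
    have h2 : ψ (MvPolynomial.X (Fin.last n)) = IsLocalization.Away.invSelf G := by simp [ψ]
    rw [map_mul, map_pow, h1, h2, ← hs, show (s : P) = G ^ k from hk.symm, map_pow, mul_assoc, ← mul_pow,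
      IsLocalization.Away.mul_invSelf, one_pow, mul_one]
  letI : Algebra (MvPolynomial (Fin (n + 1)) R) PG := ψ.toRingHom.toAlgebra
  haveI : Algebra.FinitePresentation P PG := IsLocalization.Away.finitePresentation G
  haveI : Algebra.FinitePresentation R PG := Algebra.FinitePresentation.trans R P PG
  haveI : Module.FinitePresentation (MvPolynomial (Fin (n + 1)) R) PG :=
    Module.finitePresentation_of_surjective (Algebra.linearMap _ PG) hψ
      (Algebra.FinitePresentation.ker_fG_of_surjective ψ hψ)
  let α₀ : P →ₐ[R] SG := (IsScalarTower.toAlgHom R S SG).comp φ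
  have hα₀ : ∀ y : Submonoid.powers G, IsUnit (α₀ y) := fun y => by
    obtain ⟨k, hk⟩ := y.2
    exact IsLocalization.map_units SG (⟨φ y, k, by rw [← hk]; exact (map_pow φ G k).symm⟩ : Submonoid.powers (φ G))
  let α : PG →ₐ[R] SG := IsLocalization.liftAlgHom hα₀
  have hα : ∀ p : P, α (algebraMap P PG p) = algebraMap S SG (φ p) := fun p => by
    show IsLocalization.lift _ (algebraMap P PG p) = _
    rw [IsLocalization.lift_eq]; rfl
  have hαs : Function.Surjective α := fun y => by
    obtain ⟨⟨b, s⟩, hs⟩ := IsLocalization.surj (Submonoid.powers (φ G)) y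
    obtain ⟨k, hk⟩ := s.2
    obtain ⟨a, rfl⟩ := hφ b
    refine ⟨algebraMap P PG a * IsLocalization.Away.invSelf G ^ k, (IsLocalization.map_units SG s).mul_left_inj.mp ?_⟩
    rw [hs, show (s : S) = φ (G ^ k) from hk.symm.trans (map_pow φ G k).symm, ← hα, ← hα, ← map_mul α]
    congr 1
    rw [map_pow, mul_assoc, ← mul_pow, mul_comm (IsLocalization.Away.invSelf G),
      IsLocalization.Away.mul_invSelf, one_pow, mul_one]
  refine ⟨n + 1, α.comp ψ, hαs.comp hψ, ?_⟩
  letI : Module PG LS := Module.compHom LS α.toRingHom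
  haveI : IsScalarTower P PG LS := IsScalarTower.of_algebraMap_smul fun p x => by
    show α (algebraMap P PG p) • x = p • x
    rw [hα, algebraMap_smul]
    exact algebraMap_smul S p x
  haveI : IsLocalizedModule (Submonoid.powers G) ((LocalizedModule.mkLinearMap (Submonoid.powers (φ G)) N).restrictScalars P) := by
    constructor
    · intro y
      obtain ⟨k, hk⟩ := y.2
      have h := IsLocalizedModule.map_units (LocalizedModule.mkLinearMap (Submonoid.powers (φ G)) N)
        (⟨φ y, k, by rw [← hk]; exact (map_pow φ G k).symm⟩ : Submonoid.powers (φ G))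
      rw [Module.End.isUnit_iff] at h ⊢
      refine (Function.Bijective.of_comp_iff' Function.bijective_id _).mp ?_
      convert h using 1
      funext x
      exact (algebraMap_smul S (y : P) x).symm
    · intro y
      obtain ⟨⟨m, s⟩, hs⟩ := IsLocalizedModule.surj (Submonoid.powers (φ G)) (LocalizedModule.mkLinearMap (Submonoid.powers (φ G)) N) y
      obtain ⟨k, hk⟩ := s.2
      refine ⟨(m, ⟨G ^ k, k, rfl⟩), ?_⟩
      rw [LinearMap.restrictScalars_apply, ← hs, Submonoid.smul_def, Submonoid.smul_def, ← algebraMap_smul S (G ^ k) y]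
      exact congrArg (· • y) ((map_pow φ G k).trans hk)
    · intro a b hab
      obtain ⟨c, hc⟩ := IsLocalizedModule.exists_of_eq (S := Submonoid.powers (φ G)) hab
      obtain ⟨k, hk⟩ := c.2
      refine ⟨⟨G ^ k, k, rfl⟩, ?_⟩
      rw [Submonoid.smul_def, Submonoid.smul_def] at hc ⊢
      rw [← algebraMap_smul S (G ^ k) a, ← algebraMap_smul S (G ^ k) b,
        show algebraMap P S (G ^ k) = (c : S) from (map_pow φ G k).trans hk]
      exact hc
  let e : LP ≃ₗ[P] LS := IsLocalizedModule.iso (Submonoid.powers G)
    ((LocalizedModule.mkLinearMap (Submonoid.powers (φ G)) N).restrictScalars P)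
  let e' : LP ≃ₗ[PG] LS := LinearEquiv.extendScalarsOfIsLocalization (Submonoid.powers G) PG e
  haveI : Module.FinitePresentation PG LS := Module.FinitePresentation.of_equiv e'
  let inst : Module (MvPolynomial (Fin (n + 1)) R) LS := Module.compHom LS (α.comp ψ).toRingHom
  letI := inst
  haveI : IsScalarTower (MvPolynomial (Fin (n + 1)) R) PG LS := IsScalarTower.of_algebraMap_smul fun _ _ => rfl
  exact Module.FinitePresentation.trans (MvPolynomial (Fin (n + 1)) R) LS PG

end Groth.Agent.FlatFibres.FlatWeakAss
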