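import Mathlib.AlgebraicGeometry.Fiber
import Mathlib.AlgebraicGeometry.Morphisms.Flat
import Groth.Agent.S1563
import Groth.Agent.S0116

/-!
# Locally Noetherian fibres under fppf base change
-/

set_option autoImplicit false
set_option backward.isDefEq.respectTransparency false
set_option backward.isDefEq.respectTransparency.types false
universe u

open AlgebraicGeometry CategoryTheory CategoryTheory.Limits

namespace Groth.Agent.FlatFibres

theorem isLocallyNoetherian_pullback_field {k K : Type u} [Field k] [Field K] (φ : k →+* K)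
    (hφ : φ.EssFiniteType) {Z : Scheme.{u}} (p : Z ⟶ Spec (CommRingCat.of k)) [IsLocallyNoetherian Z] :
    IsLocallyNoetherian (pullback p (Spec.map (CommRingCat.ofHom φ))) := by
  refine (isLocallyNoetherian_iff_openCover (Scheme.Pullback.openCoverOfLeft Z.affineCover p (Spec.map (CommRingCat.ofHom φ)))).2
    fun i => ?_
  haveI : IsLocallyNoetherian (Z.affineCover.X i) := isLocallyNoetherian_of_isOpenImmersion (Z.affineCover.f i)
  obtain ⟨R, hR⟩ : ∃ R, Z.affineCover.X i = Spec R := ⟨_, rfl⟩
  show IsLocallyNoetherian (pullback (Z.affineCover.f i ≫ p) (Spec.map (CommRingCat.ofHom φ)))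
  revert hR
  generalize Z.affineCover.f i ≫ p = q
  revert q
  generalize Z.affineCover.X i = W at *
  rintro q rfl
  obtain ⟨ψ, rfl⟩ := Spec.map_surjective q
  algebraize [φ]
  letI : Algebra k R := ψ.hom.toAlgebra
  haveI : IsNoetherianRing R := isLocallyNoetherian_Spec.mp ‹_›
  haveI : IsNoetherianRing (TensorProduct k R K) := S1563.isNoetherianRing_tensor_essFiniteType k R K
  haveI : IsNoetherianRing (CommRingCat.of (TensorProduct k R K)) := ‹IsNoetherianRing (TensorProduct k R K)›
  haveI : IsLocallyNoetherian (Spec (CommRingCat.of (TensorProduct k R K))) := inferInstance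
  exact isLocallyNoetherian_of_isOpenImmersion (pullbackSpecIso k R K).hom

theorem essFiniteType_residueFieldMap {X Y : Scheme.{u}} (g : X ⟶ Y) [LocallyOfFiniteType g] (x : X) :
    (g.residueFieldMap x).hom.EssFiniteType := by
  refine RingHom.EssFiniteType.of_comp (IsLocalRing.residue (Y.presheaf.stalk (g x))) ?_
  have h1 : (g.residueFieldMap x).hom.comp (IsLocalRing.residue (Y.presheaf.stalk (g x))) =
      (IsLocalRing.residue (X.presheaf.stalk x)).comp (g.stalkMap x).hom :=
    congrArg CommRingCat.Hom.hom (Scheme.residue_residueFieldMap g x)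
  rw [h1]
  exact RingHom.EssFiniteType.stableUnderComposition _ _ (LocallyOfFiniteType.stalkMap g x)
    (RingHom.FiniteType.essFiniteType (RingHom.FiniteType.of_surjective _ Ideal.Quotient.mk_surjective))

theorem isPullback_fibre {X Y X' Y' : Scheme.{u}} {f : X ⟶ Y} {f' : X' ⟶ Y'} {g' : X' ⟶ X} {g : Y' ⟶ Y}
    (hc : IsPullback g' f' f g) (y' : Y') :
    Nonempty (f'.fiber y' ≅ pullback (f.fiberToSpecResidueField (g y')) (Spec.map (g.residueFieldMap y'))) := by
  have h1 : IsPullback (f'.fiberι y' ≫ g') (f'.fiberToSpecResidueField y') f (Y'.fromSpecResidueField y' ≫ g) :=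
    (IsPullback.of_hasPullback f' (Y'.fromSpecResidueField y')).paste_horiz hc
  have h2 := (IsPullback.of_hasPullback (f.fiberToSpecResidueField (g y')) (Spec.map (g.residueFieldMap y'))).paste_horiz
    (IsPullback.of_hasPullback f (Y.fromSpecResidueField (g y')))
  rw [Scheme.Hom.SpecMap_residueFieldMap_fromSpecResidueField] at h2
  exact ⟨h1.isoIsPullback _ _ h2⟩

theorem forall_isLocallyNoetherian_fiber_iff {X Y X' Y' : Scheme.{u}} (f : X ⟶ Y) (f' : X' ⟶ Y') (g' : X' ⟶ X)
    (g : Y' ⟶ Y) [Flat g] [LocallyOfFinitePresentation g] [Surjective g] (hc : IsPullback g' f' f g) :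
    (∀ y : Y, IsLocallyNoetherian (f.fiber y)) ↔ ∀ y' : Y', IsLocallyNoetherian (f'.fiber y') := by
  refine ⟨fun h y' => ?_, fun h y => ?_⟩
  · haveI := h (g y')
    haveI := @isLocallyNoetherian_pullback_field (Y.residueField (g y')) (Y'.residueField y') _ _ (g.residueFieldMap y').hom (essFiniteType_residueFieldMap g y') _
      (f.fiberToSpecResidueField (g y'))
    exact isLocallyNoetherian_of_isOpenImmersion (isPullback_fibre hc y').some.hom
  · obtain ⟨y', rfl⟩ := g.surjective y
    haveI := h y'
    haveI := isLocallyNoetherian_of_isOpenImmersion (isPullback_fibre hc y').some.inv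
    let φ := g.residueFieldMap y'
    haveI : Flat (Spec.map φ) := by
      refine Flat.SpecMap_iff.2 ?_
      algebraize [φ.hom]
      exact RingHom.flat_algebraMap_iff.2 inferInstance
    haveI : Surjective (Spec.map φ) := ⟨Function.surjective_to_subsingleton _⟩
    haveI : QuasiCompact (Spec.map φ) := inferInstance
    exact S2492.result (pullback.fst (f.fiberToSpecResidueField (g y')) (Spec.map φ))

theorem forall_isLocallyNoetherian_fiber_comp_iff {X X' Y : Scheme.{u}} (f : X ⟶ Y) (a : X' ⟶ X) [Flat a]
    [LocallyOfFinitePresentation a] [Surjective a] :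
    (∀ y : Y, IsLocallyNoetherian (f.fiber y)) ↔ ∀ y : Y, IsLocallyNoetherian ((a ≫ f).fiber y) := by
  refine forall_congr' fun y => ?_
  let e : (a ≫ f).fiber y ≅ pullback a (f.fiberι y) :=
    (pullbackRightPullbackFstIso f (Y.fromSpecResidueField y) a).symm
  constructor
  · intro h
    haveI : IsLocallyNoetherian (pullback a (f.fiberι y)) :=
      LocallyOfFiniteType.isLocallyNoetherian (pullback.snd a (f.fiberι y))
    exact isLocallyNoetherian_of_isOpenImmersion e.hom
  · intro h
    haveI := isLocallyNoetherian_of_isOpenImmersion e.inv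
    exact S0116.result (pullback.snd a (f.fiberι y))

end Groth.Agent.FlatFibres
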