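import Mathlib.AlgebraicGeometry.Geometrically.Connected
import Groth.Agent.GeomField.Connected
import Groth.Agent.EtResidue.Basic
import Groth.Agent.FlatFibres.NoethFibres

/-!
# Geometrically connected fibres and etale base change
-/

set_option autoImplicit false
set_option backward.isDefEq.respectTransparency false
set_option backward.isDefEq.respectTransparency.types false
universe u

open AlgebraicGeometry CategoryTheory CategoryTheory.Limits

namespace Groth.Agent.FlatFibres

theorem geometricallyConnected_fibre_iff {X S : Scheme.{u}} (f : X ⟶ S) (s : S) :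
    GeometricallyConnected (f.fiberToSpecResidueField s) ↔
      ∀ (U : Scheme.{u}) (g : U ⟶ S) (u : U), Etale g → g u = s → ConnectedSpace ↑((pullback.snd f g).fiber u) := by
  constructor
  · rintro h U g u hg rfl
    have : ConnectedSpace ↥(pullback (f.fiberToSpecResidueField (g u)) (Spec.map (g.residueFieldMap u))) :=
      pullback_of_geometrically h.geometrically_connectedSpace (U.residueField u) _
    exact ((isPullback_fibre (IsPullback.of_hasPullback f g) u).some.hom.homeomorph.connectedSpace_iff).2 this
  · intro h
    letI : (f.fiber s).Over (Spec (CommRingCat.of (S.residueField s))) := ⟨f.fiberToSpecResidueField s⟩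
    refine GeomField.geometricallyConnected_of_finiteSeparable (k := S.residueField s) (X := f.fiber s) ?_
    intro k' _ _ _ _
    obtain ⟨U, g, u, rfl, hg, ⟨e⟩⟩ := EtResidue.exists_etale_nbhd S s k'
    haveI := h U g u hg rfl
    have h1 : ConnectedSpace ↥(pullback (f.fiberToSpecResidueField (g u)) (Spec.map (g.residueFieldMap u))) :=
      ((isPullback_fibre (IsPullback.of_hasPullback f g) u).some.hom.homeomorph.connectedSpace_iff).1 this
    letI := ((S.residueFieldCongr (rfl : g u = g u)).inv ≫ g.residueFieldMap u).hom.toAlgebra
    let e' : CommRingCat.of k' ≅ U.residueField u := e.toRingEquiv.toCommRingCatIso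
    have he : CommRingCat.ofHom (algebraMap (S.residueField (g u)) k') ≫ e'.hom = g.residueFieldMap u := by
      ext r
      refine (e.commutes r).trans ?_
      show ((S.residueFieldCongr (rfl : g u = g u)).inv ≫ g.residueFieldMap u).hom r = _
      rw [Scheme.residueFieldCongr_refl, Iso.refl_inv, Category.id_comp]
    let E : pullback (f.fiberToSpecResidueField (g u)) (Spec.map (g.residueFieldMap u)) ⟶
        pullback (f.fiberToSpecResidueField (g u)) (Spec.map (CommRingCat.ofHom (algebraMap (S.residueField (g u)) k'))) :=
      pullback.map _ _ _ _ (𝟙 _) (Spec.map e'.hom) (𝟙 _) (by simp) (by rw [← he, Spec.map_comp, Category.comp_id])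
    haveI : IsIso E := inferInstance
    exact (E.homeomorph.connectedSpace_iff).1 h1

end Groth.Agent.FlatFibres
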