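import Mathlib

/-!
# Geometric irreducibility of a polynomial spreads out
-/

set_option autoImplicit false
universe u v

namespace Groth.Agent.FlatFibres

open MvPolynomial

theorem exists_point_of_disjoint {A : Type u} [CommRing A] [IsDomain A] {K : Type u} [Field K] [IsAlgClosed K]
    [Algebra A K] [FaithfulSMul A K] {ι : Type v} [Finite ι]
    (I : Ideal (MvPolynomial ι A)) (hI : ∀ a : A, C a ∈ I → a = 0) :
    ∃ x : ι → K, I ≤ RingHom.ker (aeval (R := A) x) := by
  let M : Submonoid (MvPolynomial ι A) := (nonZeroDivisors A).map (C : A →+* MvPolynomial ι A)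
  have hd : Disjoint (I : Set (MvPolynomial ι A)) M := by
    rw [Set.disjoint_left]
    rintro _ hz ⟨a, ha, rfl⟩
    exact nonZeroDivisors.ne_zero ha (hI a hz)
  obtain ⟨p, hp, hIp, hpM⟩ := Ideal.exists_le_prime_disjoint I M hd
  let L := FractionRing (MvPolynomial ι A ⧸ p)
  let q : MvPolynomial ι A →+* L := (algebraMap _ L).comp (Ideal.Quotient.mk p)
  have hq : ∀ z, q z = 0 ↔ z ∈ p := fun z =>
    (map_eq_zero_iff _ (IsFractionRing.injective (MvPolynomial ι A ⧸ p) L)).trans Ideal.Quotient.eq_zero_iff_mem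
  have hA : Function.Injective (q.comp C) := by
    rw [injective_iff_map_eq_zero]
    intro a ha
    by_contra h
    exact Set.disjoint_left.mp hpM ((hq _).mp ha) ⟨a, mem_nonZeroDivisors_of_ne_zero h, rfl⟩
  let F := FractionRing A
  let ψ : MvPolynomial ι F →+* L := eval₂Hom (IsFractionRing.lift (K := F) hA) (fun i => q (X i))
  have hψ : ψ.comp (map (algebraMap A F)) = q := by
    refine MvPolynomial.ringHom_ext (fun a => ?_) fun i => ?_
    · simp [ψ, IsFractionRing.lift_algebraMap]
    · simp [ψ]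
  have hJ : I.map (map (algebraMap A F)) ≠ ⊤ := by
    intro h
    have hle : I.map (map (algebraMap A F)) ≤ RingHom.ker ψ := Ideal.map_le_iff_le_comap.mpr fun z hz => by
      rw [Ideal.mem_comap, RingHom.mem_ker, ← RingHom.comp_apply, hψ]
      exact (hq z).mpr (hIp hz)
    rw [h, top_le_iff, Ideal.eq_top_iff_one, RingHom.mem_ker, map_one] at hle
    exact one_ne_zero hle
  obtain ⟨m, hm, hJm⟩ := Ideal.exists_le_maximal _ hJ
  letI : Field (MvPolynomial ι F ⧸ m) := Ideal.Quotient.field m
  haveI : Module.Finite F (MvPolynomial ι F ⧸ m) := finite_of_finite_type_of_isJacobsonRing F _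
  letI : Algebra F K := FractionRing.liftAlgebra A K
  haveI : Algebra.IsAlgebraic F (MvPolynomial ι F ⧸ m) := Algebra.IsAlgebraic.of_finite F _
  haveI : Module.IsTorsionFree F (MvPolynomial ι F ⧸ m) := DivisionSemiring.to_moduleIsTorsionFree
  let σ : (MvPolynomial ι F ⧸ m) →ₐ[F] K := IsAlgClosed.lift
  refine ⟨fun i => σ (Ideal.Quotient.mk m (X i)), fun z hz => ?_⟩
  have h : (aeval (R := A) fun i => σ (Ideal.Quotient.mk m (X i))).toRingHom =
      ((σ : _ →+* K).comp (Ideal.Quotient.mk m)).comp (map (algebraMap A F)) := by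
    refine MvPolynomial.ringHom_ext (fun a => ?_) fun i => ?_
    · simp only [AlgHom.toRingHom_eq_coe, RingHom.coe_coe, aeval_C, RingHom.comp_apply, map_C]
      rw [← MvPolynomial.algebraMap_eq, Ideal.Quotient.mk_algebraMap]
      exact (IsScalarTower.algebraMap_apply A F K a).trans (σ.commutes _).symm
    · simp
  rw [RingHom.mem_ker]
  change (aeval (R := A) _).toRingHom z = 0
  rw [h]
  simp only [RingHom.comp_apply]
  rw [Ideal.Quotient.eq_zero_iff_mem.mpr (hJm (Ideal.mem_map_of_mem _ hz)), map_zero]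

theorem exists_irreducible_specializations {A : Type u} [CommRing A] [IsDomain A] {n : ℕ} (P : MvPolynomial (Fin n) A)
    (K : Type u) [Field K] [IsAlgClosed K] [Algebra A K] [FaithfulSMul A K]
    (hP : Irreducible (map (algebraMap A K) P)) :
    ∃ f : A, f ≠ 0 ∧ ∀ (κ : Type u) [Field κ] (φ : A →+* κ), φ f ≠ 0 → Irreducible (map φ P) := by
  classical
  have hinj : Function.Injective (algebraMap A K) := FaithfulSMul.algebraMap_injective A K
  have hP0 : P ≠ 0 := fun h => hP.ne_zero (by rw [h, map_zero])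
  obtain ⟨s₀, hs₀, hd⟩ := Finset.exists_mem_eq_sup P.support (support_nonempty.mpr hP0)
    (fun s : Fin n →₀ ℕ => s.sum fun _ e => e)
  let d := P.totalDegree
  have hdeg : ∀ (κ : Type u) [Field κ] (φ : A →+* κ), φ (P.coeff s₀) ≠ 0 →
      (map φ P).totalDegree = d ∧ map φ P ≠ 0 := by
    intro κ _ φ h
    have hmem : s₀ ∈ (map φ P).support := by rwa [mem_support_iff, coeff_map]
    refine ⟨le_antisymm (Finset.sup_mono (support_map_subset φ P)) ?_, support_nonempty.mp ⟨_, hmem⟩⟩
    exact hd.trans_le (le_totalDegree hmem)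
  obtain ⟨hdK, -⟩ := hdeg K (algebraMap A K)
    ((map_ne_zero_iff _ hinj).mpr (mem_support_iff.mp hs₀))
  have hunit : ∀ (κ : Type u) [Field κ] (Q : MvPolynomial (Fin n) κ), Q ≠ 0 →
      (IsUnit Q ↔ Q.totalDegree = 0) := by
    intro κ _ Q hQ
    rw [isUnit_iff_totalDegree_of_isReduced]
    refine ⟨And.right, fun h => ⟨isUnit_iff_ne_zero.mpr fun h0 => hQ ?_, h⟩⟩
    rw [totalDegree_eq_zero_iff_eq_C.mp h, h0, map_zero]
  have hd1 : d ≠ 0 := fun h => hP.not_isUnit ((hunit K _ hP.ne_zero).mpr (hdK.trans h))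
  -- the monomials of degree `< d`
  let S : Finset (Fin n →₀ ℕ) :=
    (Finset.Iic (Finsupp.equivFunOnFinite.symm fun _ : Fin n => d)).filter fun s => (s.sum fun _ e => e) < d
  have hS : ∀ (κ : Type u) [Field κ] (g : MvPolynomial (Fin n) κ), g.totalDegree < d → g.support ⊆ S := by
    intro κ _ g hg s hs
    have h1 : (s.sum fun _ e => e) < d := (le_totalDegree hs).trans_lt hg
    refine Finset.mem_filter.mpr ⟨Finset.mem_Iic.mpr fun i => ?_, h1⟩
    simp only [Finsupp.equivFunOnFinite_symm_apply_apply]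
    by_cases hi : i ∈ s.support
    · exact (Finset.single_le_sum (f := fun j => s j) (fun j _ => Nat.zero_le _) hi).trans h1.le
    · simp [Finsupp.notMem_support_iff.mp hi]
  let ι := S ⊕ S
  let T := MvPolynomial ι A
  let G : MvPolynomial (Fin n) T := ∑ s : S, monomial s.1 (X (Sum.inl s))
  let H : MvPolynomial (Fin n) T := ∑ s : S, monomial s.1 (X (Sum.inr s))
  let D : MvPolynomial (Fin n) T := G * H - map C P
  let I : Ideal T := Ideal.span (Set.range fun s => D.coeff s)
  have heval : ∀ (κ : Type u) [Field κ] (φ : A →+* κ) (x : ι → κ),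
      map (eval₂Hom φ x) D =
        (∑ s : S, monomial s.1 (x (Sum.inl s))) * (∑ s : S, monomial s.1 (x (Sum.inr s))) - map φ P := by
    intro κ _ φ x
    rw [map_sub, map_mul, map_sum, map_sum, map_map]
    simp only [map_monomial, eval₂Hom_X']
    rw [eval₂Hom_comp_C]
  have hker : ∀ (κ : Type u) [Field κ] (φ : A →+* κ) (x : ι → κ),
      I ≤ RingHom.ker (eval₂Hom φ x) ↔ map (eval₂Hom φ x) D = 0 := by
    intro κ _ φ x
    rw [Ideal.span_le, Set.range_subset_iff, MvPolynomial.ext_iff]
    exact forall_congr' fun s => by rw [coeff_map, coeff_zero]; exact RingHom.mem_ker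
  obtain ⟨a, ha, ha0⟩ : ∃ a : A, C a ∈ I ∧ a ≠ 0 := by
    by_contra! h
    obtain ⟨x, hx⟩ := exists_point_of_disjoint (K := K) I h
    have h0 := sub_eq_zero.mp ((heval K (algebraMap A K) x).symm.trans ((hker K (algebraMap A K) x).mp hx))
    have hlt : ∀ y : S → K, (∑ s : S, monomial s.1 (y s)).totalDegree < d := fun y =>
      (totalDegree_finsetSum_le (d := d - 1) fun s _ => (totalDegree_monomial_le _ _).trans
        (Nat.le_sub_one_of_lt (show (s.1.sum fun _ e => e) < d from (Finset.mem_filter.mp (show s.1 ∈ S from s.2)).2))).trans_lt (Nat.sub_one_lt hd1)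
    have hne := hP.ne_zero
    rw [← h0, mul_ne_zero_iff] at hne
    rcases hP.isUnit_or_isUnit h0.symm with hu | hu
    · have := congrArg totalDegree h0
      rw [totalDegree_mul_of_isDomain hne.1 hne.2, (hunit K _ hne.1).mp hu, hdK, zero_add] at this
      exact (hlt _).ne this
    · have := congrArg totalDegree h0
      rw [totalDegree_mul_of_isDomain hne.1 hne.2, (hunit K _ hne.2).mp hu, hdK, add_zero] at this
      exact (hlt _).ne this
  refine ⟨a * P.coeff s₀, mul_ne_zero ha0 (mem_support_iff.mp hs₀), fun κ _ φ hφ => ?_⟩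
  rw [map_mul, mul_ne_zero_iff] at hφ
  obtain ⟨hdφ, hQ⟩ := hdeg κ φ hφ.2
  refine ⟨fun hu => hd1 (hdφ.symm.trans ((hunit κ _ hQ).mp hu)), fun {g h} hgh => ?_⟩
  by_contra! hn
  have hne := hQ
  rw [hgh, mul_ne_zero_iff] at hne
  have hgd : g.totalDegree + h.totalDegree = d := by
    rw [← totalDegree_mul_of_isDomain hne.1 hne.2, ← hgh, hdφ]
  have hg1 : g.totalDegree ≠ 0 := fun e => hn.1 ((hunit κ _ hne.1).mpr e)
  have hh1 : h.totalDegree ≠ 0 := fun e => hn.2 ((hunit κ _ hne.2).mpr e)
  have hsum : ∀ p : MvPolynomial (Fin n) κ, p.totalDegree < d →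
      ∑ s : S, monomial s.1 (p.coeff s.1) = p := by
    intro p hp
    rw [Finset.sum_coe_sort S (fun s => monomial s (p.coeff s))]
    refine Eq.trans (Finset.sum_subset (hS κ p hp) fun s _ hs => ?_).symm (support_sum_monomial_coeff p)
    rw [notMem_support_iff.mp hs, monomial_zero]
  let x : ι → κ := Sum.elim (fun s => g.coeff s.1) fun s => h.coeff s.1
  have hx : map (eval₂Hom φ x) D = 0 := by
    rw [heval]
    simp only [x, Sum.elim_inl, Sum.elim_inr]
    rw [hsum g (by omega), hsum h (by omega), hgh, sub_self]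
  have := (hker κ φ x).mpr hx ha
  rw [RingHom.mem_ker, eval₂Hom_C] at this
  exact hφ.1 this

end Groth.Agent.FlatFibres
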