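import Mathlib

/-!
# One-dimensional primes through a point

In a Noetherian ring, below a prime `M` and above a prime `P` not containing `g` there is a prime
`q` not containing `g` such that only `q` and `M` lie between `q` and `M`.  If moreover `M` is closed
in its fibre over `A` and `q` has another image, then `M` is isolated in the fibre of `V(q)`.
-/

set_option autoImplicit false
universe u v

namespace Groth.Agent.FlatFibres

theorem eq_maximalIdeal_of_mem_all_primes {D : Type u} [CommRing D] [IsDomain D] [IsNoetherianRing D] [IsLocalRing D] {g : D}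
    (hg0 : g ≠ 0) (hg : g ∈ IsLocalRing.maximalIdeal D)
    (h : ∀ Q : Ideal D, Q.IsPrime → Q ≠ ⊥ → g ∈ Q) (Q : Ideal D) (hQ : Q.IsPrime) (hQ0 : Q ≠ ⊥) :
    Q = IsLocalRing.maximalIdeal D := by
  classical
  let m := IsLocalRing.maximalIdeal D
  let T := (Ideal.span {g}).minimalPrimes
  have hT : T.Finite := Ideal.finite_minimalPrimes_of_isNoetherianRing D _
  have hgm : Ideal.span {g} ≤ m := (Ideal.span_singleton_le_iff_mem _).2 hg
  have hQle : Q ≤ m := IsLocalRing.le_maximalIdeal hQ.ne_top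
  by_cases hm : m ∈ T
  · exact hQle.antisymm (hm.2 ⟨hQ, (Ideal.span_singleton_le_iff_mem _).2 (h Q hQ hQ0)⟩ hQle)
  · exfalso
    obtain ⟨a, ham, ha⟩ : ∃ a ∈ m, ∀ t ∈ T, a ∉ t := by
      by_contra! hcon
      have : (m : Set D) ⊆ ⋃ t ∈ hT.toFinset, ↑(id t) := fun a ha => by
        obtain ⟨t, ht, hat⟩ := hcon a ha
        exact Set.mem_biUnion (hT.mem_toFinset.2 ht) hat
      obtain ⟨t, ht, hmt⟩ := (Ideal.subset_union_prime (f := id) m m (fun i hi _ _ => (hT.mem_toFinset.1 hi).1.1)).1 this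
      rw [hT.mem_toFinset] at ht
      have htm : t = m := (IsLocalRing.le_maximalIdeal ht.1.1.ne_top).antisymm hmt
      exact hm (htm ▸ ht)
    obtain ⟨P, hP, hPm⟩ := Ideal.exists_minimalPrimes_le ((Ideal.span_singleton_le_iff_mem (I := m)).2 ham)
    haveI := hP.1.1
    have ha' : a ∈ P := (Ideal.span_singleton_le_iff_mem _).1 hP.1.2
    have hP0 : P ≠ ⊥ := fun hb => by
      obtain ⟨t, ht, -⟩ := Ideal.exists_minimalPrimes_le hgm
      exact ha t ht (by rw [hb, Ideal.mem_bot] at ha'; exact ha' ▸ t.zero_mem)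
    obtain ⟨t, ht, htP⟩ := Ideal.exists_minimalPrimes_le ((Ideal.span_singleton_le_iff_mem (I := P)).2 (h P hP.1.1 hP0))
    haveI := ht.1.1
    have hPh : P.height ≤ 1 := Ideal.height_le_one_of_isPrincipal_of_mem_minimalPrimes (Ideal.span {a}) P hP
    have htne : t ≠ P := fun e => ha t ht (e ▸ ha')
    have hlt : t.height < P.height :=
      Ideal.height_strict_mono_of_isPrime_of_isPrime (lt_of_le_of_ne htP htne)
    have ht0 : t = ⊥ := Ideal.height_eq_zero_iff_eq_bot.1 (Order.lt_one_iff.1 (hlt.trans_le hPh))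
    exact hg0 ((Ideal.mem_bot (R := D)).1 (ht0 ▸ (Ideal.span_singleton_le_iff_mem _).1 ht.1.2))

/-- Below a prime `M` and above a prime `P` avoiding `g ∈ M`, a one-dimensional prime avoiding `g`. -/
theorem exists_curve_prime {C : Type u} [CommRing C] [IsNoetherianRing C] (P M : Ideal C) [P.IsPrime] [M.IsPrime]
    (hPM : P ≤ M) {g : C} (hgP : g ∉ P) (hgM : g ∈ M) :
    ∃ q : Ideal C, q.IsPrime ∧ P ≤ q ∧ q ≤ M ∧ g ∉ q ∧
      ∀ Q : Ideal C, Q.IsPrime → q ≤ Q → Q ≤ M → Q = q ∨ Q = M := by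
  obtain ⟨q, ⟨hq, hPq, hqM, hgq⟩, hmax⟩ := set_has_maximal_iff_noetherian.2 ‹IsNoetherianRing C›
    {q : Ideal C | q.IsPrime ∧ P ≤ q ∧ q ≤ M ∧ g ∉ q} ⟨P, ‹_›, le_rfl, hPM, hgP⟩
  refine ⟨q, hq, hPq, hqM, hgq, fun Q hQ hqQ hQM => or_iff_not_imp_left.2 fun hne => ?_⟩
  haveI := hq
  let D0 := C ⧸ q
  haveI : (M.map (Ideal.Quotient.mk q)).IsPrime :=
    Ideal.map_isPrime_of_surjective Ideal.Quotient.mk_surjective (by rw [Ideal.mk_ker]; exact hqM)
  haveI : (Q.map (Ideal.Quotient.mk q)).IsPrime :=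
    Ideal.map_isPrime_of_surjective Ideal.Quotient.mk_surjective (by rw [Ideal.mk_ker]; exact hqQ)
  have hback : ∀ J : Ideal C, q ≤ J → (J.map (Ideal.Quotient.mk q)).comap (Ideal.Quotient.mk q) = J := fun J hJ => by
    rw [Ideal.comap_map_of_surjective _ Ideal.Quotient.mk_surjective, ← RingHom.ker_eq_comap_bot, Ideal.mk_ker,
      sup_eq_left.2 hJ]
  let M' := M.map (Ideal.Quotient.mk q)
  let D := Localization.AtPrime M'
  haveI : IsNoetherianRing D := IsLocalization.isNoetherianRing M'.primeCompl _ inferInstance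
  have hinj : Function.Injective (algebraMap D0 D) := IsLocalization.injective _ M'.primeCompl_le_nonZeroDivisors
  haveI : IsDomain D := IsLocalization.isDomain_localization M'.primeCompl_le_nonZeroDivisors
  let γ : C →+* D := (algebraMap D0 D).comp (Ideal.Quotient.mk q)
  have hQd : ((Q.map (Ideal.Quotient.mk q)).map (algebraMap D0 D)).comap γ = Q := by
    rw [← Ideal.comap_comap]
    exact (congrArg (Ideal.comap (Ideal.Quotient.mk q)) (IsLocalization.under_map_of_isPrime_disjoint M'.primeCompl D inferInstance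
      (Set.disjoint_left.2 fun x hx hxQ => hx (Ideal.map_mono hQM hxQ)))).trans (hback Q hqQ)
  have hMd : (IsLocalRing.maximalIdeal D).comap γ = M := by
    rw [← Ideal.comap_comap]
    exact (congrArg (Ideal.comap (Ideal.Quotient.mk q)) (IsLocalization.AtPrime.under_maximalIdeal D M')).trans (hback M hqM)
  have key := eq_maximalIdeal_of_mem_all_primes (D := D) (g := γ g) ?_ ?_ ?_
    ((Q.map (Ideal.Quotient.mk q)).map (algebraMap D0 D))
    (IsLocalization.isPrime_of_isPrime_disjoint M'.primeCompl D _ inferInstance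
      (Set.disjoint_left.2 fun x hx hxQ => hx (Ideal.map_mono hQM hxQ))) (fun h => hne ?_)
  · rw [← hQd, key, hMd]
  · intro h
    refine hgq (Ideal.Quotient.eq_zero_iff_mem.1 (hinj ?_))
    rw [map_zero]; exact h
  · rw [← Ideal.mem_comap, hMd]; exact hgM
  · intro Q1 hQ1 hQ10
    by_contra hg1
    have hker : q ≤ Q1.comap γ := fun x hx => by
      rw [Ideal.mem_comap, RingHom.comp_apply, Ideal.Quotient.eq_zero_iff_mem.2 hx, map_zero]; exact Q1.zero_mem
    have hle1 : Q1.comap γ ≤ M := (Ideal.comap_mono (IsLocalRing.le_maximalIdeal hQ1.ne_top)).trans hMd.le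
    have heq : Q1.comap γ = q := hker.antisymm' (le_of_eq (by
      by_contra hne1
      exact hmax _ ⟨Ideal.comap_isPrime _ _, hPq.trans hker, hle1, hg1⟩ (lt_of_le_of_ne hker (Ne.symm hne1))))
    apply hQ10
    rw [← IsLocalization.map_under M'.primeCompl D Q1]
    have hz : Q1.comap (algebraMap D0 D) = ⊥ := by
      rw [← Ideal.map_comap_of_surjective (Ideal.Quotient.mk q) Ideal.Quotient.mk_surjective (Q1.comap (algebraMap D0 D)),
        Ideal.comap_comap]
      show Ideal.map _ (Q1.comap γ) = ⊥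
      rw [heq, Ideal.map_quotient_self]
    show Ideal.map (algebraMap D0 D) (Q1.comap (algebraMap D0 D)) = ⊥
    rw [hz, Ideal.map_bot]
  · rw [← hQd, h, ← Ideal.comap_comap, Ideal.comap_bot_of_injective _ hinj, ← RingHom.ker_eq_comap_bot, Ideal.mk_ker]

/-- `M` is isolated in the fibre of `V(q)` if only `q`, `M` lie in between and `q` has another image. -/
theorem exists_isolating {A C : Type*} [CommRing A] [CommRing C] [Algebra A C] [IsNoetherianRing C]
    (q M : Ideal C) [M.IsPrime] (hqM : q ≤ M)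
    (hbetween : ∀ Q : Ideal C, Q.IsPrime → q ≤ Q → Q ≤ M → Q = q ∨ Q = M)
    (hne : q.comap (algebraMap A C) ≠ M.comap (algebraMap A C))
    (hclosed : ∀ Q : Ideal C, Q.IsPrime → M ≤ Q → Q.comap (algebraMap A C) = M.comap (algebraMap A C) → Q = M) :
    ∃ e ∉ M, ∀ Q : Ideal C, Q.IsPrime → q ≤ Q → Q.comap (algebraMap A C) = M.comap (algebraMap A C) → e ∉ Q → Q = M := by
  classical
  let p := M.comap (algebraMap A C)
  let J := q ⊔ p.map (algebraMap A C)
  have hJM : J ≤ M := sup_le hqM Ideal.map_comap_le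
  have hmin : ∀ t ∈ J.minimalPrimes, t ≤ M → t = M := fun t ht htM => by
    refine (hbetween t ht.1.1 (le_sup_left.trans ht.1.2) htM).resolve_left fun h => hne ?_
    refine le_antisymm (Ideal.comap_mono hqM) ?_
    rw [← h]
    exact Ideal.map_le_iff_le_comap.1 (le_sup_right.trans ht.1.2)
  let others := J.minimalPrimes \ {M}
  have hfin : others.Finite := (Ideal.finite_minimalPrimes_of_isNoetherianRing C _).sdiff
  obtain ⟨e, he, heM⟩ := SetLike.not_le_iff_exists.1 (show ¬ hfin.toFinset.inf id ≤ M from fun h => by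
    obtain ⟨t, ht, htM⟩ := (Ideal.IsPrime.inf_le' ‹M.IsPrime›).1 h
    rw [Set.Finite.mem_toFinset] at ht
    exact ht.2 (hmin t ht.1 htM))
  refine ⟨e, heM, fun Q hQ hqQ hQp heQ => ?_⟩
  obtain ⟨t, ht, htQ⟩ := Ideal.exists_minimalPrimes_le (show J ≤ Q from sup_le hqQ (Ideal.map_le_iff_le_comap.2 hQp.ge))
  by_cases htM : t = M
  · exact hclosed Q hQ (htM ▸ htQ) hQp
  · exact absurd (htQ ((Finset.inf_le (f := id) (hfin.mem_toFinset.2 ⟨ht, htM⟩) :) he)) heQ

end Groth.Agent.FlatFibres
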