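import Groth.Agent.FlatFibres.ValuationModel

/-!
# Finite type models of local algebras essentially of finite type
-/

set_option autoImplicit false
universe u

open IsLocalRing

namespace Groth.Agent.FlatFibres

/-- A local algebra essentially of finite type is the localization of a finite type subalgebra at a
prime. -/
theorem isLocalization_atPrime_subalgebra (A B : Type u) [CommRing A] [CommRing B] [IsLocalRing B] [Algebra A B]
    [Algebra.EssFiniteType A B] :
    IsLocalization.AtPrime B ((maximalIdeal B).comap (algebraMap (Algebra.EssFiniteType.subalgebra A B) B)) := by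
  have h : (((maximalIdeal B).comap (algebraMap (Algebra.EssFiniteType.subalgebra A B) B))).primeCompl =
      Algebra.EssFiniteType.submonoid A B := by
    ext x
    show ¬ (algebraMap (Algebra.EssFiniteType.subalgebra A B) B x ∈ maximalIdeal B) ↔
      IsUnit (algebraMap (Algebra.EssFiniteType.subalgebra A B) B x)
    rw [mem_maximalIdeal, mem_nonunits_iff, not_not]
  show IsLocalization _ B
  rw [h]
  infer_instance

/-- The invariants of the statements in terms of the model. -/
theorem exists_dim_trdeg {A C B : Type u} [CommRing A] [IsLocalRing A] [CommRing C] [CommRing B] [IsLocalRing B]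
    [Algebra A C] [Algebra A B] [Algebra C B] [IsScalarTower A C B] [IsLocalHom (algebraMap A B)]
    [Algebra.FiniteType A C] (M : Ideal C) [M.IsPrime] [IsLocalization.AtPrime B M]
    (hM : M = (maximalIdeal B).comap (algebraMap C B)) :
    ∃ h : ℕ, ringKrullDim (B ⧸ Ideal.map (algebraMap A B) (maximalIdeal A)) = h ∧
      Algebra.trdeg (ResidueField A) (ResidueField B) = (DimFormula.fd A M : Cardinal.{u}) ∧
      (∀ (P : Ideal C) [P.IsPrime], P.comap (algebraMap A C) = maximalIdeal A → P ≤ M →
        DimFormula.fd A P ≤ h + DimFormula.fd A M) ∧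
      ∃ (P : Ideal C) (_ : P.IsPrime), P.comap (algebraMap A C) = maximalIdeal A ∧ P ≤ M ∧
        DimFormula.fd A P = h + DimFormula.fd A M := by
  letI : Field (A ⧸ maximalIdeal A) := Ideal.Quotient.field _
  have hMA : M.comap (algebraMap A C) = maximalIdeal A := by
    rw [hM, Ideal.comap_comap, ← IsScalarTower.algebraMap_eq]
    exact maximalIdeal_comap (algebraMap A B)
  haveI : Algebra.FiniteType A (ClosedFibre A C) :=
    Algebra.FiniteType.of_surjective (Ideal.Quotient.mkₐ A _) Ideal.Quotient.mk_surjective
  haveI : Algebra.FiniteType (A ⧸ maximalIdeal A) (ClosedFibre A C) :=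
    .of_restrictScalars_finiteType A (A ⧸ maximalIdeal A) _
  haveI : IsNoetherianRing (ClosedFibre A C) := Algebra.FiniteType.isNoetherianRing (A ⧸ maximalIdeal A) _
  obtain ⟨h, hh, hle, hex⟩ := exists_height_add_fd M hMA
  refine ⟨h, ?_, ?_, hle, hex⟩
  · let mA : Ideal C := (maximalIdeal A).map (algebraMap A C)
    let J : Ideal B := Ideal.map (algebraMap A B) (maximalIdeal A)
    let gq : ClosedFibre A C →+* B ⧸ J := Ideal.quotientMap J (algebraMap C B) (by
      rw [Ideal.map_le_iff_le_comap, Ideal.comap_comap, ← IsScalarTower.algebraMap_eq]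
      exact Ideal.le_comap_map)
    letI : Algebra (ClosedFibre A C) (B ⧸ J) := gq.toAlgebra
    have hcomp : (Ideal.Quotient.mk J).comp (algebraMap C B) =
        (algebraMap (ClosedFibre A C) (B ⧸ J)).comp (Ideal.Quotient.mk mA) := RingHom.ext fun x => rfl
    have hloc := IsLocalization.of_surjective (M := M.primeCompl) (S := B) (Ideal.Quotient.mk mA)
      Ideal.Quotient.mk_surjective (Ideal.Quotient.mk J) Ideal.Quotient.mk_surjective hcomp (by
        rw [Ideal.mk_ker, Ideal.mk_ker, Ideal.map_map, ← IsScalarTower.algebraMap_eq])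
    have hsub : M.primeCompl.map (Ideal.Quotient.mk mA) = (closedFibrePoint M hMA).asIdeal.primeCompl := by
      ext z
      constructor
      · rintro ⟨c, hc, rfl⟩ hz
        exact hc ((comap_closedFibrePoint M hMA).le hz)
      · intro hz
        obtain ⟨c, rfl⟩ := Ideal.Quotient.mk_surjective z
        exact ⟨c, fun hc => hz ((comap_closedFibrePoint M hMA).ge hc), rfl⟩
    haveI : IsLocalization.AtPrime (B ⧸ J) (closedFibrePoint M hMA).asIdeal := by
      show IsLocalization _ _
      rw [← hsub]
      exact hloc
    rw [IsLocalization.AtPrime.ringKrullDim_eq_height (closedFibrePoint M hMA).asIdeal (B ⧸ J),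
      PrimeSpectrum.height_eq_orderHeight, hh]
    rfl
  · let φ : C →+* ResidueField B := (residue B).comp (algebraMap C B)
    have hker : RingHom.ker φ = M := by
      rw [hM]
      ext c
      exact residue_eq_zero_iff _
    letI : Algebra (A ⧸ maximalIdeal A) (C ⧸ M) :=
      (Ideal.quotientMap M (algebraMap A C) hMA.ge).toAlgebra
    haveI : IsScalarTower A (A ⧸ maximalIdeal A) (C ⧸ M) := .of_algebraMap_eq fun _ => rfl
    haveI : M.IsPrime := inferInstance
    rw [DimFormula.fd_eq_trdeg A (maximalIdeal A) (Ideal.Quotient.mkₐ A M) Ideal.Quotient.mk_surjective M Ideal.mk_ker hMA]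
    let ψ : C ⧸ M →+* ResidueField B := Ideal.Quotient.lift M φ fun c hc => hker.ge hc
    have hψ : Function.Injective ψ := by
      rw [injective_iff_map_eq_zero]
      intro z hz
      obtain ⟨c, rfl⟩ := Ideal.Quotient.mk_surjective z
      exact Ideal.Quotient.eq_zero_iff_mem.2 (hker.le hz)
    letI : Algebra (C ⧸ M) (ResidueField B) := ψ.toAlgebra
    letI : Algebra (A ⧸ maximalIdeal A) (ResidueField B) := inferInstanceAs (Algebra (ResidueField A) (ResidueField B))
    haveI : IsScalarTower (A ⧸ maximalIdeal A) (C ⧸ M) (ResidueField B) := .of_algebraMap_eq fun x => by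
      obtain ⟨a, rfl⟩ := Ideal.Quotient.mk_surjective x
      show residue B (algebraMap A B a) = residue B (algebraMap C B (algebraMap A C a))
      rw [← IsScalarTower.algebraMap_apply A C B]
    haveI : FaithfulSMul (C ⧸ M) (ResidueField B) := (faithfulSMul_iff_algebraMap_injective _ _).2 hψ
    haveI : FaithfulSMul (A ⧸ maximalIdeal A) (C ⧸ M) :=
      (faithfulSMul_iff_algebraMap_injective _ _).2 (RingHom.injective _)
    haveI : Algebra.IsAlgebraic (C ⧸ M) (ResidueField B) := by
      refine ⟨fun z => ?_⟩
      obtain ⟨b, rfl⟩ := residue_surjective z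
      obtain ⟨⟨c, s⟩, hcs⟩ := IsLocalization.surj M.primeCompl b
      have hs : residue B (algebraMap C B s) ≠ 0 := fun h => s.2 (hker.le h)
      refine IsAlgebraic.of_mul (mem_nonZeroDivisors_of_ne_zero hs) (isAlgebraic_algebraMap (Ideal.Quotient.mk M (s : C))) ?_
      rw [← map_mul, mul_comm, hcs]
      exact isAlgebraic_algebraMap (Ideal.Quotient.mk M c)
    have h1 := trdeg_add_eq (A ⧸ maximalIdeal A) (C ⧸ M) (A := ResidueField B)
    rw [trdeg_eq_zero (R := C ⧸ M) (A := ResidueField B), add_zero] at h1
    exact h1.symm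

end Groth.Agent.FlatFibres
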