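import Groth.Agent.RG11.ElemDev
import Groth.Agent.RG11.UnivCompl
import Groth.Agent.FibDim.RingLoc
import Groth.Agent.DescLib.LocalDim
import Groth.Agent.MorLib.ElemEtaleFinite
import Groth.Prelude.Def_Hens2

/-!
# The local structure of a morphism of finite type: finite over smooth after étale localisation
-/

set_option autoImplicit false
universe u

namespace Groth.Agent.FlatFibres

open AlgebraicGeometry CategoryTheory Limits TensorProduct
open Groth.Agent.MorLib

attribute [local instance] Algebra.TensorProduct.rightAlgebra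

theorem fiberMod_self_support_eq_univ {R S : Type u} [CommRing R] [CommRing S] [Algebra R S]
    (p : Ideal R) [p.IsPrime] :
    Module.support (p.Fiber S) (FlatCA.fiberMod p S S) = Set.univ := by
  refine Set.eq_univ_of_forall fun x => ?_
  show x ∈ Module.support (p.Fiber S) ((p.Fiber S) ⊗[S] S)
  rw [Module.mem_support_iff']
  refine ⟨1 ⊗ₜ 1, fun r hr h => hr ?_⟩
  have := congrArg (TensorProduct.AlgebraTensorModule.rid S (p.Fiber S) (p.Fiber S)) h
  rw [map_smul, TensorProduct.AlgebraTensorModule.rid_tmul, one_smul, map_zero, smul_eq_mul, mul_one] at this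
  rw [this]
  exact zero_mem _

theorem localDim_eq_of_eq_univ {α : Type u} [TopologicalSpace α] {s : Set α} (hs : s = Set.univ) (a : α)
    (ha : a ∈ s) : FlatMor.localDim s ⟨a, ha⟩ = FlatMor.localDim α a := by
  subst hs
  exact (FibDim.localDim_homeomorph (Homeomorph.Set.univ α) ⟨a, ha⟩).symm

set_option backward.isDefEq.respectTransparency.types false in
theorem isEtaleNbhd_SpecMap {R R' : Type u} [CommRing R] [CommRing R'] [Algebra R R'] (p : Ideal R) (p' : Ideal R')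
    [hp : p.IsPrime] [hp' : p'.IsPrime] (h : FlatCA.IsEtaleNhd R R' p p') :
    Hens2.IsEtaleNbhd (Spec.map (CommRingCat.ofHom (algebraMap R R'))) (⟨p', hp'⟩ : PrimeSpectrum R')
      (⟨p, hp⟩ : PrimeSpectrum R) := by
  obtain ⟨het, hover, hb⟩ := h
  refine ⟨?_, PrimeSpectrum.ext hover.over.symm, ?_⟩
  · rw [HasRingHomProperty.Spec_iff (P := @Etale)]
    exact RingHom.etale_algebraMap.mpr het
  · refine EEF.bijective_rfm_SpecMap _ _ ?_
    exact EEF.bijective_map_congr (algebraMap R R') hover.over hover.over hb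

theorem isEtaleNbhd_comp {U V W : Scheme.{u}} {g : U ⟶ V} {g' : V ⟶ W} {a : U} {b : V} {c : W}
    (h : Hens2.IsEtaleNbhd g a b) (h' : Hens2.IsEtaleNbhd g' b c) : Hens2.IsEtaleNbhd (g ≫ g') a c := by
  obtain ⟨h1, rfl, h3⟩ := h
  obtain ⟨g1, rfl, g3⟩ := h'
  exact ⟨inferInstance, rfl, EEF.bijective_rfm_comp g g' a h3 g3⟩

theorem isEtaleNbhd_of_isOpenImmersion {U V : Scheme.{u}} (g : U ⟶ V) [IsOpenImmersion g] (a : U) :
    Hens2.IsEtaleNbhd g a (g a) :=
  ⟨inferInstance, rfl, EEF.bijective_rfm_isOpenImmersion g a⟩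

set_option maxHeartbeats 1000000 in
theorem exists_local_structure {X S : Scheme.{u}} (f : X ⟶ S) [LocallyOfFiniteType f] (x : X) (n : ℕ)
    (hn : FlatMor.fibreDimAt f x = n) :
    ∃ (S' Y' X' : Scheme.{u}) (e : S' ⟶ S) (h : Y' ⟶ S') (π : X' ⟶ Y') (g : X' ⟶ X) (s' : S') (x' : X'),
      IsAffine S' ∧ IsAffine Y' ∧ IsAffine X' ∧ Hens2.IsEtaleNbhd e s' (f x) ∧ Hens2.IsEtaleNbhd g x' x ∧
      g ≫ f = π ≫ h ≫ e ∧ SmoothOfRelativeDimension n h ∧ GeometricallyIntegral h ∧ IsFinite π ∧ h (π x') = s' ∧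
      ∀ z : X', π z = π x' → z = x' := by
  obtain ⟨V, hV, hxV, -⟩ := exists_isAffineOpen_mem_and_subset (U := (⊤ : S.Opens)) (x := f x) (by trivial)
  obtain ⟨U, hU, hxU, hUV⟩ := exists_isAffineOpen_mem_and_subset (U := f ⁻¹ᵁ V) (x := x) hxV
  let φ := f.appLE V U hUV
  have hft : φ.hom.FiniteType := HasRingHomProperty.appLE @LocallyOfFiniteType f inferInstance ⟨V, hV⟩ ⟨U, hU⟩ hUV
  letI : Algebra Γ(S, V) Γ(X, U) := φ.hom.toAlgebra
  haveI : Algebra.FiniteType Γ(S, V) Γ(X, U) := hft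
  have comm : Spec.map φ ≫ hV.fromSpec = hU.fromSpec ≫ f := hV.SpecMap_appLE_fromSpec f hU hUV
  let qq : PrimeSpectrum Γ(X, U) := hU.primeIdealOf ⟨x, hxU⟩
  have hqx : hU.fromSpec qq = x := hU.fromSpec_primeIdealOf ⟨x, hxU⟩
  let p : Ideal Γ(S, V) := qq.asIdeal.under Γ(S, V)
  obtain ⟨Q, hQ⟩ := FibDim.exists_fiber_point (A := Γ(S, V)) qq
  have hxq : Q.asIdeal = FlatCA.fiberIdeal p qq.asIdeal := by
    exact (RG11.fiberIdeal_comap p Q.asIdeal).symm.trans (congrArg (FlatCA.fiberIdeal p) hQ)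
  have huniv := fiberMod_self_support_eq_univ (S := Γ(X, U)) p
  have hdim : FlatMor.localDim (Module.support (p.Fiber Γ(X, U)) (FlatCA.fiberMod p Γ(X, U) Γ(X, U)))
      ⟨Q, huniv ▸ Set.mem_univ Q⟩ = n := by
    rw [localDim_eq_of_eq_univ huniv, FibDim.localDim_fiber_eq_fibreDimAt qq Q hQ, ← hn]
    refine ((DescLib.fibreDimAt_eq_of_etale f _ hU.fromSpec hV.fromSpec ?_ qq).symm.trans (by rw [hqx]))
    exact comm
  obtain ⟨d, -⟩ := RG11.exists_elemDevissage Γ(X, U) p qq.asIdeal n Q hxq (huniv ▸ Set.mem_univ Q) hdim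
  let ε : d.S' ≃ₗ[d.S'] d.G :=
    (TensorProduct.AlgebraTensorModule.rid Γ(X, U) d.S' d.S').symm ≪≫ₗ d.isBaseChange.equiv ≪≫ₗ d.iso
  have hbij : Function.Bijective (algebraMap d.S' d.C) := by
    refine ⟨(injective_iff_map_eq_zero _).mpr fun a ha => ε.injective ?_, d.surjC⟩
    have h1 : a • ε 1 = (0 : d.G) := by rw [← algebraMap_smul d.C a (ε 1), ha, zero_smul]
    rw [← map_smul, smul_eq_mul, mul_one] at h1
    rw [h1, map_zero]
  haveI : IsIso (CommRingCat.ofHom (algebraMap d.S' d.C)) :=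
    (ConcreteCategory.isIso_iff_bijective _).mpr hbij
  let e : Spec (CommRingCat.of d.R') ⟶ S :=
    Spec.map (CommRingCat.ofHom (algebraMap Γ(S, V) d.R')) ≫ hV.fromSpec
  let g : Spec (CommRingCat.of d.C) ⟶ X :=
    Spec.map (CommRingCat.ofHom (algebraMap d.S' d.C)) ≫
      Spec.map (CommRingCat.ofHom (algebraMap Γ(X, U) d.S')) ≫ hU.fromSpec
  let x' : PrimeSpectrum d.C := ⟨d.z, d.hz⟩
  have hfx : f x = hV.fromSpec (⟨p, inferInstance⟩ : PrimeSpectrum Γ(S, V)) := by
    rw [← hqx]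
    exact (congr_arg (fun m : Spec Γ(X, U) ⟶ S => m qq) comm).symm
  have he : Hens2.IsEtaleNbhd e (⟨d.p', d.hp'⟩ : PrimeSpectrum d.R') (f x) := by
    rw [hfx]
    exact isEtaleNbhd_comp (isEtaleNbhd_SpecMap p d.p' d.etaleR) (isEtaleNbhd_of_isOpenImmersion _ _)
  have hg : Hens2.IsEtaleNbhd g x' x := by
    rw [← hqx]
    refine isEtaleNbhd_comp (b := (⟨d.q', d.hq'⟩ : PrimeSpectrum d.S')) ?_
      (isEtaleNbhd_comp (isEtaleNbhd_SpecMap qq.asIdeal d.q' d.etaleS) (isEtaleNbhd_of_isOpenImmersion _ _))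
    have h1 : Spec.map (CommRingCat.ofHom (algebraMap d.S' d.C)) x' = (⟨d.q', d.hq'⟩ : PrimeSpectrum d.S') :=
      PrimeSpectrum.ext d.zOver.over.symm
    rw [← h1]
    exact isEtaleNbhd_of_isOpenImmersion _ _
  refine ⟨Spec (CommRingCat.of d.R'), Spec (CommRingCat.of d.D), Spec (CommRingCat.of d.C), e,
    Spec.map (CommRingCat.ofHom (algebraMap d.R' d.D)), Spec.map (CommRingCat.ofHom (algebraMap d.D d.C)), g,
    (⟨d.p', d.hp'⟩ : PrimeSpectrum d.R'), x', inferInstance, inferInstance, inferInstance, he, hg, ?_,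
    d.smooth, d.geomInt, ?_, ?_, ?_⟩
  · simp only [g, e, Category.assoc]
    rw [← comm]
    simp only [← Spec.map_comp_assoc, ← CommRingCat.ofHom_comp]
    congr 2
    refine CommRingCat.hom_ext (RingHom.ext fun r => ?_)
    show algebraMap d.S' d.C (algebraMap Γ(X, U) d.S' (algebraMap Γ(S, V) Γ(X, U) r)) =
      algebraMap d.D d.C (algebraMap d.R' d.D (algebraMap Γ(S, V) d.R' r))
    rw [← IsScalarTower.algebraMap_apply Γ(S, V) Γ(X, U) d.S',
      IsScalarTower.algebraMap_apply Γ(S, V) d.R' d.S', ← IsScalarTower.algebraMap_apply d.R' d.S' d.C,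
      ← IsScalarTower.algebraMap_apply d.R' d.D d.C]
  · rw [IsFinite.SpecMap_iff]
    exact RingHom.finite_algebraMap.mpr d.finiteDC
  · refine PrimeSpectrum.ext ?_
    show (d.z.comap (algebraMap d.D d.C)).comap (algebraMap d.R' d.D) = d.p'
    exact (congrArg (Ideal.comap (algebraMap d.R' d.D)) d.zOverY.over.symm).trans d.yOver.over.symm
  · intro z hz
    haveI hzp : (z : PrimeSpectrum d.C).asIdeal.IsPrime := (z : PrimeSpectrum d.C).isPrime
    haveI : (z : PrimeSpectrum d.C).asIdeal.LiesOver d.y := ⟨by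
      rw [d.zOverY.over]
      exact (congrArg PrimeSpectrum.asIdeal hz).symm⟩
    exact PrimeSpectrum.ext (d.uniq z.asIdeal inferInstance)

end Groth.Agent.FlatFibres
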