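import Groth.Agent.PicLift58.Glue
import Groth.Agent.InvX.Tensor
import Groth.Agent.InvX.GenLocusPull
import Groth.Agent.AmpleX.Rel
import Mathlib.Dynamics.Newton
import Groth.Prelude.Def_MoreMor

/-!
Torsion invertible modules lift along thickenings: roots of units lift uniquely.
-/

universe u

open CategoryTheory AlgebraicGeometry TopologicalSpace Opposite

set_option backward.isDefEq.respectTransparency false
set_option backward.isDefEq.respectTransparency.types false

namespace FlatFibres.PicTorsion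

open Groth.Agent Groth.Agent.AModX Groth.Agent.InvX Groth.Agent.H23 Groth.Agent.PicLift58

variable {X X' : Scheme.{u}}

section roots

variable {i : X ⟶ X'} (hi : MoreMor.IsThickening i)

include hi in
lemma isNilpotent_of_app_eq_zero {V : X'.Opens} (hV : IsAffineOpen V) (x : Γ(X', V))
    (h : i.app V x = 0) : IsNilpotent x := by
  rw [Scheme.isNilpotent_iff_basicOpen_eq_bot_of_isCompact hV.isCompact, eq_bot_iff]
  intro p hp
  obtain ⟨q, rfl⟩ := hi.2.surj p
  have h1 : q ∈ i ⁻¹ᵁ X'.basicOpen x := hp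
  rw [Scheme.preimage_basicOpen, h] at h1
  simp at h1

include hi in
lemma isUnit_of_app {V : X'.Opens} (hV : IsAffineOpen V) {x : Γ(X', V)}
    (h : IsUnit (i.app V x)) : IsUnit x := by
  haveI := hi.1
  obtain ⟨v, hv⟩ := h
  obtain ⟨y, hy⟩ := i.app_surjective V hV (↑v⁻¹)
  have h1 : IsNilpotent (x * y - 1) := isNilpotent_of_app_eq_zero hi hV _ (by
    rw [map_sub, map_mul, map_one, hy, ← hv, Units.mul_inv, sub_self])
  have h2 := h1.isUnit_add_one
  rw [sub_add_cancel] at h2
  exact isUnit_of_mul_isUnit_left h2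

variable {n : ℕ} (hn : 0 < n) (hu : IsUnit (n : Γ(X, ⊤)))

include hi hu in
lemma isUnit_natCast {V : X'.Opens} (hV : IsAffineOpen V) : IsUnit (n : Γ(X', V)) := by
  refine isUnit_of_app hi hV ?_
  rw [map_natCast, ← map_natCast (resR (le_top : i ⁻¹ᵁ V ≤ ⊤))]
  exact hu.map _

include hi hn hu in
lemma root_unique_affine {V : X'.Opens} (hV : IsAffineOpen V) {r r' : Γ(X', V)} (hr : IsUnit r)
    (h : r ^ n = r' ^ n) (h' : i.app V r = i.app V r') : r = r' := by
  let P : Polynomial Γ(X', V) := Polynomial.X ^ n - Polynomial.C (r ^ n)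
  obtain ⟨s, -, huniq⟩ := Polynomial.existsUnique_nilpotent_sub_and_aeval_eq_zero
    (P := P) (x := r) (by simp [P]) (by
      rw [show Polynomial.derivative P = Polynomial.C (n : Γ(X', V)) * Polynomial.X ^ (n - 1) by
        simp only [P, Polynomial.derivative_sub, Polynomial.derivative_C, sub_zero,
          Polynomial.derivative_X_pow]]
      simp only [map_mul, Polynomial.aeval_C, map_pow, Polynomial.aeval_X, Algebra.algebraMap_self,
        RingHom.id_apply]
      exact (isUnit_natCast hi hu hV).mul (hr.pow _))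
  rw [huniq r ⟨by simp, by simp [P]⟩, huniq r' ⟨isNilpotent_of_app_eq_zero hi hV _ (by
    rw [map_sub, h', sub_self]), by simp [P, h]⟩]

include hi hn hu in
lemma root_unique {V : X'.Opens} {r r' : Γ(X', V)} (hr : IsUnit r)
    (h : r ^ n = r' ^ n) (h' : i.app V r = i.app V r') : r = r' := by
  refine eq_of_locally (M := Coh.structureModule X') r r' fun p hp => ?_
  obtain ⟨W, hW, hpW, hWV⟩ := exists_isAffineOpen_mem_and_subset (x := p) (U := V) hp
  refine ⟨W, hWV, hpW, root_unique_affine hi hn hu hW (hr.map (resR hWV)) ?_ ?_⟩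
  · show resR hWV r ^ n = resR hWV r' ^ n
    rw [← map_pow, ← map_pow, h]
  · show i.app W (resR hWV r) = i.app W (resR hWV r')
    rw [app_resR i hWV, app_resR i hWV, h']

include hi hn hu in
lemma root_exists {V : X'.Opens} (c : Γ(X', V)ˣ) (g : Γ(X, i ⁻¹ᵁ V))
    (hg : g ^ n = i.app V c) : ∃ r : Γ(X', V)ˣ, (r : Γ(X', V)) ^ n = c ∧ i.app V r = g := by
  haveI := hi.1
  have hg' : IsUnit g := (isUnit_pow_iff hn.ne').mp (hg ▸ c.isUnit.map (i.app V).hom)
  have key : ∀ (W : X'.Opens) (hW : IsAffineOpen W) (hWV : W ≤ V),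
      ∃ r : Γ(X', W), IsUnit r ∧ r ^ n = resR hWV (c : Γ(X', V)) ∧
        i.app W r = resR (i.preimage_mono hWV) g := by
    intro W hW hWV
    obtain ⟨g₀, hg₀⟩ := i.app_surjective W hW (resR (i.preimage_mono hWV) g)
    have hg₀u : IsUnit g₀ := isUnit_of_app hi hW (hg₀ ▸ hg'.map _)
    let P : Polynomial Γ(X', W) := Polynomial.X ^ n - Polynomial.C (resR hWV (c : Γ(X', V)))
    obtain ⟨r, ⟨hr1, hr2⟩, -⟩ := Polynomial.existsUnique_nilpotent_sub_and_aeval_eq_zero
      (P := P) (x := g₀) (by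
        refine isNilpotent_of_app_eq_zero hi hW _ ?_
        simp only [P, map_sub, map_pow, Polynomial.aeval_X, Polynomial.aeval_C,
          Algebra.algebraMap_self, RingHom.id_apply]
        rw [hg₀, app_resR i hWV, ← map_pow, hg, sub_self]) (by
        rw [show Polynomial.derivative P = Polynomial.C (n : Γ(X', W)) * Polynomial.X ^ (n - 1) by
          simp only [P, Polynomial.derivative_sub, Polynomial.derivative_C, sub_zero,
            Polynomial.derivative_X_pow]]
        simp only [map_mul, Polynomial.aeval_C, map_pow, Polynomial.aeval_X, Algebra.algebraMap_self,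
          RingHom.id_apply]
        exact (isUnit_natCast hi hu hW).mul (hg₀u.pow _))
    have hrn : r ^ n = resR hWV (c : Γ(X', V)) := by simpa [P, sub_eq_zero] using hr2
    have hru : IsUnit r := (isUnit_pow_iff hn.ne').mp (hrn ▸ c.isUnit.map _)
    refine ⟨r, hru, hrn, ?_⟩
    have h1 : IsNilpotent (i.app W (g₀ - r)) := hr1.map (i.app W).hom
    -- both are roots with nilpotent difference
    let Q : Polynomial Γ(X, i ⁻¹ᵁ W) :=
      Polynomial.X ^ n - Polynomial.C (i.app W (resR hWV (c : Γ(X', V))))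
    have hgn : (resR (i.preimage_mono hWV) g) ^ n = i.app W (resR hWV (c : Γ(X', V))) := by
      rw [app_resR i hWV, ← map_pow, hg]
    obtain ⟨s, -, huniq⟩ := Polynomial.existsUnique_nilpotent_sub_and_aeval_eq_zero
      (P := Q) (x := i.app W g₀) (by rw [hg₀]; simp [Q, hgn]) (by
        rw [show Polynomial.derivative Q = Polynomial.C (n : Γ(X, i ⁻¹ᵁ W)) * Polynomial.X ^ (n - 1) by
          simp only [Q, Polynomial.derivative_sub, Polynomial.derivative_C, sub_zero,
            Polynomial.derivative_X_pow]]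
        simp only [map_mul, Polynomial.aeval_C, map_pow, Polynomial.aeval_X, Algebra.algebraMap_self,
          RingHom.id_apply]
        exact (map_natCast (i.app W).hom n ▸ (isUnit_natCast hi hu hW).map (i.app W).hom).mul
          ((hg₀u.map (i.app W).hom).pow _))
    rw [huniq (i.app W r) ⟨by rw [← map_sub]; exact h1, by simp [Q, ← map_pow, hrn]⟩, ← hg₀,
      huniq (i.app W g₀) ⟨by simp, by rw [hg₀]; simp [Q, hgn]⟩]
  choose r hru hrn hrg using key
  let ι := {W : X'.affineOpens // W.1 ≤ V}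
  have hcov : V ≤ iSup fun W : ι => W.1.1 := fun p hp => by
    obtain ⟨W, hW, hpW, hWV⟩ := exists_isAffineOpen_mem_and_subset (x := p) (U := V) hp
    exact Opens.mem_iSup.2 ⟨⟨⟨W, hW⟩, hWV⟩, hpW⟩
  obtain ⟨R, hR, -⟩ := TopCat.Sheaf.existsUnique_gluing' X'.sheaf (fun W : ι => W.1.1) V
    (fun W => homOfLE W.2) hcov (fun W => r W.1.1 W.1.2 W.2) fun W W' => by
      show resR (inf_le_left : W.1.1 ⊓ W'.1.1 ≤ W.1.1) _ = resR (inf_le_right : W.1.1 ⊓ W'.1.1 ≤ W'.1.1) _
      refine root_unique hi hn hu ((hru _ _ _).map _) ?_ ?_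
      · rw [← map_pow, ← map_pow, hrn, hrn, resR_resR, resR_resR]
      · rw [app_resR, app_resR, hrg, hrg, resR_resR, resR_resR]
  replace hR : ∀ W : ι, resR W.2 R = r W.1.1 W.1.2 W.2 := hR
  change Γ(X', V) at R
  have hRn : R ^ n = (c : Γ(X', V)) := by
    refine eq_of_locally (M := Coh.structureModule X') (R ^ n : Γ(X', V)) (c : Γ(X', V)) fun p hp => ?_
    obtain ⟨W, hpW⟩ := Opens.mem_iSup.1 (hcov hp)
    refine ⟨W.1.1, W.2, hpW, ?_⟩
    show resR W.2 (R ^ n) = resR W.2 (c : Γ(X', V))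
    rw [map_pow, hR W, hrn]
  have hRg : i.app V R = g := by
    refine eq_of_locally (M := Coh.structureModule X) _ _ fun p hp => ?_
    obtain ⟨W, hpW⟩ := Opens.mem_iSup.1 (hcov (show i p ∈ V from hp))
    refine ⟨i ⁻¹ᵁ W.1.1, i.preimage_mono W.2, hpW, ?_⟩
    show resR _ (i.app V R) = resR _ g
    rw [← app_resR i W.2, hR W, hrg]
  exact ⟨((isUnit_pow_iff hn.ne').mp (hRn ▸ c.isUnit)).unit, hRn, hRg⟩

end roots

section powers

variable {M : X.Modules}

/-- The `k`-th tensor power of a section. -/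
noncomputable def powElt {U : X.Opens} (e : Γ(M, U)) :
    ∀ k : ℕ, Γ(CohB1.tensorPow M k, U)
  | 0 => (1 : Γ(X, U))
  | k + 1 => tmul (powElt e k) e

lemma res_powElt {U V : X.Opens} (h : V ≤ U) (e : Γ(M, U)) :
    ∀ k, res (CohB1.tensorPow M k) h (powElt e k) = powElt (res M h e) k
  | 0 => map_one (resR h)
  | k + 1 => (res_tmul h (powElt e k) e).trans
      (congrArg (fun z => tmul z (res M h e)) (res_powElt h e k))

lemma powElt_smul {U : X.Opens} (c : Γ(X, U)) (e : Γ(M, U)) :
    ∀ k, powElt (c • e) k = c ^ k • powElt e k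
  | 0 => by rw [pow_zero, one_smul]; rfl
  | k + 1 => by
    show tmul (powElt (c • e) k) (c • e) = c ^ (k + 1) • tmul (powElt e k) e
    rw [powElt_smul c e k, tmul_smul_left, tmul_smul_right, ← mul_smul, pow_succ]

lemma isFrame_powElt {U : X.Opens} {e : Γ(M, U)} (he : IsFrame e) :
    ∀ k, IsFrame (powElt e k)
  | 0 => isFrame_one U
  | k + 1 => isFrame_tmul (isFrame_powElt he k) he

/-- Modules with frames having the same transition functions are isomorphic. -/
lemma iso_of_frames {N : X.Modules} {ι : Type u} {U : ι → X.Opens} (hcov : ∀ x, ∃ a, x ∈ U a)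
    (p : ∀ a, Γ(M, U a)) (hp : ∀ a, IsFrame (p a)) (q : ∀ a, Γ(N, U a)) (hq : ∀ a, IsFrame (q a))
    (h : ∀ a b, ∃ g : Γ(X, U a ⊓ U b),
      res M (inf_le_left : U a ⊓ U b ≤ U a) (p a) = g • res M inf_le_right (p b) ∧
      res N (inf_le_left : U a ⊓ U b ≤ U a) (q a) = g • res N inf_le_right (q b)) :
    Nonempty (M ≅ N) := by
  have hrel : ∀ (a b : ι) (W : X.Opens) (ha : W ≤ U a) (hb : W ≤ U b), ∃ G : Γ(X, W),
      res M ha (p a) = G • res M hb (p b) ∧ res N ha (q a) = G • res N hb (q b) := by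
    intro a b W ha hb
    obtain ⟨g, h1, h2⟩ := h a b
    refine ⟨resR (le_inf ha hb) g, ?_, ?_⟩
    · have h := congrArg (res M (le_inf ha hb)) h1
      rwa [res_smul, res_res, res_res] at h
    · have h := congrArg (res N (le_inf ha hb)) h2
      rwa [res_smul, res_res, res_res] at h
  let φ : M ⟶ N := ofFrames (U := U) (e := p) (n := q) hcov hp fun a b W ha hb g h => by
    obtain ⟨G, h1, h2⟩ := hrel a b W ha hb
    rw [h1, ← mul_smul] at h
    rw [h2, ← mul_smul, ← (hp b).coord_unique hb ((one_smul _ _).trans h), one_smul]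
  let ψ : N ⟶ M := ofFrames (U := U) (e := q) (n := p) hcov hq fun a b W ha hb g h => by
    obtain ⟨G, h1, h2⟩ := hrel a b W ha hb
    rw [h2, ← mul_smul] at h
    rw [h1, ← mul_smul, ← (hq b).coord_unique hb ((one_smul _ _).trans h), one_smul]
  refine ⟨⟨φ, ψ, hom_ext_of_frames U hcov p hp fun a => ?_,
    hom_ext_of_frames U hcov q hq fun a => ?_⟩⟩
  · show ψ.app (U a) (φ.app (U a) (p a)) = p a
    rw [show φ.app (U a) (p a) = q a from ofFrames_app _ _ _ a]
    exact ofFrames_app _ _ _ a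
  · show φ.app (U a) (ψ.app (U a) (q a)) = q a
    rw [show ψ.app (U a) (q a) = p a from ofFrames_app _ _ _ a]
    exact ofFrames_app _ _ _ a

lemma isUnit_of_isFrame {U : X.Opens} {v : Γ(X, U)}
    (h : IsFrame (M := Coh.structureModule X) (U := U) v) : IsUnit v := by
  obtain ⟨r, hr⟩ := (h U le_rfl).2 (1 : Γ(X, U))
  have hr' : r * v = 1 := by
    refine Eq.trans ?_ hr
    show r * v = r * resR le_rfl v
    rw [resR_self]
  exact .of_mul_eq_one r (by rw [mul_comm, hr'])

end powers

theorem exists_torsion_lift (i : X ⟶ X') (hi : MoreMor.IsThickening i) (n : ℕ) (hn : 0 < n)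
    (hu : IsUnit (n : Γ(X, ⊤))) (L : X.Modules) (hL : PicF.IsInvertible L)
    (φ : CohB1.tensorPow L n ≅ Coh.structureModule X) :
    ∃ L' : X'.Modules, PicF.IsInvertible L' ∧
      Nonempty (CohB1.tensorPow L' n ≅ Coh.structureModule X') ∧
      Nonempty ((Scheme.Modules.pullback i).obj L' ≅ L) := by
  haveI := hi.1
  have hloc : ∀ x : X', ∃ U : X'.Opens, IsAffineOpen U ∧ x ∈ U ∧
      ∃ e : Γ(L, i ⁻¹ᵁ U), IsFrame e := by
    intro x
    obtain ⟨y, rfl⟩ := hi.2.surj x
    obtain ⟨O, hy, e, he⟩ := InvX.exists_frame hL y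
    let O' : X'.Opens := ⟨(i '' (O : Set X)ᶜ)ᶜ,
      (i.isClosedEmbedding.isClosedMap _ O.2.isClosed_compl).isOpen_compl⟩
    have hyO' : i y ∈ O' := fun ⟨z, hz, hzy⟩ => hz (i.isClosedEmbedding.injective hzy ▸ hy)
    obtain ⟨U, hU, hyU, hUO⟩ := exists_isAffineOpen_mem_and_subset hyO'
    have hle : i ⁻¹ᵁ U ≤ O := fun z hz => by
      by_contra hzO
      exact hUO hz ⟨z, hzO, rfl⟩
    exact ⟨U, hU, hyU, res L hle e, he.res _⟩
  choose U hU hmem e he using hloc
  let v : ∀ a : X', Γ(X, i ⁻¹ᵁ U a) := fun a => φ.hom.app (i ⁻¹ᵁ U a) (powElt (e a) n)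
  have hv : ∀ a, IsUnit (v a) := fun a => isUnit_of_isFrame ((isFrame_powElt (he a) n).map_iso φ)
  choose w hw using fun a => i.app_surjective (U a) (hU a) (v a)
  have hwu : ∀ a, IsUnit (w a) := fun a => isUnit_of_app hi (hU a) ((hw a).symm ▸ hv a)
  choose g hg using fun a b : X' => (he b).exists_coord
    (i.preimage_mono (inf_le_right : U a ⊓ U b ≤ U b))
    (res L (i.preimage_mono (inf_le_left : U a ⊓ U b ≤ U a)) (e a))
  let wu : ∀ a, Γ(X', U a)ˣ := fun a => (hwu a).unit
  let c : ∀ a b, Γ(X', U a ⊓ U b)ˣ := fun a b =>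
    ru inf_le_left (wu a) * (ru inf_le_right (wu b))⁻¹
  have hgn : ∀ a b, g a b ^ n = i.app (U a ⊓ U b) (c a b : Γ(X', U a ⊓ U b)) := by
    intro a b
    have h1 := congrArg (fun z => φ.hom.app _ (powElt z n)) (hg a b)
    simp only at h1
    rw [powElt_smul, ← res_powElt, ← res_powElt, Scheme.Modules.Hom.app_smul, app_res, app_res] at h1
    change resR (i.preimage_mono inf_le_left) (v a) =
      g a b ^ n * resR (i.preimage_mono inf_le_right) (v b) at h1
    rw [← hw a, ← hw b, ← app_resR i inf_le_left, ← app_resR i inf_le_right] at h1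
    have h2 : IsUnit (i.app (U a ⊓ U b) (resR (inf_le_right : U a ⊓ U b ≤ U b) (w b))) :=
      ((hwu b).map _).map (i.app (U a ⊓ U b)).hom
    refine h2.mul_left_injective ?_
    show g a b ^ n * _ = i.app _ _ * _
    rw [← h1, ← map_mul]
    congr 1
    show resR _ (w a) = (c a b : Γ(X', U a ⊓ U b)) * ((ru (inf_le_right : U a ⊓ U b ≤ U b) (wu b) : Γ(X', U a ⊓ U b)ˣ) : Γ(X', U a ⊓ U b))
    rw [← Units.val_mul, inv_mul_cancel_right]
    rfl
  choose r hrn hrg using fun a b => root_exists hi hn hu (c a b) (g a b) (hgn a b)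
  let t : CocycleMod.Cocycle U := ⟨r, fun x y z W hx hy hz => by
    have hunit : ∀ (a b : X') (hab : W ≤ U a ⊓ U b),
        IsUnit (resR hab (r a b : Γ(X', U a ⊓ U b))) := fun a b hab => (r a b).isUnit.map _
    have hpow : ∀ (a b : X') (ha : W ≤ U a) (hb : W ≤ U b),
        resR (le_inf ha hb) (r a b : Γ(X', U a ⊓ U b)) ^ n =
          ((ru ha (wu a) * (ru hb (wu b))⁻¹ : Γ(X', W)ˣ) : Γ(X', W)) := fun a b ha hb => by
      rw [← map_pow, hrn, ← ru_val, map_mul, map_inv, ru_ru, ru_ru]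
    have hgW : ∀ (a b : X') (ha : W ≤ U a) (hb : W ≤ U b),
        res L (i.preimage_mono ha) (e a) =
          i.app W (resR (le_inf ha hb) (r a b : Γ(X', U a ⊓ U b))) •
            res L (i.preimage_mono hb) (e b) := fun a b ha hb => by
      have h := congrArg (res L (i.preimage_mono (le_inf ha hb))) (hg a b)
      rw [res_smul, res_res, res_res, ← hrg a b, ← app_resR i] at h
      exact h
    symm
    refine root_unique hi hn hu ?_ ?_ ?_
    · exact (hunit y z _).mul (hunit x y _)
    · rw [mul_pow, hpow y z hy hz, hpow x y hx hy, hpow x z hx hz, ← Units.val_mul]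
      congr 1
      rw [mul_comm (ru hy (wu y) * _), mul_assoc, inv_mul_cancel_left]
    · apply (he z).coord_unique (i.preimage_mono hz)
      rw [map_mul, mul_comm, mul_smul, ← hgW y z hy hz, ← hgW x y hx hy, ← hgW x z hx hz]⟩
  have hcov : ∀ x : X', ∃ a, x ∈ U a := fun x => ⟨x, hmem x⟩
  refine ⟨CocycleMod.mod t, CocycleMod.isInvertible t
    (eq_top_iff.2 fun x _ => Opens.mem_iSup.2 (hcov x)), ?_, ?_⟩
  · refine iso_of_frames hcov (fun a => powElt (CocycleMod.frame t a) n)
      (fun a => isFrame_powElt (CocycleMod.isFrame_frame t a) n)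
      (fun a => (w a • (show Γ(Coh.structureModule X', U a) from (1 : Γ(X', U a)))))
      (fun a => (isFrame_one _).isUnit_smul (hwu a)) fun a b => ⟨(r a b : Γ(X', U a ⊓ U b)) ^ n, ?_, ?_⟩
    · rw [res_powElt, res_powElt, CocycleMod.res_frame, powElt_smul]
    · show resR _ (w a * (1 : Γ(X', U a))) =
        (r a b : Γ(X', U a ⊓ U b)) ^ n * resR _ (w b * (1 : Γ(X', U b)))
      rw [mul_one, mul_one, hrn]
      show resR _ (w a) = (c a b : Γ(X', U a ⊓ U b)) * ((ru (inf_le_right : U a ⊓ U b ≤ U b) (wu b) : Γ(X', U a ⊓ U b)ˣ) : Γ(X', U a ⊓ U b))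
      rw [← Units.val_mul, inv_mul_cancel_right]
      rfl
  · refine iso_of_frames (fun x => hcov (i x)) (fun a => pullElt i (CocycleMod.frame t a))
      (fun a => isFrame_pullElt i (CocycleMod.isFrame_frame t a)) e he fun a b => ⟨g a b, ?_, hg a b⟩
    show res _ (i.preimage_mono (inf_le_left : U a ⊓ U b ≤ U a)) _ =
      g a b • res _ (i.preimage_mono (inf_le_right : U a ⊓ U b ≤ U b)) _
    rw [← hrg a b, ← pullElt_res i inf_le_left, ← pullElt_res i inf_le_right, ← PicLift58.pullElt_smul,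
      CocycleMod.res_frame]

end FlatFibres.PicTorsion
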