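import Mathlib

/-!
A quasi-finite finitely presented algebra `A` over `R` is locally, on finitely many basic opens
covering it, isomorphic to a finite and finitely presented `R`-algebra `B` (Zariski's main theorem).
-/

set_option autoImplicit false

universe u

namespace FlatFibres.QfCompact

/-- `ψ : B → A` is an open immersion covered by the basic opens of the `t i`, in elementwise form. -/
structure IsCompactification {R B A : Type u} [CommRing R] [CommRing B] [CommRing A] [Algebra R B]
    [Algebra R A] {ι : Type} (ψ : B →ₐ[R] A) (t : ι → B) : Prop where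
  exists_mem_range : ∀ (a : A) (i : ι), ∃ n : ℕ, ψ (t i) ^ n * a ∈ ψ.range
  exists_mul_eq_zero : ∀ (x : B) (i : ι), ψ x = 0 → ∃ n : ℕ, t i ^ n * x = 0
  span_eq_top : Ideal.span (Set.range (ψ ∘ t)) = ⊤

/-- A finite set of integral elements is in the image of a finite, finitely presented algebra. -/
lemma exists_fp_finite_cover {R A : Type u} [CommRing R] [CommRing A] [Algebra R A]
    {k : ℕ} (g : Fin k → A) (hg : ∀ j, IsIntegral R (g j)) :
    ∃ (B : Type u) (_ : CommRing B) (_ : Algebra R B) (π : B →ₐ[R] A),
      Module.Finite R B ∧ Algebra.FinitePresentation R B ∧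
        Algebra.adjoin R (Set.range g) ≤ π.range := by
  classical
  choose p hp hp0 using hg
  set P := MvPolynomial (Fin k) R
  set I : Ideal P := Ideal.span (Set.range fun j => Polynomial.aeval (MvPolynomial.X j : P) (p j))
  have hI : I.FG := ⟨(Finset.univ.image fun j => Polynomial.aeval (MvPolynomial.X j : P) (p j)), by
    rw [Finset.coe_image, Finset.coe_univ, Set.image_univ]⟩
  have hker : I ≤ RingHom.ker (MvPolynomial.aeval g : P →ₐ[R] A) := by
    rw [Ideal.span_le]
    rintro _ ⟨j, rfl⟩
    show MvPolynomial.aeval g (Polynomial.aeval (MvPolynomial.X j : P) (p j)) = 0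
    rw [← Polynomial.aeval_algHom_apply, MvPolynomial.aeval_X, Polynomial.aeval_def]
    exact hp0 j
  refine ⟨P ⧸ I, inferInstance, inferInstance,
    Ideal.Quotient.liftₐ I (MvPolynomial.aeval g) fun x hx => hker hx, ?_,
    Algebra.FinitePresentation.quotient hI, ?_⟩
  · have hft : Algebra.FiniteType R (P ⧸ I) :=
      Algebra.FiniteType.of_surjective (Ideal.Quotient.mkₐ R I) Ideal.Quotient.mk_surjective
    have : Algebra.IsIntegral R (P ⧸ I) := by
      refine ⟨fun x => ?_⟩
      obtain ⟨x, rfl⟩ := Ideal.Quotient.mk_surjective x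
      have : (Ideal.Quotient.mkₐ R I).range ≤ integralClosure R (P ⧸ I) := by
        rw [← Algebra.map_top, ← MvPolynomial.adjoin_range_X, AlgHom.map_adjoin, Algebra.adjoin_le_iff]
        rintro _ ⟨_, ⟨j, rfl⟩, rfl⟩
        refine ⟨p j, hp j, ?_⟩
        rw [← Polynomial.aeval_def, Polynomial.aeval_algHom_apply, Ideal.Quotient.mkₐ_eq_mk,
          Ideal.Quotient.eq_zero_iff_mem]
        exact Ideal.subset_span ⟨j, rfl⟩
      exact this ⟨x, rfl⟩
    exact Algebra.IsIntegral.finite
  · rw [Algebra.adjoin_le_iff]
    rintro _ ⟨j, rfl⟩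
    exact ⟨Ideal.Quotient.mk I (MvPolynomial.X j), MvPolynomial.aeval_X g j⟩

theorem exists_compactification {R A : Type u} [CommRing R] [CommRing A] [Algebra R A]
    [Algebra.FinitePresentation R A] [Algebra.QuasiFinite R A] :
    ∃ (B : Type u) (_ : CommRing B) (_ : Algebra R B) (ψ : B →ₐ[R] A) (m : ℕ) (t : Fin m → B),
      Module.Finite R B ∧ Module.FinitePresentation R B ∧ IsCompactification ψ t := by
  classical
  choose S hS r hr hbij using fun p : PrimeSpectrum A =>
    Algebra.QuasiFiniteAt.exists_fg_and_exists_notMem_and_awayMap_bijective (R := R) p.asIdeal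
  have hcov : Ideal.span (Set.range fun p => ((r p : S p) : A)) = ⊤ := by
    by_contra h
    obtain ⟨M, hM, hle⟩ := Ideal.exists_le_maximal _ h
    exact hr ⟨M, hM.isPrime⟩ (hle (Ideal.subset_span ⟨⟨M, hM.isPrime⟩, rfl⟩))
  obtain ⟨s, hs, hs1⟩ :=
    Submodule.mem_span_finite_of_mem_span ((Ideal.eq_top_iff_one _).mp hcov)
  have hsel : ∀ x : s, ∃ p : PrimeSpectrum A, ((r p : S p) : A) = x.1 := fun x => hs x.2
  choose sel hsel using hsel
  let e := (Fintype.equivFin (↥s))
  let pp : Fin (Fintype.card s) → PrimeSpectrum A := fun i => sel (e.symm i)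
  -- module generators of the finitely many subalgebras
  choose G hG using fun i => hS (pp i)
  let GG : Finset A := Finset.univ.biUnion G
  have hint : ∀ j : Fin GG.card, IsIntegral R ((GG.equivFin.symm j : GG) : A) := by
    intro j
    obtain ⟨i, -, hi⟩ := Finset.mem_biUnion.mp (GG.equivFin.symm j).2
    have hmem : ((GG.equivFin.symm j : GG) : A) ∈ S (pp i) := by
      show _ ∈ Subalgebra.toSubmodule (S (pp i))
      rw [← hG i]
      exact Submodule.subset_span hi
    exact IsIntegral.of_mem_of_fg (S (pp i)) (hS (pp i)) _ hmem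
  obtain ⟨B, _, _, π, hBfin, hBfp, hrange⟩ :=
    exists_fp_finite_cover (fun j : Fin GG.card => ((GG.equivFin.symm j : GG) : A)) hint
  have hSle : ∀ i, S (pp i) ≤ π.range := by
    intro i a ha
    refine hrange ?_
    have ha' : a ∈ Submodule.span R (G i : Set A) := by rw [hG i]; exact ha
    refine Algebra.span_le_adjoin R (Set.range _) ?_
    refine Submodule.span_mono (fun y hy => ?_) ha'
    exact ⟨GG.equivFin ⟨y, Finset.mem_biUnion.mpr ⟨i, Finset.mem_univ _, hy⟩⟩, by simp⟩
  choose t ht using fun i => hSle i (r (pp i)).2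
  replace ht : ∀ i, π (t i) = (r (pp i) : A) := ht
  -- surjectivity of the localised maps
  have hA : ∀ (a : A) (i), ∃ n : ℕ, π (t i) ^ n * a ∈ π.range := by
    intro a i
    obtain ⟨z, hz⟩ := (hbij (pp i)).2 (algebraMap A _ a)
    obtain ⟨⟨b, ⟨_, n, rfl⟩⟩, hb⟩ := IsLocalization.surj (Submonoid.powers (r (pp i))) z
    have h1 := congrArg (Localization.awayMap (S (pp i)).val.toRingHom (r (pp i))) hb
    rw [map_mul, hz, Localization.awayMap, IsLocalization.Away.map, IsLocalization.map_eq,
      IsLocalization.map_eq, ← map_mul] at h1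
    obtain ⟨⟨_, m, rfl⟩, hm⟩ := (IsLocalization.eq_iff_exists
      (Submonoid.powers ((r (pp i) : A))) (Localization.Away ((r (pp i) : A)))).mp h1
    refine ⟨m + n, ?_⟩
    have : π (t i) ^ (m + n) * a = (r (pp i) : A) ^ m * (b : A) := by
      have h2 : (r (pp i) : A) ^ m * (a * (r (pp i) : A) ^ n) = (r (pp i) : A) ^ m * (b : A) := by
        simpa using hm
      rw [ht, ← h2, pow_add]; ring
    rw [this]
    exact hSle i (mul_mem (pow_mem (r (pp i)).2 m) b.2)
  -- the kernels of the localised maps are finitely generated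
  have hK : ∀ i, ∃ J : Ideal B, J.FG ∧ J ≤ RingHom.ker π ∧
      ∀ x : B, π x = 0 → ∃ n : ℕ, t i ^ n * x ∈ J := by
    intro i
    have : Algebra.FinitePresentation R (Localization.Away (t i)) :=
      .trans R B _
    have : Algebra.FinitePresentation R (Localization.Away (π (t i))) :=
      .trans R A _
    let φ := Localization.awayMapₐ π (t i)
    have hφ : Function.Surjective φ := by
      intro y
      obtain ⟨a, ⟨_, n, rfl⟩, rfl⟩ :=
        IsLocalization.exists_mk'_eq (Submonoid.powers (π (t i))) y
      obtain ⟨m, b, hb⟩ := hA a i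
      refine ⟨IsLocalization.mk' _ b (⟨t i ^ (m + n), m + n, rfl⟩ : Submonoid.powers (t i)), ?_⟩
      show IsLocalization.map (M := Submonoid.powers (t i)) (T := Submonoid.powers (π (t i)))
        (Localization.Away (π (t i))) π.toRingHom
        (by rw [Submonoid.powers_le, Submonoid.mem_comap]; exact Submonoid.mem_powers _)
        (IsLocalization.mk' (Localization.Away (t i)) _ _) = _
      rw [IsLocalization.map_mk', IsLocalization.mk'_eq_iff_eq]
      congr 1
      have hb' : π b = π (t i) ^ m * a := hb
      show π (t i) ^ n * π b = π (t i ^ (m + n)) * a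
      rw [hb', map_pow, pow_add]; ring
    obtain ⟨F, hF⟩ := Algebra.FinitePresentation.ker_fG_of_surjective φ hφ
    have hrep : ∀ z : F, ∃ k : B, π k = 0 ∧ ∃ n : ℕ,
        algebraMap B (Localization.Away (t i)) k = z.1 * algebraMap B _ (t i ^ n) := by
      intro z
      obtain ⟨⟨b, ⟨_, n, rfl⟩⟩, hb⟩ := IsLocalization.surj (Submonoid.powers (t i)) z.1
      have hz : φ z.1 = 0 := by
        have : z.1 ∈ RingHom.ker φ := hF ▸ Ideal.subset_span z.2
        exact this
      have h1 := congrArg φ hb
      rw [map_mul, hz, zero_mul] at h1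
      have hb' : φ (algebraMap B _ b) = algebraMap A (Localization.Away (π (t i))) (π b) := by
        show IsLocalization.map (M := Submonoid.powers (t i)) (T := Submonoid.powers (π (t i)))
          (Localization.Away (π (t i))) π.toRingHom
          (by rw [Submonoid.powers_le, Submonoid.mem_comap]; exact Submonoid.mem_powers _)
          (algebraMap B (Localization.Away (t i)) b) = _
        rw [IsLocalization.map_eq]; rfl
      replace h1 : algebraMap A (Localization.Away (π (t i))) (π b) = 0 := hb'.symm.trans h1.symm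
      obtain ⟨⟨_, m, rfl⟩, hm⟩ := (IsLocalization.map_eq_zero_iff
        (Submonoid.powers (π (t i))) _ _).mp h1
      refine ⟨t i ^ m * b, by simpa using hm, m + n, ?_⟩
      rw [map_mul, ← hb, pow_add, map_mul]; ring
    choose k hk n hkn using hrep
    refine ⟨Ideal.span (Set.range k), ⟨Finset.univ.image k, by simp⟩, ?_, ?_⟩
    · rw [Ideal.span_le]; rintro _ ⟨z, rfl⟩; exact hk z
    · intro x hx
      have hle : RingHom.ker φ.toRingHom ≤ (Ideal.span (Set.range k)).map
          (algebraMap B (Localization.Away (t i))) := by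
        rw [← hF, Ideal.span_le]
        intro z hz
        have hu : IsUnit (algebraMap B (Localization.Away (t i)) (t i ^ n ⟨z, hz⟩)) :=
          IsLocalization.map_units (M := Submonoid.powers (t i)) _ ⟨_, n ⟨z, hz⟩, rfl⟩
        rw [SetLike.mem_coe, ← Ideal.mul_unit_mem_iff_mem _ hu, ← hkn ⟨z, hz⟩]
        exact Ideal.mem_map_of_mem _ (Ideal.subset_span ⟨_, rfl⟩)
      have hxm : algebraMap B (Localization.Away (t i)) x ∈ RingHom.ker φ.toRingHom := by
        rw [RingHom.mem_ker]
        show IsLocalization.map (M := Submonoid.powers (t i)) (T := Submonoid.powers (π (t i)))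
          (Localization.Away (π (t i))) π.toRingHom
          (by rw [Submonoid.powers_le, Submonoid.mem_comap]; exact Submonoid.mem_powers _)
          (algebraMap B (Localization.Away (t i)) x) = 0
        rw [IsLocalization.map_eq]
        show algebraMap A _ (π x) = 0
        rw [hx, map_zero]
      obtain ⟨_, ⟨N, rfl⟩, hN⟩ :=
        (IsLocalization.algebraMap_mem_map_algebraMap_iff (Submonoid.powers (t i)) _ _ x).mp
          (hle hxm)
      exact ⟨N, hN⟩
  choose J hJfg hJle hJ using hK
  set I : Ideal B := ⨆ i, J i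
  have hIfg : I.FG := Submodule.fg_iSup _ hJfg
  have hIle : I ≤ RingHom.ker π := iSup_le hJle
  have : Algebra.FinitePresentation R (B ⧸ I) := .quotient hIfg
  have hfin : Module.Finite R (B ⧸ I) :=
    Module.Finite.of_surjective (Ideal.Quotient.mkₐ R I).toLinearMap Ideal.Quotient.mk_surjective
  refine ⟨B ⧸ I, inferInstance, inferInstance, Ideal.Quotient.liftₐ I π fun x hx => hIle hx,
    _, fun i => Ideal.Quotient.mk I (t i), hfin,
    Module.FinitePresentation.of_finite_of_finitePresentation R _, ⟨?_, ?_, ?_⟩⟩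
  · intro a i
    obtain ⟨n, b, hb⟩ := hA a i
    exact ⟨n, Ideal.Quotient.mk I b, hb⟩
  · intro x i hx
    obtain ⟨x, rfl⟩ := Ideal.Quotient.mk_surjective x
    obtain ⟨n, hn⟩ := hJ i x hx
    exact ⟨n, by rw [← map_pow, ← map_mul, Ideal.Quotient.eq_zero_iff_mem]; exact le_iSup J i hn⟩
  · rw [Ideal.eq_top_iff_one]
    refine Submodule.span_mono ?_ hs1
    intro x hx
    exact ⟨e ⟨x, hx⟩, by
      show π (t (e ⟨x, hx⟩)) = x
      rw [ht]; simp [pp, hsel]⟩

end FlatFibres.QfCompact
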