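import Groth.Agent.FlatFibres.QfCompact

/-!
Idempotents of `R' ⊗ A` cutting out finite opens, for `A` quasi-finite of finite presentation over
`R`: they come from one universal idempotent over a finitely presented `R`-algebra.
-/

set_option autoImplicit false

universe u

open scoped TensorProduct

namespace FlatFibres.QfCompact

section

variable {R B A : Type u} [CommRing R] [CommRing B] [CommRing A] [Algebra R B] [Algebra R A]
  {ι : Type} {ψ : B →ₐ[R] A} {t : ι → B} (h : IsCompactification ψ t)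
  (R' : Type u) [CommRing R'] [Algebra R R']

noncomputable abbrev extend (ψ : B →ₐ[R] A) : R' ⊗[R] B →ₐ[R'] R' ⊗[R] A :=
  Algebra.TensorProduct.map (AlgHom.id R' R') ψ

variable {R'} in
abbrev opensIdeal (t : ι → B) : Ideal (R' ⊗[R] B) :=
  Ideal.span (Set.range fun i => (1 : R') ⊗ₜ[R] t i)

include h in
lemma extend_mem_range (a : R' ⊗[R] A) (i : ι) :
    ∃ n : ℕ, extend R' ψ ((1 : R') ⊗ₜ[R] t i) ^ n * a ∈ (extend R' ψ).range := by
  induction a using TensorProduct.induction_on with
  | zero => exact ⟨0, by simp⟩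
  | tmul r a =>
    obtain ⟨n, b, hb⟩ := h.exists_mem_range a i
    refine ⟨n, r ⊗ₜ b, ?_⟩
    have hb' : ψ b = ψ (t i) ^ n * a := hb
    simp [extend, hb']
  | add x y hx hy =>
    obtain ⟨n, hn⟩ := hx
    obtain ⟨m, hm⟩ := hy
    refine ⟨n + m, ?_⟩
    have key : ∀ k : ℕ, extend R' ψ ((1 : R') ⊗ₜ[R] t i) ^ k ∈ (extend R' ψ).range :=
      fun k => pow_mem ((AlgHom.mem_range (φ := extend R' ψ)).mpr ⟨_, rfl⟩) k
    rw [mul_add]
    refine add_mem ?_ ?_
    · rw [pow_add, mul_comm (_ ^ n), mul_assoc]; exact mul_mem (key m) hn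
    · rw [pow_add, mul_assoc]; exact mul_mem (key n) hm

include h in
lemma extend_exists_mul_eq_zero (x : R' ⊗[R] B) (i : ι) (hx : extend R' ψ x = 0) :
    ∃ n : ℕ, ((1 : R') ⊗ₜ[R] t i) ^ n * x = 0 := by
  classical
  let φ := Localization.awayMapₐ ψ (t i)
  have hφa : ∀ b : B, φ (algebraMap B _ b) = algebraMap A _ (ψ b) := by
    intro b
    show IsLocalization.map (M := Submonoid.powers (t i)) (T := Submonoid.powers (ψ (t i)))
      (Localization.Away (ψ (t i))) ψ.toRingHom
      (by rw [Submonoid.powers_le, Submonoid.mem_comap]; exact Submonoid.mem_powers _)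
      (algebraMap B (Localization.Away (t i)) b) = _
    rw [IsLocalization.map_eq]; rfl
  have hφ : Function.Bijective φ := by
    refine ⟨?_, ?_⟩
    · rw [injective_iff_map_eq_zero]
      intro z hz
      obtain ⟨⟨b, ⟨_, n, rfl⟩⟩, hb⟩ := IsLocalization.surj (Submonoid.powers (t i)) z
      have h1 := congrArg φ hb
      rw [map_mul, hz, zero_mul, hφa] at h1
      obtain ⟨⟨_, m, rfl⟩, hm⟩ := (IsLocalization.map_eq_zero_iff
        (Submonoid.powers (ψ (t i))) _ _).mp h1.symm
      obtain ⟨N, hN⟩ := h.exists_mul_eq_zero (t i ^ m * b) i (by simpa using hm)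
      have h2 : algebraMap B (Localization.Away (t i)) (t i ^ (N + m + n)) * z = 0 := by
        have h3 := congrArg (algebraMap B (Localization.Away (t i))) hN
        rw [map_mul, map_mul, ← hb, map_zero] at h3
        rw [← h3, pow_add, pow_add, map_mul, map_mul]; ring
      exact (IsLocalization.map_units (M := Submonoid.powers (t i)) _
        ⟨_, N + m + n, rfl⟩).mul_right_eq_zero.mp h2
    · intro y
      obtain ⟨⟨a, ⟨_, n, rfl⟩⟩, ha⟩ := IsLocalization.surj (Submonoid.powers (ψ (t i))) y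
      obtain ⟨m, b, hb⟩ := h.exists_mem_range a i
      have hb' : ψ b = ψ (t i) ^ m * a := hb
      refine ⟨IsLocalization.mk' (Localization.Away (t i)) b
        (⟨t i ^ (m + n), m + n, rfl⟩ : Submonoid.powers (t i)), ?_⟩
      refine (IsLocalization.map_units (M := Submonoid.powers (ψ (t i))) _
        ⟨_, m + n, rfl⟩).mul_left_inj.mp ?_
      show φ _ * algebraMap A _ (ψ (t i) ^ (m + n)) = y * algebraMap A _ (ψ (t i) ^ (m + n))
      rw [← map_pow, ← hφa, ← map_mul, IsLocalization.mk'_spec, hφa, hφa, hb', map_mul, ← ha]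
      simp only [map_pow, pow_add, map_mul]
      ring
  let θ : A →ₐ[R] Localization.Away (t i) := (AlgEquiv.ofBijective φ hφ).symm.toAlgHom.comp
    (IsScalarTower.toAlgHom R A (Localization.Away (ψ (t i))))
  have hθ : ∀ b, θ (ψ b) = algebraMap B _ b := by
    intro b
    apply (AlgEquiv.ofBijective φ hφ).injective
    simp [θ, hφa]
  set T := Localization.Away ((1 : R') ⊗ₜ[R] t i)
  let g : Localization.Away (t i) →ₐ[R] T := IsLocalization.Away.liftAlgHom (t i)
    (f := (IsScalarTower.toAlgHom R (R' ⊗[R] B) T).comp Algebra.TensorProduct.includeRight)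
    (IsLocalization.Away.algebraMap_isUnit ((1 : R') ⊗ₜ[R] t i))
  let lam : R' ⊗[R] A →ₐ[R'] T :=
    Algebra.TensorProduct.lift (Algebra.ofId R' T) (g.comp θ) fun _ _ => Commute.all _ _
  have hlam : lam.comp (extend R' ψ) = IsScalarTower.toAlgHom R' (R' ⊗[R] B) T := by
    refine Algebra.TensorProduct.ext (by ext) ?_
    ext b
    simp [lam, extend, g, hθ, IsLocalization.Away.liftAlgHom, IsLocalization.Away.lift_eq]
  have h0 : algebraMap (R' ⊗[R] B) T x = 0 := by
    have := DFunLike.congr_fun hlam x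
    rw [AlgHom.comp_apply, hx, map_zero] at this
    exact this.symm
  obtain ⟨⟨_, n, rfl⟩, hn⟩ := (IsLocalization.map_eq_zero_iff
    (Submonoid.powers ((1 : R') ⊗ₜ[R] t i)) T _).mp h0
  exact ⟨n, hn⟩

include h in
lemma extend_map_opensIdeal :
    (opensIdeal (R' := R') t).map (extend R' ψ) = ⊤ := by
  rw [Ideal.map_span, ← Set.range_comp]
  have h2 : Ideal.span (Set.range ((extend R' ψ) ∘ fun i => (1 : R') ⊗ₜ[R] t i)) =
      (Ideal.span (Set.range (ψ ∘ t))).map Algebra.TensorProduct.includeRight := by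
    rw [Ideal.map_span, ← Set.range_comp]
    congr 2
  rw [h2, h.span_eq_top, Ideal.map_top]

include h in
/-- An idempotent cutting out a finite algebra comes from the compactification. -/
lemma exists_lift_idempotent [Finite ι] {e : R' ⊗[R] A} (he : IsIdempotentElem e)
    (hfin : (LinearMap.range (LinearMap.mulLeft R' e)).FG) :
    ∃ e₀ : R' ⊗[R] B, IsIdempotentElem e₀ ∧ e₀ ∈ opensIdeal t ∧ extend R' ψ e₀ = e := by
  set ψ' := extend R' ψ
  set T : Ideal (R' ⊗[R] B) := opensIdeal t
  have hTfg : T.FG := Submodule.fg_span (Set.finite_range _)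
  -- the conductor of `e * (R' ⊗ A)`
  let I : Ideal (R' ⊗[R] B) :=
    { carrier := {c | ∀ a, ψ' c * (e * a) ∈ ψ'.range}
      add_mem' := fun {x y} hx hy a => by rw [map_add, add_mul]; exact add_mem (hx a) (hy a)
      zero_mem' := fun a => by simp
      smul_mem' := fun c x hx a => by
        rw [smul_eq_mul, map_mul, mul_assoc]; exact mul_mem ⟨c, rfl⟩ (hx a) }
  have hTI : T ≤ I.radical := by
    rw [Ideal.span_le]
    rintro _ ⟨i, rfl⟩
    obtain ⟨S, hS⟩ := hfin
    choose n hn using fun a : S => extend_mem_range h R' a.1 i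
    refine ⟨Finset.univ.sup n, fun a => ?_⟩
    have ha : e * a ∈ Submodule.span R' (S : Set (R' ⊗[R] A)) := by
      rw [hS]; exact ⟨a, rfl⟩
    generalize e * a = y at ha
    induction ha using Submodule.span_induction with
    | mem y hy =>
      obtain ⟨j, hj⟩ := Nat.exists_eq_add_of_le (Finset.le_sup (f := n) (Finset.mem_univ ⟨y, hy⟩))
      rw [hj, map_pow, pow_add, mul_comm (_ ^ n _), mul_assoc]
      exact mul_mem (pow_mem ((AlgHom.mem_range (φ := ψ')).mpr ⟨_, rfl⟩) j) (hn ⟨y, hy⟩)
    | zero => simp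
    | add x y _ _ hx hy => rw [mul_add]; exact add_mem hx hy
    | smul r x _ hx => rw [mul_smul_comm]; exact Subalgebra.smul_mem _ hx r
  obtain ⟨M, hM⟩ := Ideal.exists_pow_le_of_le_radical_of_fg hTI hTfg
  -- `e` is the image of an element of `T`
  let K : Ideal (R' ⊗[R] A) :=
    { carrier := {c | ∀ y, ∃ b ∈ T, ψ' b = e * c * y}
      add_mem' := fun {x y} hx hy z => by
        obtain ⟨b, hb, h1⟩ := hx z
        obtain ⟨b', hb', h2⟩ := hy z
        exact ⟨b + b', add_mem hb hb', by rw [map_add, h1, h2]; ring⟩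
      zero_mem' := fun y => ⟨0, zero_mem _, by simp⟩
      smul_mem' := fun c x hx y => by
        obtain ⟨b, hb, h1⟩ := hx (c * y)
        exact ⟨b, hb, by rw [h1, smul_eq_mul]; ring⟩ }
  have hK : (T * I).map ψ' ≤ K := by
    rw [Ideal.map_le_iff_le_comap, Ideal.mul_le]
    intro s hs c hc y
    obtain ⟨b, hb⟩ := hc y
    exact ⟨s * b, T.mul_mem_right _ hs, by
      rw [map_mul, map_mul, show ψ' b = ψ' c * (e * y) from hb]; ring⟩
  have htop : (T * I).map ψ' = ⊤ := by
    rw [eq_top_iff, Ideal.map_mul, extend_map_opensIdeal h R', Ideal.top_mul]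
    refine le_trans ?_ (Ideal.map_mono hM)
    rw [Ideal.map_pow, extend_map_opensIdeal h R', ← Ideal.one_eq_top, one_pow]
  obtain ⟨b, hbT, hb⟩ := hK (htop ▸ Submodule.mem_top : (1 : R' ⊗[R] A) ∈ (T * I).map ψ') 1
  rw [mul_one, mul_one] at hb
  have hann : T ≤ (Submodule.annihilator (Submodule.span (R' ⊗[R] B) {b * b - b})).radical := by
    rw [Ideal.span_le]
    rintro _ ⟨i, rfl⟩
    obtain ⟨n, hn⟩ := extend_exists_mul_eq_zero h R' (b * b - b) i
      (by rw [map_sub, map_mul, hb, he.eq, sub_self])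
    exact ⟨n, by rw [Submodule.mem_annihilator_span_singleton, smul_eq_mul]; exact hn⟩
  obtain ⟨n, hn⟩ := hann hbT
  rw [Submodule.mem_annihilator_span_singleton, smul_eq_mul, mul_sub, sub_eq_zero] at hn
  have hstab : ∀ k : ℕ, b ^ (n + 1 + k) = b ^ (n + 1) := by
    intro k
    induction k with
    | zero => rfl
    | succ k ih =>
      rw [← add_assoc, pow_succ, ih, pow_succ, mul_assoc, hn]
  refine ⟨b ^ (n + 1), ?_, T.pow_mem_of_mem hbT _ n.succ_pos, ?_⟩
  · rw [IsIdempotentElem, ← pow_add, hstab]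
  · rw [map_pow, hb, he.pow_succ_eq]

include h in
/-- Conversely an idempotent in the ideal of the basic opens cuts out a finite algebra. -/
lemma fg_of_idempotent [Module.Finite R B] {e₀ : R' ⊗[R] B} (he : IsIdempotentElem e₀)
    (heT : e₀ ∈ opensIdeal t) :
    (LinearMap.range (LinearMap.mulLeft R' (extend R' ψ e₀))).FG := by
  have key : ∀ a, extend R' ψ e₀ * a ∈ (extend R' ψ).range := by
    intro a
    let I : Ideal (R' ⊗[R] B) :=
      { carrier := {c | extend R' ψ c * a ∈ (extend R' ψ).range}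
        add_mem' := fun {x y} hx hy => by
          rw [Set.mem_setOf_eq, map_add, add_mul]; exact add_mem hx hy
        zero_mem' := by rw [Set.mem_setOf_eq, map_zero, zero_mul]; exact zero_mem _
        smul_mem' := fun c x hx => by
          rw [Set.mem_setOf_eq, smul_eq_mul, map_mul, mul_assoc]; exact mul_mem ⟨c, rfl⟩ hx }
    have hTI : opensIdeal t ≤ I.radical := by
      rw [Ideal.span_le]
      rintro _ ⟨i, rfl⟩
      obtain ⟨n, hn⟩ := extend_mem_range h R' a i
      refine ⟨n, ?_⟩
      show ((1 : R') ⊗ₜ[R] t i) ^ n ∈ {c | extend R' ψ c * a ∈ (extend R' ψ).range}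
      rw [Set.mem_setOf_eq, map_pow]; exact hn
    obtain ⟨n, hn⟩ := hTI heT
    cases n with
    | zero =>
      have h1 : (1 : R' ⊗[R] B) ∈ I := by simpa using hn
      exact (by simpa using I.mul_mem_left e₀ h1 : e₀ ∈ I)
    | succ n => rwa [he.pow_succ_eq] at hn
  have : LinearMap.range (LinearMap.mulLeft R' (extend R' ψ e₀)) =
      (LinearMap.range (LinearMap.mulLeft R' e₀)).map (extend R' ψ).toLinearMap := by
    ext y
    constructor
    · rintro ⟨a, rfl⟩
      obtain ⟨b, hb⟩ := key a
      refine ⟨e₀ * b, ⟨b, rfl⟩, ?_⟩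
      show extend R' ψ (e₀ * b) = extend R' ψ e₀ * a
      rw [map_mul, show extend R' ψ b = extend R' ψ e₀ * a from hb, ← mul_assoc, ← map_mul, he.eq]
    · rintro ⟨_, ⟨b, rfl⟩, rfl⟩
      exact ⟨extend R' ψ b, (map_mul (extend R' ψ) e₀ b).symm⟩
  rw [this, LinearMap.range_eq_map]
  exact ((Module.Finite.fg_top).map _).map _

end

section

variable {R B : Type u} [CommRing R] [CommRing B] [Algebra R B]

/-- Idempotents of `R' ⊗ B` in the ideal of finitely many elements are parametrised by a finitely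
presented algebra, for `B` finitely presented as a module. -/
lemma exists_universal_idempotent [Module.FinitePresentation R B] {ι : Type} [Fintype ι]
    (t : ι → B) :
    ∃ (Ru : Type u) (_ : CommRing Ru) (_ : Algebra R Ru) (eu : Ru ⊗[R] B),
      Algebra.FinitePresentation R Ru ∧ IsIdempotentElem eu ∧ eu ∈ opensIdeal t ∧
      ∀ (R' : Type u) [CommRing R'] [Algebra R R'] (e : R' ⊗[R] B),
        IsIdempotentElem e → e ∈ opensIdeal t →
          ∃ g : Ru →ₐ[R] R', Algebra.TensorProduct.map g (AlgHom.id R B) eu = e := by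
  classical
  obtain ⟨n, K, eK, hK⟩ := Module.FinitePresentation.exists_fin R B
  obtain ⟨m, k, hk⟩ := Submodule.fg_iff_exists_fin_generating_family.mp hK
  let b : Fin n → B := fun j => eK.symm (Submodule.Quotient.mk (Pi.single j 1))
  have hb : ∀ v : Fin n → R, ∑ j, v j • b j = eK.symm (Submodule.Quotient.mk v) := by
    intro v
    simp only [b, ← map_smul, ← map_sum, ← Submodule.mkQ_apply]
    congr 2
    simp [← Pi.single_smul, Finset.univ_sum_single]
  have hspan : ∀ {R' : Type u} [CommRing R'] [Algebra R R'] (x : R' ⊗[R] B),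
      ∃ c : Fin n → R', x = ∑ j, c j ⊗ₜ[R] b j := by
    intro R' _ _ x
    induction x using TensorProduct.induction_on with
    | zero => exact ⟨0, by simp⟩
    | tmul r y =>
      obtain ⟨v, hv⟩ := Submodule.Quotient.mk_surjective K (eK y)
      refine ⟨fun j => v j • r, ?_⟩
      have hy : y = ∑ j, v j • b j := by rw [hb, hv, eK.symm_apply_apply]
      rw [hy, TensorProduct.tmul_sum]
      simp [TensorProduct.smul_tmul]
    | add x y hx hy =>
      obtain ⟨c, rfl⟩ := hx
      obtain ⟨c', rfl⟩ := hy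
      exact ⟨c + c', by simp [TensorProduct.add_tmul, Finset.sum_add_distrib]⟩
  -- relations between the generators after base change
  have hrel : ∀ {R' : Type u} [CommRing R'] [Algebra R R'] (c : Fin n → R'),
      ∑ j, c j ⊗ₜ[R] b j = 0 →
        ∃ y : Fin m → R', ∀ j, c j = ∑ l, y l * algebraMap R R' (k l j) := by
    intro R' _ _ c hc
    let K' : Submodule R' (Fin n → R') :=
      Submodule.span R' (Set.range fun l => fun j => algebraMap R R' (k l j))
    let φ₀ : (Fin n → R) →ₗ[R] (Fin n → R') ⧸ K' :=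
      (K'.mkQ.restrictScalars R).comp ((Algebra.linearMap R R').compLeft (Fin n))
    have hφ₀ : K ≤ LinearMap.ker φ₀ := by
      rw [← hk, Submodule.span_le]
      rintro _ ⟨l, rfl⟩
      show Submodule.Quotient.mk (fun j => algebraMap R R' (k l j)) = (0 : _ ⧸ K')
      rw [Submodule.Quotient.mk_eq_zero]
      exact Submodule.subset_span ⟨l, rfl⟩
    let φ : B →ₗ[R] (Fin n → R') ⧸ K' := (K.liftQ φ₀ hφ₀).comp eK.toLinearMap
    have h1 := congrArg (φ.liftBaseChange R') hc
    rw [map_sum, map_zero] at h1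
    have h2 : (Submodule.Quotient.mk c : _ ⧸ K') = 0 := by
      rw [← h1]
      simp only [LinearMap.liftBaseChange_tmul, φ, b, LinearMap.comp_apply, LinearEquiv.coe_coe,
        LinearEquiv.apply_symm_apply, Submodule.liftQ_apply, φ₀, LinearMap.coe_restrictScalars,
        Submodule.mkQ_apply]
      rw [← Submodule.mkQ_apply, ← Finset.univ_sum_single c, map_sum]
      refine Finset.sum_congr rfl fun j _ => ?_
      rw [← Submodule.Quotient.mk_smul, Submodule.mkQ_apply]
      congr 1
      ext j'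
      rcases eq_or_ne j' j with rfl | hne
      · rw [Finset.univ_sum_single]
        show _ = c j' * algebraMap R R' ((Pi.single j' (1 : R) : Fin n → R) j')
        simp
      · rw [Finset.univ_sum_single]
        show _ = c j * algebraMap R R' ((Pi.single j (1 : R) : Fin n → R) j')
        simp [hne]
    rw [Submodule.Quotient.mk_eq_zero, Submodule.mem_span_range_iff_exists_fun] at h2
    obtain ⟨y, hy⟩ := h2
    exact ⟨y, fun j => by rw [← hy]; simp⟩
  -- the universal coefficients
  let eP : (MvPolynomial (ι × Fin n) R) ⊗[R] B := ∑ i, ∑ j, (MvPolynomial.X (i, j) : (MvPolynomial (ι × Fin n) R)) ⊗ₜ[R] (t i * b j)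
  obtain ⟨Q, hQ⟩ := hspan (eP * eP - eP)
  let ρ : (MvPolynomial (ι × Fin n) R) →ₐ[R] (MvPolynomial ((ι × Fin n) ⊕ Fin m) R) := MvPolynomial.rename Sum.inl
  let q : Fin n → (MvPolynomial ((ι × Fin n) ⊕ Fin m) R) := fun j =>
    ρ (Q j) - ∑ l, MvPolynomial.X (Sum.inr l) * algebraMap R (MvPolynomial ((ι × Fin n) ⊕ Fin m) R) (k l j)
  let J : Ideal (MvPolynomial ((ι × Fin n) ⊕ Fin m) R) := Ideal.span (Set.range q)
  have hJ : J.FG := Submodule.fg_span (Set.finite_range _)
  let ω : (MvPolynomial (ι × Fin n) R) →ₐ[R] (MvPolynomial ((ι × Fin n) ⊕ Fin m) R) ⧸ J := (Ideal.Quotient.mkₐ R J).comp ρ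
  have hω : ∀ j, ω (Q j) =
      ∑ l, Ideal.Quotient.mk J (MvPolynomial.X (Sum.inr l)) * algebraMap R _ (k l j) := by
    intro j
    have : Ideal.Quotient.mk J (q j) = 0 :=
      Ideal.Quotient.eq_zero_iff_mem.mpr (Ideal.subset_span ⟨j, rfl⟩)
    rw [map_sub, sub_eq_zero, map_sum] at this
    refine Eq.trans this (Finset.sum_congr rfl fun l _ => ?_)
    rw [map_mul]; rfl
  refine ⟨(MvPolynomial ((ι × Fin n) ⊕ Fin m) R) ⧸ J, inferInstance, inferInstance, Algebra.TensorProduct.map ω (AlgHom.id R B) eP,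
    Algebra.FinitePresentation.quotient hJ, ?_, ?_, ?_⟩
  · have h0 : Algebra.TensorProduct.map ω (AlgHom.id R B) (eP * eP - eP) = 0 := by
      have hkb : ∀ l, ∑ j, k l j • b j = 0 := by
        intro l
        rw [hb, (Submodule.Quotient.mk_eq_zero K).mpr (hk ▸ Submodule.subset_span ⟨l, rfl⟩),
          map_zero]
      rw [hQ, map_sum]
      simp only [Algebra.TensorProduct.map_tmul, AlgHom.id_apply, hω, TensorProduct.sum_tmul]
      rw [Finset.sum_comm]
      refine Finset.sum_eq_zero fun l _ => ?_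
      have : ∀ j, (Ideal.Quotient.mk J (MvPolynomial.X (Sum.inr l)) *
          algebraMap R ((MvPolynomial ((ι × Fin n) ⊕ Fin m) R) ⧸ J) (k l j)) ⊗ₜ[R] b j =
          Ideal.Quotient.mk J (MvPolynomial.X (Sum.inr l)) ⊗ₜ[R] (k l j • b j) := fun j => by
        rw [← TensorProduct.smul_tmul]; congr 1; rw [mul_comm]; exact (Algebra.smul_def _ _).symm
      rw [Finset.sum_congr rfl (fun j _ => this j), ← TensorProduct.tmul_sum, hkb,
        TensorProduct.tmul_zero]
    rwa [map_sub, map_mul, sub_eq_zero] at h0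
  · simp only [eP, map_sum, Algebra.TensorProduct.map_tmul, AlgHom.id_apply]
    refine Ideal.sum_mem _ fun i _ => Ideal.sum_mem _ fun j _ => ?_
    have : ω (MvPolynomial.X (i, j)) ⊗ₜ[R] (t i * b j) =
        (ω (MvPolynomial.X (i, j)) ⊗ₜ[R] b j) * ((1 : (MvPolynomial ((ι × Fin n) ⊕ Fin m) R) ⧸ J) ⊗ₜ[R] t i) := by
      rw [Algebra.TensorProduct.tmul_mul_tmul, mul_one, mul_comm (b j)]
    rw [this]
    exact Ideal.mul_mem_left _ _ (Ideal.subset_span ⟨i, rfl⟩)
  · intro R' _ _ e he heT
    obtain ⟨γ, hγ⟩ := (Submodule.mem_span_range_iff_exists_fun _).mp heT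
    choose β hβ using fun i => hspan (γ i)
    let g₁ : (MvPolynomial (ι × Fin n) R) →ₐ[R] R' := MvPolynomial.aeval fun p => β p.1 p.2
    have he₁ : Algebra.TensorProduct.map g₁ (AlgHom.id R B) eP = e := by
      rw [← hγ]
      simp only [eP, map_sum, Algebra.TensorProduct.map_tmul, AlgHom.id_apply, g₁,
        MvPolynomial.aeval_X, smul_eq_mul]
      refine Finset.sum_congr rfl fun i _ => ?_
      rw [hβ i, Finset.sum_mul]
      refine Finset.sum_congr rfl fun j _ => ?_
      rw [Algebra.TensorProduct.tmul_mul_tmul, mul_one, mul_comm (b j)]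
    obtain ⟨y, hy⟩ := hrel (fun j => g₁ (Q j)) (by
      have := congrArg (Algebra.TensorProduct.map g₁ (AlgHom.id R B)) hQ
      rw [map_sub, map_mul, he₁, he.eq, sub_self, map_sum] at this
      simpa using this.symm)
    let g₀ : (MvPolynomial ((ι × Fin n) ⊕ Fin m) R) →ₐ[R] R' := MvPolynomial.aeval (Sum.elim (fun p => β p.1 p.2) y)
    have hg₀ : g₀.comp ρ = g₁ := by
      refine MvPolynomial.algHom_ext fun p => ?_
      show g₀ (MvPolynomial.rename Sum.inl (MvPolynomial.X p)) = g₁ (MvPolynomial.X p)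
      rw [MvPolynomial.rename_X]
      simp [g₀, g₁]
    refine ⟨Ideal.Quotient.liftₐ J g₀ (fun x hx => ?_), ?_⟩
    · refine (Ideal.span_le (I := RingHom.ker g₀)).mpr ?_ hx
      rintro _ ⟨j, rfl⟩
      have h1 : g₀ (ρ (Q j)) = g₁ (Q j) := DFunLike.congr_fun hg₀ _
      show g₀ (q j) = 0
      rw [map_sub, map_sum, h1, hy j, sub_eq_zero]
      refine Finset.sum_congr rfl fun l _ => ?_
      rw [map_mul, AlgHom.commutes]
      simp [g₀]
    · rw [← he₁, ← AlgHom.comp_apply]
      refine DFunLike.congr_fun ?_ eP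
      refine Algebra.TensorProduct.ext ?_ (by ext x; simp)
      apply AlgHom.ext
      intro x
      simp only [AlgHom.comp_apply, Algebra.TensorProduct.includeLeft_apply,
        Algebra.TensorProduct.map_tmul, map_one, AlgHom.id_apply]
      congr 1
      exact DFunLike.congr_fun hg₀ x

end

/-- The universal idempotent cutting out a finite piece. -/
theorem exists_universal_finite_idempotent (R A : Type u) [CommRing R] [CommRing A] [Algebra R A]
    [Algebra.FinitePresentation R A] [Algebra.QuasiFinite R A] :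
    ∃ (Ru : Type u) (_ : CommRing Ru) (_ : Algebra R Ru) (eu : Ru ⊗[R] A),
      Algebra.FinitePresentation R Ru ∧ IsIdempotentElem eu ∧
      (LinearMap.range (LinearMap.mulLeft Ru eu)).FG ∧
      ∀ (R' : Type u) [CommRing R'] [Algebra R R'] (e : R' ⊗[R] A),
        IsIdempotentElem e → (LinearMap.range (LinearMap.mulLeft R' e)).FG →
          ∃ g : Ru →ₐ[R] R', Algebra.TensorProduct.map g (AlgHom.id R A) eu = e := by
  obtain ⟨B, _, _, ψ, m, t, hfin, hfp, hψ⟩ := exists_compactification (R := R) (A := A)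
  obtain ⟨Ru, _, _, e₀, hRu, he₀, heT, huniv⟩ := exists_universal_idempotent (R := R) t
  refine ⟨Ru, inferInstance, inferInstance, extend Ru ψ e₀, hRu, he₀.map _,
    fg_of_idempotent hψ Ru he₀ heT, ?_⟩
  intro R' _ _ e he hefg
  obtain ⟨e₁, he₁, he₁T, rfl⟩ := exists_lift_idempotent hψ R' he hefg
  obtain ⟨g, rfl⟩ := huniv R' e₁ he₁ he₁T
  refine ⟨g, ?_⟩
  clear he hefg he₁ he₁T heT he₀ huniv
  induction e₀ using TensorProduct.induction_on with
  | zero => simp
  | tmul r x => simp [extend]
  | add x y hx hy => simp only [map_add, hx, hy]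

end FlatFibres.QfCompact
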