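import Groth.Agent.FlatFibres.QfIdempotent

/-!
Scheme form: finite opens of base changes of an affine quasi-finite morphism of finite
presentation have a universal family over an affine scheme of finite presentation.
-/

set_option autoImplicit false

universe u

open AlgebraicGeometry CategoryTheory Limits
open scoped TensorProduct

namespace FlatFibres.QfCompact

noncomputable section

local instance : MorphismProperty.RespectsIso (@IsFinite : MorphismProperty Scheme.{u}) :=
  MorphismProperty.IsStableUnderBaseChange.respectsIso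

variable {R A R' : Type u} [CommRing R] [CommRing A] [CommRing R'] [Algebra R A] [Algebra R R']

lemma isPullback_coord {X Y Y' : Scheme.{u}} {f : X ⟶ Y} {b : Y' ⟶ Y}
    (eX : Spec (.of A) ≅ X) (eY : Spec (.of R) ≅ Y) (eY' : Spec (.of R') ≅ Y')
    (hf : Spec.map (CommRingCat.ofHom (algebraMap R A)) ≫ eY.hom = eX.hom ≫ f)
    (hb : Spec.map (CommRingCat.ofHom (algebraMap R R')) ≫ eY.hom = eY'.hom ≫ b) :
    IsPullback
      (Spec.map (CommRingCat.ofHom (Algebra.TensorProduct.includeRight :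
        A →ₐ[R] R' ⊗[R] A).toRingHom) ≫ eX.hom)
      (Spec.map (CommRingCat.ofHom (algebraMap R' (R' ⊗[R] A))) ≫ eY'.hom) f b :=
  (isPullback_SpecMap_of_isPushout _ _ _ _
      (CommRingCat.isPushout_tensorProduct R R' A)).flip.of_iso
    (Iso.refl _) eX eY' eY (by simp) (by simp) hf hb

lemma finite_away_iff {S : Type u} [CommRing S] [Algebra R S] {e : S} (he : IsIdempotentElem e) :
    Module.Finite R (Localization.Away e) ↔ (LinearMap.range (LinearMap.mulLeft R e)).FG := by
  classical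
  set L : S →ₗ[R] Localization.Away e :=
    (IsScalarTower.toAlgHom R S (Localization.Away e)).toLinearMap
  have hu : algebraMap S (Localization.Away e) e = 1 := by
    have h1 := IsLocalization.Away.algebraMap_isUnit (S := Localization.Away e) e
    refine h1.mul_left_cancel ?_
    rw [mul_one, ← map_mul, he.eq]
  have hsurj : Function.Surjective L := by
    intro y
    obtain ⟨⟨a, ⟨_, n, rfl⟩⟩, ha⟩ := IsLocalization.surj (Submonoid.powers e) y
    refine ⟨a, ?_⟩
    show algebraMap S _ a = y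
    rw [← ha]
    simp [hu]
  constructor
  · intro h
    obtain ⟨G, hG⟩ := h.fg_top
    choose g hg using fun y : G => hsurj y.1
    refine ⟨Finset.univ.image fun y => e * g y, le_antisymm ?_ ?_⟩
    · rw [Submodule.span_le]
      intro z hz
      obtain ⟨y, -, rfl⟩ := Finset.mem_image.mp hz
      exact ⟨g y, rfl⟩
    · rintro _ ⟨a, rfl⟩
      have htop : L a ∈ (Submodule.span R (Set.range g)).map L := by
        have : (Submodule.span R (Set.range g)).map L = ⊤ := by
          rw [Submodule.map_span, ← hG, ← Set.range_comp]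
          congr 1
          ext y
          exact ⟨by rintro ⟨z, rfl⟩; simp [hg], fun hy => ⟨⟨y, hy⟩, hg _⟩⟩
        rw [this]; exact Submodule.mem_top
      obtain ⟨s, hs, hsa⟩ := htop
      have h0 : e * s = e * a := by
        obtain ⟨⟨_, n, rfl⟩, hn⟩ := (IsLocalization.eq_iff_exists (Submonoid.powers e)
          (Localization.Away e)).mp hsa
        have hn' : e ^ n * s = e ^ n * a := hn
        calc e * s = e * (e ^ n * s) := by
              rw [← mul_assoc, ← pow_succ', he.pow_succ_eq]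
          _ = e * (e ^ n * a) := by rw [hn']
          _ = e * a := by rw [← mul_assoc, ← pow_succ', he.pow_succ_eq]
      show e * a ∈ _
      rw [← h0]
      have : (LinearMap.mulLeft R e) s ∈ (Submodule.span R (Set.range g)).map
          (LinearMap.mulLeft R e) := ⟨s, hs, rfl⟩
      rw [Submodule.map_span] at this
      refine Submodule.span_mono ?_ this
      rintro _ ⟨_, ⟨y, rfl⟩, rfl⟩
      simpa using ⟨y.1, y.2, rfl⟩
  · intro h
    refine ⟨?_⟩
    have : (⊤ : Submodule R (Localization.Away e)) =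
        (LinearMap.range (LinearMap.mulLeft R e)).map L := by
      symm; rw [eq_top_iff]
      intro y _
      obtain ⟨a, rfl⟩ := hsurj y
      refine ⟨e * a, ⟨a, rfl⟩, ?_⟩
      show algebraMap S _ (e * a) = algebraMap S _ a
      rw [map_mul, hu, one_mul]
    rw [this]
    exact h.map L

lemma isFinite_basicOpen_iff {S : Type u} [CommRing S] [Algebra R S] {e : S}
    (he : IsIdempotentElem e) :
    IsFinite (Scheme.Opens.ι (X := Spec (.of S)) (PrimeSpectrum.basicOpen e) ≫
      Spec.map (CommRingCat.ofHom (algebraMap R S))) ↔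
      (LinearMap.range (LinearMap.mulLeft R e)).FG := by
  rw [← finite_away_iff he,
    ← show _ = Scheme.Opens.ι (X := Spec (.of S)) (PrimeSpectrum.basicOpen e) from
      basicOpenIsoSpecAway_hom_SpecMap (R := CommRingCat.of S) e,
    Category.assoc, MorphismProperty.cancel_left_of_respectsIso @IsFinite, ← Spec.map_comp,
    ← CommRingCat.ofHom_comp, IsFinite.SpecMap_iff]
  refine RingHom.finite_algebraMap (A := R) (B := Localization.Away e)

lemma isFinite_preimage_iff {P Q T : Scheme.{u}} (k : P ≅ Q) (g : Q ⟶ T) (U : Q.Opens) :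
    IsFinite ((k.hom ⁻¹ᵁ U).ι ≫ k.hom ≫ g) ↔ IsFinite (U.ι ≫ g) := by
  rw [← Category.assoc, ← morphismRestrict_ι, Category.assoc,
    MorphismProperty.cancel_left_of_respectsIso @IsFinite]

lemma preimage_injective {P Q : Scheme.{u}} (k : P ≅ Q) {U V : Q.Opens}
    (h : k.hom ⁻¹ᵁ U = k.hom ⁻¹ᵁ V) : U = V := by
  ext x
  obtain ⟨p, rfl⟩ := k.hom.surjective x
  exact Set.ext_iff.mp (congrArg SetLike.coe h) p

lemma preimage_comm {P P' Q Q' : Scheme.{u}} (k : P ≅ Q) (k' : P' ≅ Q') (m : Q ⟶ Q')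
    {G : P ⟶ P'} (h : k.hom ≫ m = G ≫ k'.hom) (U : P'.Opens) :
    k.hom ⁻¹ᵁ (m ⁻¹ᵁ k'.inv ⁻¹ᵁ U) = G ⁻¹ᵁ U := by
  rw [← Scheme.Hom.comp_preimage, ← Scheme.Hom.comp_preimage, h, Category.assoc, k'.hom_inv_id,
    Category.comp_id]

theorem exists_universal {X Y : Scheme.{u}} (f : X ⟶ Y) [IsAffine X] [IsAffine Y]
    [LocallyQuasiFinite f] [LocallyOfFinitePresentation f] :
    ∃ (Yu : Scheme.{u}) (a : Yu ⟶ Y) (Uu : (pullback f a).Opens),
      LocallyOfFinitePresentation a ∧ QuasiCompact a ∧ QuasiSeparated a ∧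
      IsFinite (Uu.ι ≫ pullback.snd f a) ∧
      ∀ (Y' : Scheme.{u}) (b : Y' ⟶ Y) (U' : (pullback f b).Opens), IsAffine Y' →
        IsFinite (U'.ι ≫ pullback.snd f b) →
        ∃ (c : Y' ⟶ Yu) (hc : c ≫ a = b),
          (pullback.map f b f a (𝟙 X) c (𝟙 Y) ((Category.comp_id f).trans
            (Category.id_comp f).symm) ((Category.comp_id b).trans hc.symm)) ⁻¹ᵁ Uu = U' := by
  let R := Γ(Y, ⊤)
  let A := Γ(X, ⊤)
  algebraize [f.appTop.hom]
  have : Algebra.FinitePresentation Γ(Y, ⊤) Γ(X, ⊤) :=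
    HasRingHomProperty.appTop (P := @LocallyOfFinitePresentation) f inferInstance
  have : Algebra.QuasiFinite Γ(Y, ⊤) Γ(X, ⊤) :=
    HasRingHomProperty.appTop (P := @LocallyQuasiFinite) f inferInstance
  obtain ⟨Ru, _, _, eu, hRu, heu, heufg, huniv⟩ :=
    exists_universal_finite_idempotent Γ(Y, ⊤) Γ(X, ⊤)
  let a : Spec (CommRingCat.of Ru) ⟶ Y :=
    Spec.map (CommRingCat.ofHom (algebraMap Γ(Y, ⊤) Ru)) ≫ Y.isoSpec.inv
  have hf : Spec.map (CommRingCat.ofHom (algebraMap Γ(Y, ⊤) Γ(X, ⊤))) ≫ Y.isoSpec.inv =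
      X.isoSpec.inv ≫ f := (Scheme.isoSpec_inv_naturality f)
  have hu := isPullback_coord (f := f) (b := a) X.isoSpec.symm Y.isoSpec.symm (Iso.refl _) hf
    (by simp [a])
  let ku := hu.isoPullback
  have ha : LocallyOfFinitePresentation a := by
    have : LocallyOfFinitePresentation (Spec.map (CommRingCat.ofHom (algebraMap Γ(Y, ⊤) Ru))) :=
      HasRingHomProperty.Spec_iff.mpr (RingHom.finitePresentation_algebraMap.mpr hRu)
    infer_instance
  refine ⟨_, a, ku.inv ⁻¹ᵁ PrimeSpectrum.basicOpen eu, ha, inferInstance, inferInstance, ?_, ?_⟩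
  · have h1 := (isFinite_basicOpen_iff heu).mpr heufg
    have h2 : ku.inv ≫ Spec.map (CommRingCat.ofHom (algebraMap Ru (Ru ⊗[Γ(Y, ⊤)] Γ(X, ⊤)))) =
        pullback.snd f a := by
      rw [← hu.isoPullback_inv_snd]
      simp [ku]
    rw [← h2]
    exact (isFinite_preimage_iff ku.symm _ _).mpr h1
  intro Y' b U' _ hU'
  algebraize [b.appTop.hom]
  have hb : Spec.map (CommRingCat.ofHom (algebraMap Γ(Y, ⊤) Γ(Y', ⊤))) ≫ Y.isoSpec.inv =
      Y'.isoSpec.inv ≫ b := (Scheme.isoSpec_inv_naturality b)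
  have h' := isPullback_coord (f := f) (b := b) X.isoSpec.symm Y.isoSpec.symm Y'.isoSpec.symm hf hb
  let k := h'.isoPullback
  set W := k.hom ⁻¹ᵁ U'
  have : IsFinite U'.ι := IsFinite.of_comp U'.ι (pullback.snd f b)
  have hclU : IsClosed (U' : Set ↥(pullback f b)) := by
    rw [← Scheme.Opens.range_ι]; exact U'.ι.isClosedMap.isClosed_range
  have hW : IsClopen W.carrier := ⟨hclU.preimage k.hom.continuous, W.2⟩
  obtain ⟨e, he, heW⟩ := (PrimeSpectrum.isClopen_iff
    (R := Γ(Y', ⊤) ⊗[Γ(Y, ⊤)] Γ(X, ⊤))).mp hW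
  have hWe : W = PrimeSpectrum.basicOpen e := SetLike.coe_injective heW
  have hfin : IsFinite (W.ι ≫ Spec.map (CommRingCat.ofHom
      (algebraMap Γ(Y', ⊤) (Γ(Y', ⊤) ⊗[Γ(Y, ⊤)] Γ(X, ⊤))))) := by
    rw [← MorphismProperty.cancel_right_of_respectsIso @IsFinite _ Y'.isoSpec.inv, Category.assoc]
    have h2 : k.hom ≫ pullback.snd f b = Spec.map (CommRingCat.ofHom
        (algebraMap Γ(Y', ⊤) (Γ(Y', ⊤) ⊗[Γ(Y, ⊤)] Γ(X, ⊤)))) ≫ Y'.isoSpec.inv :=
      h'.isoPullback_hom_snd
    exact h2 ▸ (isFinite_preimage_iff k (pullback.snd f b) U').mpr hU'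
  rw [hWe] at hfin
  obtain ⟨g, hg⟩ := huniv Γ(Y', ⊤) e he ((isFinite_basicOpen_iff he).mp hfin)
  let c : Y' ⟶ Spec (CommRingCat.of Ru) := Y'.isoSpec.hom ≫ Spec.map (CommRingCat.ofHom g.toRingHom)
  have hc : c ≫ a = b := by
    simp only [c, a, Category.assoc, ← Spec.map_comp_assoc, ← CommRingCat.ofHom_comp]
    rw [show g.toRingHom.comp (algebraMap Γ(Y, ⊤) Ru) = algebraMap Γ(Y, ⊤) Γ(Y', ⊤) from
      g.comp_algebraMap]
    rw [hb, Iso.hom_inv_id_assoc]
  refine ⟨c, hc, ?_⟩
  set m := pullback.map f b f a (𝟙 X) c (𝟙 Y) ((Category.comp_id f).trans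
    (Category.id_comp f).symm) ((Category.comp_id b).trans hc.symm)
  set G := (Algebra.TensorProduct.map g (AlgHom.id Γ(Y, ⊤) Γ(X, ⊤))).toRingHom
  have hsq : k.hom ≫ m = Spec.map (CommRingCat.ofHom G) ≫ ku.hom := by
    apply pullback.hom_ext
    · rw [Category.assoc, Category.assoc, pullback.lift_fst, Category.comp_id,
        h'.isoPullback_hom_fst, hu.isoPullback_hom_fst, ← Spec.map_comp_assoc]
      congr 2
      ext x
      simp [G]
    · rw [Category.assoc, Category.assoc, pullback.lift_snd, ← Category.assoc,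
        h'.isoPullback_hom_snd, hu.isoPullback_hom_snd]
      simp only [c, Category.assoc, Iso.inv_hom_id_assoc, Iso.refl_hom, Category.comp_id,
        Iso.symm_hom]
      rw [← Spec.map_comp, ← Spec.map_comp]
      congr 1
  refine preimage_injective k ?_
  show k.hom ⁻¹ᵁ (m ⁻¹ᵁ ku.inv ⁻¹ᵁ PrimeSpectrum.basicOpen eu) = W
  rw [hWe, ← hg]
  exact preimage_comm k ku m hsq _

end

end FlatFibres.QfCompact
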