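import Groth.Agent.FlatFibres.SpecializationCut
import Groth.Agent.FibDim.Open
import Groth.Agent.DimFormula.QuasiSection

/-!
# Points which are algebraic over their image, in affine charts
-/

set_option autoImplicit false
universe u

open AlgebraicGeometry CategoryTheory

namespace Groth.Agent.FlatFibres

open FibDim in
theorem algMod_iff_not_indepMod {A B : Type u} [CommRing A] [CommRing B] [Algebra A B] (P : Ideal B) :
    AlgMod A P ↔ ¬ ∃ t : Fin 1 → B, IndepMod (A := A) t P := by
  have hψ : ∀ (b : B) (G : MvPolynomial (Fin 1) A),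
      Polynomial.aeval b (MvPolynomial.aeval (fun _ => (Polynomial.X : Polynomial A)) G) =
        MvPolynomial.aeval (fun _ => b) G := fun b G => by
    show ((Polynomial.aeval b).comp (MvPolynomial.aeval fun _ => (Polynomial.X : Polynomial A))) G = _
    congr 1
    exact MvPolynomial.algHom_ext fun i => by simp
  refine ⟨?_, fun h b => ?_⟩
  · rintro h ⟨t, ht⟩
    obtain ⟨G, ⟨i, hi⟩, hGb⟩ := h (t 0)
    have h1 := ht (Polynomial.aeval (MvPolynomial.X 0) G) (by
      rw [← Polynomial.aeval_algHom_apply, MvPolynomial.aeval_X]; exact hGb)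
    have h2 := Ideal.mem_map_of_mem (MvPolynomial.aeval (fun _ : Fin 1 => (Polynomial.X : Polynomial A))).toRingHom h1
    rw [Ideal.map_map, show ((MvPolynomial.aeval (fun _ : Fin 1 => (Polynomial.X : Polynomial A))).toRingHom.comp
      MvPolynomial.C) = Polynomial.C from RingHom.ext fun a => by simp, AlgHom.toRingHom_eq_coe, RingHom.coe_coe,
      ← Polynomial.aeval_algHom_apply, MvPolynomial.aeval_X, Polynomial.aeval_X_left_apply] at h2
    exact hi (Ideal.mem_map_C_iff.1 h2 i)
  · by_contra hb
    refine h ⟨fun _ => b, fun G hG => ?_⟩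
    by_contra hGp
    apply hb
    refine ⟨MvPolynomial.aeval (fun _ => (Polynomial.X : Polynomial A)) G, ?_, by rw [hψ]; exact hG⟩
    by_contra! hall
    apply hGp
    have hG' : G = Polynomial.aeval (MvPolynomial.X (0 : Fin 1))
        (MvPolynomial.aeval (fun _ => (Polynomial.X : Polynomial A)) G) := by
      show G = ((Polynomial.aeval (MvPolynomial.X (0 : Fin 1))).comp
        (MvPolynomial.aeval fun _ => (Polynomial.X : Polynomial A))) G
      conv_lhs => rw [← AlgHom.id_apply (R := A) G]
      congr 1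
      exact MvPolynomial.algHom_ext fun i => by simp [Fin.eq_zero i]
    rw [hG', Polynomial.aeval_eq_sum_range]
    refine Ideal.sum_mem _ fun k _ => ?_
    rw [MvPolynomial.smul_eq_C_mul]
    exact Ideal.mul_mem_right _ _ (Ideal.mem_map_of_mem _ (hall k))

/-- In an affine chart a point is algebraic over its image iff its relative degree is zero. -/
theorem rd_eq_zero_iff {X Y : Scheme.{u}} (f : X ⟶ Y) [LocallyOfFiniteType f] {V : Y.Opens} {U : X.Opens}
    (hV : IsAffineOpen V) (hU : IsAffineOpen U) (hUV : U ≤ f ⁻¹ᵁ V) (P : PrimeSpectrum Γ(X, U)) :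
    FibDim.rd f (hU.fromSpec P) = 0 ↔
      letI : Algebra Γ(Y, V) Γ(X, U) := (f.appLE V U hUV).hom.toAlgebra
      AlgMod Γ(Y, V) P.asIdeal := by
  rw [← Nat.lt_one_iff, ← not_le, FibDim.le_rd_iff f hV hU hUV P 1]
  letI : Algebra Γ(Y, V) Γ(X, U) := (f.appLE V U hUV).hom.toAlgebra
  exact (algMod_iff_not_indepMod _).symm

/-- A point of relative degree zero is closed in its fibre. -/
theorem isClosed_fibre_of_rd_eq_zero {X Y : Scheme.{u}} (f : X ⟶ Y) [LocallyOfFiniteType f] {x : X}
    (h : FibDim.rd f x = 0) {y : Y} (hy : f x = y) : IsClosed (Subtype.val ⁻¹' {x} : Set ↥(f ⁻¹' {y})) := by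
  subst hy
  have hset : (Subtype.val ⁻¹' {x} : Set ↥(f ⁻¹' {f x})) = Subtype.val ⁻¹' closure {x} := by
    refine Set.Subset.antisymm (fun w hw => subset_closure hw) fun w hw => ?_
    by_contra hne
    exact absurd (FibDim.rd_lt f (specializes_iff_mem_closure.2 hw) (fun e => hne e.symm) w.2.symm) (by omega)
  rw [hset]
  exact isClosed_closure.preimage continuous_subtype_val

/-- A point closed in its fibre has relative degree zero. -/
theorem rd_eq_zero_of_isClosed_fibre {X Y : Scheme.{u}} (f : X ⟶ Y) [LocallyOfFiniteType f] {x : X}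
    (h : IsClosed (Subtype.val ⁻¹' {x} : Set ↥(f ⁻¹' {f x}))) : FibDim.rd f x = 0 := by
  refine Groth.Agent.DimFormula.rd_eq_zero_of_closed f fun x' hx' hsp => ?_
  let w : ↥(f ⁻¹' {f x}) := ⟨x', hx'⟩
  let w0 : ↥(f ⁻¹' {f x}) := ⟨x, rfl⟩
  have h1 : w0 ⤳ w := (subtype_specializes_iff w0 w).2 hsp
  exact h1.mem_closed h rfl

end Groth.Agent.FlatFibres
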