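import Groth.Agent.EGA41Lib.IntDim
import Mathlib

/-!
# Weak relative Noether normalisation
-/

set_option autoImplicit false
set_option linter.style.haveILetI false
universe u

namespace Groth.Agent.FlatFibres.RelNoether

open TensorProduct

section Field

variable {k : Type u} [CommRing k] [IsDomain k] {n : ℕ}

/-- The substitution `X₀ ↦ Y`, `X_{i+1} ↦ X_i + Y ^ (e ^ (i+1))`. -/
noncomputable def subX (k : Type u) [CommRing k] (n e : ℕ) : Fin (n + 1) → Polynomial (MvPolynomial (Fin n) k) :=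
  Fin.cases Polynomial.X fun i => Polynomial.C (MvPolynomial.X i) + Polynomial.X ^ (e ^ (i.1 + 1))

/-- The substitution map. -/
noncomputable def sub (k : Type u) [CommRing k] (n e : ℕ) :
    MvPolynomial (Fin (n + 1)) k →ₐ[k] Polynomial (MvPolynomial (Fin n) k) :=
  MvPolynomial.aeval (subX k n e)

theorem sub_monomial (e : ℕ) (he : 0 < e) (v : Fin (n + 1) →₀ ℕ) (a : k) (ha : a ≠ 0) :
    (sub k n e (MvPolynomial.monomial v a)).natDegree = ∑ i, e ^ i.1 * v i ∧
      (sub k n e (MvPolynomial.monomial v a)).leadingCoeff = MvPolynomial.C a := by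
  have hX : ∀ i : Fin (n + 1), (subX k n e i).Monic ∧ (subX k n e i).natDegree = e ^ i.1 := by
    intro i
    cases i using Fin.cases with
    | zero => simp [subX]
    | succ i =>
      simp only [subX, Fin.cases_succ, Fin.val_succ]
      rw [add_comm]
      exact ⟨Polynomial.monic_X_pow_add_C _ (pow_ne_zero _ he.ne'), Polynomial.natDegree_X_pow_add_C⟩
  rw [sub, MvPolynomial.aeval_monomial, Finsupp.prod_fintype _ _ (fun i => pow_zero _)]
  have hm : Polynomial.Monic (∏ i : Fin (n + 1), subX k n e i ^ v i) :=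
    Polynomial.monic_prod_of_monic _ _ fun i _ => (hX i).1.pow _
  rw [Polynomial.algebraMap_apply, MvPolynomial.algebraMap_eq]
  refine ⟨?_, ?_⟩
  · rw [Polynomial.natDegree_C_mul_of_mul_ne_zero (by rw [hm.leadingCoeff, mul_one]; simpa using ha),
      Polynomial.natDegree_prod_of_monic _ _ fun i _ => (hX i).1.pow _]
    refine Finset.sum_congr rfl fun i _ => ?_
    rw [(hX i).1.natDegree_pow, (hX i).2, mul_comm]
  · rw [Polynomial.leadingCoeff_mul_monic hm, Polynomial.leadingCoeff_C]

theorem weight_injective {e : ℕ} (v w : Fin (n + 1) →₀ ℕ) (he : 1 < e) (hv : ∀ i, v i < e) (hw : ∀ i, w i < e)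
    (h : ∑ i, e ^ i.1 * v i = ∑ i, e ^ i.1 * w i) : v = w := by
  refine Finsupp.ext <| congrFun <| List.ofFn_inj.mp ?_
  refine Nat.ofDigits_inj_of_len_eq he (by simp) ?_ ?_ ?_
  · intro l hl; obtain ⟨i, rfl⟩ := List.mem_ofFn.mp hl; exact hv i
  · intro l hl; obtain ⟨i, rfl⟩ := List.mem_ofFn.mp hl; exact hw i
  · simpa only [Nat.ofDigits_eq_sum_mapIdx, List.mapIdx_eq_ofFn, List.get_ofFn, List.length_ofFn,
      Fin.val_cast, mul_comm, List.sum_ofFn, List.getElem_ofFn] using! h

/-- After the substitution the leading coefficient is a nonzero constant. -/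
theorem leadingCoeff_sub (e : ℕ) (he : 1 < e) (f : MvPolynomial (Fin (n + 1)) k) (hf : f ≠ 0)
    (hdeg : f.totalDegree < e) :
    ∃ a : k, a ≠ 0 ∧ (sub k n e f).leadingCoeff = MvPolynomial.C a := by
  classical
  let d := fun v : Fin (n + 1) →₀ ℕ => ∑ i, e ^ i.1 * v i
  let h := fun v => sub k n e (MvPolynomial.monomial v (f.coeff v))
  obtain ⟨v, hv, hmax⟩ := Finset.exists_max_image f.support d (MvPolynomial.support_nonempty.mpr hf)
  have hc : ∀ w ∈ f.support, f.coeff w ≠ 0 := fun w hw => MvPolynomial.mem_support_iff.mp hw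
  have hlt : ∀ w ∈ f.support, ∀ i, w i < e := fun w hw i =>
    lt_of_le_of_lt ((MvPolynomial.monomial_le_degreeOf i hw).trans (MvPolynomial.degreeOf_le_totalDegree f i)) hdeg
  have hne : h v ≠ 0 := fun h0 => hc v hv (by
    have := (sub_monomial e (by omega) v _ (hc v hv)).2
    rw [show sub k n e (MvPolynomial.monomial v (f.coeff v)) = 0 from h0, Polynomial.leadingCoeff_zero] at this
    exact (MvPolynomial.C_eq_zero).mp this.symm)
  refine ⟨f.coeff v, hc v hv, ?_⟩
  conv_lhs => rw [f.as_sum, map_sum, ← Finset.add_sum_erase _ _ hv, add_comm]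
  rw [Polynomial.leadingCoeff_add_of_degree_lt]
  · exact (sub_monomial e (by omega) v _ (hc v hv)).2
  refine (Polynomial.degree_sum_le _ _).trans_lt ((Finset.sup_lt_iff (Ne.bot_lt fun h0 =>
    hne (Polynomial.degree_eq_bot.mp h0))).mpr fun w hw => ?_)
  obtain ⟨hwv, hw⟩ := Finset.mem_erase.mp hw
  refine Polynomial.degree_lt_degree ?_
  rw [(sub_monomial e (by omega) w _ (hc w hw)).1, (sub_monomial e (by omega) v _ (hc v hv)).1]
  exact lt_of_le_of_ne (hmax w hw) fun hd => hwv (weight_injective w v he (hlt w hw) (hlt v hv) hd)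

end Field

section Fibres

variable {R S : Type u} [CommRing R] [CommRing S] [Algebra R S]

/-- The map of fibres given by a family of elements. -/
noncomputable def fibMap {m : ℕ} (t : Fin m → S) (p : Ideal R) [p.IsPrime] :
    MvPolynomial (Fin m) p.ResidueField →ₐ[p.ResidueField] p.Fiber S :=
  MvPolynomial.aeval fun i => (1 : p.ResidueField) ⊗ₜ[R] t i

theorem fibMap_map {m : ℕ} (t : Fin m → S) (p : Ideal R) [p.IsPrime] (F : MvPolynomial (Fin m) R) :
    fibMap t p (MvPolynomial.map (algebraMap R p.ResidueField) F) =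
      (1 : p.ResidueField) ⊗ₜ[R] MvPolynomial.aeval t F := by
  rw [fibMap, MvPolynomial.aeval_map_algebraMap, ← Algebra.TensorProduct.includeRight_apply,
    ← AlgHom.comp_apply, MvPolynomial.comp_aeval]
  rfl

theorem exists_smul_eq_map {m : ℕ} (p : Ideal R) [p.IsPrime] (G : MvPolynomial (Fin m) p.ResidueField) :
    ∃ r ∉ p, ∃ F : MvPolynomial (Fin m) R,
      MvPolynomial.map (algebraMap R p.ResidueField) F = algebraMap R p.ResidueField r • G := by
  induction G using MvPolynomial.induction_on' with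
  | monomial v a =>
    obtain ⟨x, y, hy, rfl⟩ := IsFractionRing.div_surjective (A := R ⧸ p) a
    obtain ⟨x, rfl⟩ := Ideal.Quotient.mk_surjective x
    obtain ⟨y, rfl⟩ := Ideal.Quotient.mk_surjective y
    rw [mem_nonZeroDivisors_iff_ne_zero, Ne, Ideal.Quotient.eq_zero_iff_mem] at hy
    refine ⟨y, hy, MvPolynomial.monomial v x, ?_⟩
    rw [MvPolynomial.map_monomial, MvPolynomial.smul_monomial, Ideal.algebraMap_quotient_residueField_mk,
      Ideal.algebraMap_quotient_residueField_mk, smul_eq_mul,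
      mul_div_cancel₀ _ (fun h => hy (Ideal.algebraMap_residueField_eq_zero.mp h))]
  | add G G' hG hG' =>
    obtain ⟨r, hr, F, hF⟩ := hG
    obtain ⟨r', hr', F', hF'⟩ := hG'
    refine ⟨r * r', fun h => (‹p.IsPrime›.mem_or_mem h).elim hr hr', r' • F + r • F', ?_⟩
    rw [MvPolynomial.smul_eq_C_mul, MvPolynomial.smul_eq_C_mul, map_add, map_mul, map_mul, hF, hF',
      MvPolynomial.map_C, MvPolynomial.map_C, ← MvPolynomial.smul_eq_C_mul, ← MvPolynomial.smul_eq_C_mul,
      smul_smul, smul_smul, smul_add, map_mul]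
    congr 2; ring

/-- An element vanishing in a fibre satisfies a witnessing equation. -/
theorem exists_pow_mem_of_fibre_zero (p : Ideal R) [p.IsPrime] (s : S) (h : (1 : p.ResidueField) ⊗ₜ[R] s = 0) :
    ∃ r ∉ p, ∃ k : ℕ, algebraMap R S r * s ^ k ∈ p.map (algebraMap R S) := by
  by_contra! hne
  let T : Submonoid S := (p.primeCompl.map (algebraMap R S)) ⊔ Submonoid.powers s
  have hd : Disjoint ((p.map (algebraMap R S) : Ideal S) : Set S) (T : Set S) := by
    rw [Set.disjoint_left]
    intro z hz hzT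
    obtain ⟨_, ⟨r, hr, rfl⟩, _, ⟨k, rfl⟩, rfl⟩ := Submonoid.mem_sup.mp hzT
    exact hne r hr k hz
  obtain ⟨Q, hQ, hle, hdQ⟩ := Ideal.exists_le_prime_disjoint _ T hd
  let q : PrimeSpectrum S := ⟨Q, hQ⟩
  have hq : q ∈ PrimeSpectrum.comap (algebraMap R S) ⁻¹' {(⟨p, inferInstance⟩ : PrimeSpectrum R)} := by
    refine PrimeSpectrum.ext (le_antisymm (fun r hr => ?_) (Ideal.map_le_iff_le_comap.mp hle))
    by_contra hrp
    exact Set.disjoint_left.mp hdQ hr ((le_sup_left : _ ≤ T) ⟨r, hrp, rfl⟩)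
  let e := PrimeSpectrum.preimageHomeomorphFiber R S ⟨p, inferInstance⟩
  have hs : s ∈ ((e.symm (e ⟨q, hq⟩)).1).asIdeal := by
    show (1 : p.ResidueField) ⊗ₜ[R] s ∈ (e ⟨q, hq⟩).asIdeal
    rw [h]; exact zero_mem _
  rw [Homeomorph.symm_apply_apply] at hs
  exact Set.disjoint_left.mp hdQ hs ((le_sup_right : _ ≤ T) ⟨1, pow_one s⟩)

/-- Covers of the spectrum by sets of the form `D(c) ∩ V(A)` have finite subcovers. -/
theorem exists_finite_subcover {ι : Type*} (c : ι → R) (A : ι → Finset R)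
    (h : ∀ p : PrimeSpectrum R, ∃ i, c i ∉ p.asIdeal ∧ ∀ a ∈ A i, a ∈ p.asIdeal) :
    ∃ I : Finset ι, ∀ p : PrimeSpectrum R, ∃ i ∈ I, c i ∉ p.asIdeal ∧ ∀ a ∈ A i, a ∈ p.asIdeal := by
  classical
  by_contra! hI
  let F : Filter (PrimeSpectrum R) :=
    ⨅ I : Finset ι, Filter.principal {p | ∀ i ∈ I, c i ∉ p.asIdeal → ∃ a ∈ A i, a ∉ p.asIdeal}
  haveI : F.NeBot := by
    refine Filter.iInf_neBot_of_directed' (fun I J => ⟨I ∪ J, ?_, ?_⟩) fun I => ?_
    · exact Filter.principal_mono.mpr fun p hp i hi => hp i (Finset.mem_union_left _ hi)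
    · exact Filter.principal_mono.mpr fun p hp i hi => hp i (Finset.mem_union_right _ hi)
    · obtain ⟨p, hp⟩ := hI I
      exact Filter.principal_neBot_iff.mpr ⟨p, hp⟩
  let U := Ultrafilter.of F
  let q : Ideal R :=
    { carrier := {a | {p : PrimeSpectrum R | a ∈ p.asIdeal} ∈ U}
      add_mem' := fun ha hb => Filter.mem_of_superset (Filter.inter_mem ha hb) fun p hp => (add_mem hp.1 hp.2 : _ ∈ p.asIdeal)
      zero_mem' := Filter.mem_of_superset Filter.univ_mem fun p _ => zero_mem p.asIdeal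
      smul_mem' := fun r _ ha => Filter.mem_of_superset ha fun p hp => p.asIdeal.mul_mem_left r hp }
  have hq : q.IsPrime := by
    refine ⟨fun h => ?_, fun {a b} hab => ?_⟩
    · have h1 : (1 : R) ∈ q := h ▸ trivial
      obtain ⟨p, hp⟩ := U.nonempty_of_mem h1
      exact p.isPrime.ne_top ((Ideal.eq_top_iff_one _).mpr hp)
    · refine Ultrafilter.union_mem_iff.mp (Filter.mem_of_superset hab fun p hp => ?_)
      exact p.isPrime.mem_or_mem hp
  obtain ⟨i, hci, hAi⟩ := h ⟨q, hq⟩
  have hc : {p : PrimeSpectrum R | c i ∉ p.asIdeal} ∈ U := Ultrafilter.compl_mem_iff_notMem.mpr hci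
  have hA : {p : PrimeSpectrum R | ∀ a ∈ A i, a ∈ p.asIdeal} ∈ U :=
    (Filter.eventually_all_finset (A i)).mpr hAi
  have hbad : {p : PrimeSpectrum R | ∀ j ∈ ({i} : Finset ι), c j ∉ p.asIdeal → ∃ a ∈ A j, a ∉ p.asIdeal} ∈ U :=
    Ultrafilter.of_le F (Filter.mem_iInf_of_mem _ (Filter.mem_principal_self _))
  obtain ⟨p, hp⟩ := U.nonempty_of_mem (Filter.inter_mem (Filter.inter_mem hc hA) hbad)
  obtain ⟨a, ha, hap⟩ := hp.2 i (Finset.mem_singleton_self i) hp.1.1
  exact hap (hp.1.2 a ha)

variable [Algebra.FiniteType R S]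

/-- One step: if the fibres have dimension less than the number of elements, one element can be dropped. -/
theorem exists_step {m d : ℕ} (hd : ∀ p : PrimeSpectrum R, ringKrullDim (p.asIdeal.Fiber S) ≤ d) (hdm : d < m + 1)
    (t : Fin (m + 1) → S) (ht : ∀ p : PrimeSpectrum R, (fibMap t p.asIdeal).toRingHom.Finite) :
    ∃ t' : Fin m → S, ∀ p : PrimeSpectrum R, (fibMap t' p.asIdeal).toRingHom.Finite := by
  classical
  -- witnesses of algebraic dependence
  have hwit : ∀ p : PrimeSpectrum R, ∃ (w : MvPolynomial (Fin (m + 1)) R × ℕ × R × Finset R)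
      (v : Fin (m + 1) →₀ ℕ), (w.2.2.1 * w.1.coeff v) ∉ p.asIdeal ∧ (∀ a ∈ w.2.2.2, a ∈ p.asIdeal) ∧
        algebraMap R S w.2.2.1 * MvPolynomial.aeval t w.1 ^ w.2.1 ∈
          (Ideal.span (w.2.2.2 : Set R)).map (algebraMap R S) := fun p => by
    have hninj : ¬ Function.Injective (fibMap t p.asIdeal) := fun hinj => by
      letI := (fibMap t p.asIdeal).toRingHom.toAlgebra
      haveI : Module.Finite (MvPolynomial (Fin (m + 1)) p.asIdeal.ResidueField) (p.asIdeal.Fiber S) := ht p
      have h1 := EGA41Lib.ringKrullDim_eq_of_integral (A := MvPolynomial (Fin (m + 1)) p.asIdeal.ResidueField)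
        (B := p.asIdeal.Fiber S) hinj
      rw [MvPolynomial.ringKrullDim_of_isNoetherianRing, ringKrullDim_eq_zero_of_field, zero_add,
        Nat.card_fin] at h1
      have h2 := h1 ▸ hd p
      have h3 : ((m + 1 : ℕ) : WithBot ℕ∞) ≤ (d : WithBot ℕ∞) := h2
      exact absurd (by exact_mod_cast h3 : m + 1 ≤ d) (by omega)
    rw [injective_iff_map_eq_zero] at hninj
    push Not at hninj
    obtain ⟨G, hG, hG0⟩ := hninj
    obtain ⟨r₀, hr₀, F, hF⟩ := exists_smul_eq_map p.asIdeal G
    have hFne : MvPolynomial.map (algebraMap R p.asIdeal.ResidueField) F ≠ 0 := by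
      rw [hF]; exact smul_ne_zero (fun h => hr₀ (Ideal.algebraMap_residueField_eq_zero.mp h)) hG0
    obtain ⟨v, hv⟩ := MvPolynomial.ne_zero_iff.mp hFne
    rw [MvPolynomial.coeff_map, Ne, Ideal.algebraMap_residueField_eq_zero] at hv
    have h0 : (1 : p.asIdeal.ResidueField) ⊗ₜ[R] MvPolynomial.aeval t F = 0 := by
      rw [← fibMap_map t p.asIdeal F, hF, map_smul, hG, smul_zero]
    obtain ⟨r, hr, k, hk⟩ := exists_pow_mem_of_fibre_zero p.asIdeal _ h0
    obtain ⟨A, hA, hkA⟩ := Submodule.mem_span_finite_of_mem_span (show algebraMap R S r * MvPolynomial.aeval t F ^ k ∈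
      Submodule.span S (algebraMap R S '' (p.asIdeal : Set R)) from hk)
    choose g hg hgA using fun a : A => hA a.2
    refine ⟨(F, k, r, Finset.univ.image g), v, fun h => (p.isPrime.mem_or_mem h).elim hr hv, ?_, ?_⟩
    · intro a ha
      obtain ⟨b, -, rfl⟩ := Finset.mem_image.mp ha
      exact hg b
    · refine (Submodule.span_le.mpr ?_) hkA
      intro a ha
      rw [show a = algebraMap R S (g ⟨a, ha⟩) from (hgA ⟨a, ha⟩).symm]
      exact Ideal.mem_map_of_mem _ (Ideal.subset_span (by simp))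
  choose w v hwc hwA hweq using hwit
  obtain ⟨I, hI⟩ := exists_finite_subcover (fun p => (w p).2.2.1 * (w p).1.coeff (v p)) (fun p => (w p).2.2.2)
    fun p => ⟨p, hwc p, hwA p⟩
  let e : ℕ := 2 + I.sup fun p => (w p).1.totalDegree
  let t' : Fin m → S := fun i => t i.succ - t 0 ^ (e ^ (i.1 + 1))
  refine ⟨t', fun p => ?_⟩
  obtain ⟨i, hiI, hic, hiA⟩ := hI p
  rcases hw : w i with ⟨F, k, r, A⟩
  have hFi := hweq i
  simp only [hw] at hic hiA hFi
  let κ := p.asIdeal.ResidueField
  let Fb := MvPolynomial.map (algebraMap R κ) F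
  have hrp : r ∉ p.asIdeal := fun h => hic (p.asIdeal.mul_mem_right _ h)
  have hFb0 : Fb ≠ 0 := MvPolynomial.ne_zero_iff.mpr ⟨v i, by
    rw [MvPolynomial.coeff_map, Ne, Ideal.algebraMap_residueField_eq_zero]
    exact fun h => hic (p.asIdeal.mul_mem_left _ h)⟩
  have hker : fibMap t p.asIdeal Fb ^ k = 0 := by
    rw [fibMap_map t p.asIdeal F]
    have h1 : (Algebra.TensorProduct.includeRight : S →ₐ[R] p.asIdeal.Fiber S)
        (algebraMap R S r * MvPolynomial.aeval t F ^ k) = 0 := by
      have hle : (Ideal.span (A : Set R)).map (algebraMap R S) ≤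
          RingHom.ker (Algebra.TensorProduct.includeRight : S →ₐ[R] p.asIdeal.Fiber S).toRingHom := by
        rw [Ideal.map_le_iff_le_comap, Ideal.span_le]
        intro a ha
        show (1 : κ) ⊗ₜ[R] algebraMap R S a = 0
        rw [Algebra.algebraMap_eq_smul_one, ← smul_tmul, ← Algebra.algebraMap_eq_smul_one,
          Ideal.algebraMap_residueField_eq_zero.mpr (hiA a ha), zero_tmul]
      exact hle hFi
    rw [map_mul, map_pow, AlgHom.commutes, IsScalarTower.algebraMap_apply R κ] at h1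
    exact ((IsUnit.map _ (Ne.isUnit fun h => hrp (Ideal.algebraMap_residueField_eq_zero.mp h))).mul_right_eq_zero).mp h1
  obtain ⟨a, ha, hlead⟩ := leadingCoeff_sub e (by omega) Fb hFb0 (by
    have h1 : (w i).1.totalDegree ≤ I.sup fun p => (w p).1.totalDegree := Finset.le_sup (f := fun p => (w p).1.totalDegree) hiI
    have h2 : Fb.totalDegree ≤ F.totalDegree := Finset.sup_mono (MvPolynomial.support_map_subset _ _)
    rw [hw] at h1
    simp only at h1
    show Fb.totalDegree < 2 + _
    omega)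
  let ψ := fibMap t' p.asIdeal
  letI := ψ.toRingHom.toAlgebra
  have hψ : ∀ x, algebraMap (MvPolynomial (Fin m) κ) (p.asIdeal.Fiber S) x = ψ x := fun _ => rfl
  let x₀ : p.asIdeal.Fiber S := (1 : κ) ⊗ₜ[R] t 0
  haveI : IsScalarTower κ (MvPolynomial (Fin m) κ) (p.asIdeal.Fiber S) :=
    IsScalarTower.of_algebraMap_eq fun c => (ψ.commutes c).symm
  have hsub : (Polynomial.aeval x₀).toRingHom.comp (sub κ m e).toRingHom = (fibMap t p.asIdeal).toRingHom := by
    refine MvPolynomial.ringHom_ext (fun c => ?_) (fun j => ?_)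
    · simp [sub, fibMap, ← IsScalarTower.algebraMap_apply]
      exact (fibMap t' p.asIdeal).commutes c
    · cases j using Fin.cases with
      | zero => simp [sub, subX, fibMap, x₀]
      | succ j =>
        simp only [sub, subX, fibMap, AlgHom.toRingHom_eq_coe, RingHom.comp_apply, RingHom.coe_coe,
          MvPolynomial.aeval_X, Fin.cases_succ, map_add, map_pow, Polynomial.aeval_X, Polynomial.aeval_C, hψ, ψ, x₀,
          t']
        rw [Algebra.TensorProduct.tmul_pow, one_pow, ← tmul_add, sub_add_cancel]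
  have hint0 : IsIntegral (MvPolynomial (Fin m) κ) x₀ := by
    have hu : IsUnit ((sub κ m e Fb) ^ k).leadingCoeff := by
      rw [Polynomial.leadingCoeff_pow, hlead]
      exact ((Ne.isUnit ha).map MvPolynomial.C).pow k
    refine ⟨_, Polynomial.monic_of_isUnit_leadingCoeff_inv_smul hu, ?_⟩
    rw [Units.smul_def, Polynomial.smul_eq_C_mul, Polynomial.eval₂_mul, Polynomial.eval₂_pow,
      ← Polynomial.aeval_def]
    have : Polynomial.eval₂ (algebraMap (MvPolynomial (Fin m) κ) (p.asIdeal.Fiber S)) x₀ (sub κ m e Fb) =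
        fibMap t p.asIdeal Fb := RingHom.congr_fun hsub Fb
    rw [this, hker, mul_zero]
  have hgen : ∀ G, IsIntegral (MvPolynomial (Fin m) κ) (fibMap t p.asIdeal G) := fun G => by
    rw [show fibMap t p.asIdeal G = Polynomial.aeval x₀ (sub κ m e G) from (RingHom.congr_fun hsub G).symm]
    rw [Polynomial.aeval_eq_sum_range]
    exact IsIntegral.sum _ fun j _ => (hint0.pow j).smul _
  have hint : ψ.toRingHom.IsIntegral := fun y => by
    let C := integralClosure (MvPolynomial (Fin m) κ) (p.asIdeal.Fiber S)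
    letI := (fibMap t p.asIdeal).toRingHom.toAlgebra
    obtain ⟨P, hP, hP0⟩ := (ht p).to_isIntegral y
    let g : MvPolynomial (Fin (m + 1)) κ →+* C := (fibMap t p.asIdeal).toRingHom.codRestrict C hgen
    have hy : IsIntegral C y := ⟨P.map g, hP.map g, by
      rw [Polynomial.eval₂_map]; exact hP0⟩
    exact isIntegral_trans (A := C) y hy
  haveI : Algebra.FiniteType κ (p.asIdeal.Fiber S) := inferInstance
  refine hint.to_finite ?_
  refine RingHom.FiniteType.of_comp_finiteType (f := algebraMap κ (MvPolynomial (Fin m) κ)) ?_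
  rw [show ψ.toRingHom.comp (algebraMap κ (MvPolynomial (Fin m) κ)) = algebraMap κ (p.asIdeal.Fiber S) from
    RingHom.ext fun c => ψ.commutes c]
  exact RingHom.finiteType_algebraMap.mpr inferInstance

theorem finite_fibMap_of_le {m d : ℕ} (h : m ≤ d) (t : Fin m → S) (p : Ideal R) [p.IsPrime]
    (ht : (fibMap t p).toRingHom.Finite) :
    (fibMap (fun i : Fin d => if hi : i.1 < m then t ⟨i, hi⟩ else 0) p).toRingHom.Finite := by
  refine RingHom.Finite.of_comp_finite (f := (MvPolynomial.rename (Fin.castLE h)).toRingHom) ?_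
  convert ht using 1
  refine MvPolynomial.ringHom_ext (fun c => ?_) (fun j => ?_)
  · simp [fibMap]
  · simp [fibMap]

/-- Weak relative Noether normalisation. -/
theorem exists_quasiFinite (d : ℕ) (hd : ∀ p : PrimeSpectrum R, ringKrullDim (p.asIdeal.Fiber S) ≤ d) :
    ∃ φ : MvPolynomial (Fin d) R →ₐ[R] S, φ.toRingHom.QuasiFinite := by
  obtain ⟨t, ht⟩ : ∃ t : Fin d → S, ∀ p : PrimeSpectrum R, (fibMap t p.asIdeal).toRingHom.Finite := by
    suffices ∀ (m : ℕ) (t : Fin m → S), (∀ p : PrimeSpectrum R, (fibMap t p.asIdeal).toRingHom.Finite) →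
        ∃ t : Fin d → S, ∀ p : PrimeSpectrum R, (fibMap t p.asIdeal).toRingHom.Finite by
      obtain ⟨m, f, hf⟩ := Algebra.FiniteType.iff_quotient_mvPolynomial''.mp ‹Algebra.FiniteType R S›
      refine this m (fun i => f (MvPolynomial.X i)) fun p => RingHom.Finite.of_surjective _ fun z => ?_
      induction z using TensorProduct.induction_on with
      | zero => exact ⟨0, map_zero _⟩
      | tmul c s =>
        obtain ⟨F, rfl⟩ := hf s
        refine ⟨c • MvPolynomial.map (algebraMap R _) F, ?_⟩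
        show fibMap _ p.asIdeal _ = _
        rw [map_smul, fibMap_map, smul_tmul', smul_eq_mul, mul_one]
        congr 1
        exact AlgHom.congr_fun (MvPolynomial.algHom_ext fun i => MvPolynomial.aeval_X _ i) F
      | add a b ha hb =>
        obtain ⟨x, rfl⟩ := ha
        obtain ⟨y, rfl⟩ := hb
        exact ⟨x + y, map_add _ _ _⟩
    intro m
    induction m with
    | zero => exact fun t ht => ⟨_, fun p => finite_fibMap_of_le (Nat.zero_le d) t p.asIdeal (ht p)⟩
    | succ m ih =>
      intro t ht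
      by_cases hm : m + 1 ≤ d
      · exact ⟨_, fun p => finite_fibMap_of_le hm t p.asIdeal (ht p)⟩
      · obtain ⟨t', ht'⟩ := exists_step hd (by omega) t ht
        exact ih t' ht'
  refine ⟨MvPolynomial.aeval t, ?_⟩
  algebraize [(MvPolynomial.aeval (R := R) t).toRingHom]
  haveI : IsScalarTower R (MvPolynomial (Fin d) R) S :=
    IsScalarTower.of_algebraMap_eq fun r => ((MvPolynomial.aeval (R := R) t).commutes r).symm
  haveI : Algebra.FiniteType (MvPolynomial (Fin d) R) S := Algebra.FiniteType.of_restrictScalars_finiteType R _ _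
  refine RingHom.quasiFinite_algebraMap.mpr (Algebra.QuasiFinite.iff_finite_comap_preimage_singleton.mpr fun P => ?_)
  let p : PrimeSpectrum R := PrimeSpectrum.comap (algebraMap R (MvPolynomial (Fin d) R)) P
  letI := (fibMap t p.asIdeal).toRingHom.toAlgebra
  haveI : Module.Finite (MvPolynomial (Fin d) p.asIdeal.ResidueField) (p.asIdeal.Fiber S) := ht p
  let Z : Set (PrimeSpectrum (MvPolynomial (Fin d) p.asIdeal.ResidueField)) :=
    PrimeSpectrum.comap (MvPolynomial.map (algebraMap R p.asIdeal.ResidueField)) ⁻¹' {P}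
  have hZ : Z.Subsingleton := fun P₁ h₁ P₂ h₂ => by
    refine PrimeSpectrum.ext (Ideal.ext fun G => ?_)
    obtain ⟨r, hr, F, hF⟩ := exists_smul_eq_map p.asIdeal G
    have key : ∀ P' ∈ Z, G ∈ P'.asIdeal ↔ F ∈ P.asIdeal := fun P' hP' => by
      refine Iff.trans ?_ (SetLike.ext_iff.mp (congrArg PrimeSpectrum.asIdeal (show _ = P from hP')) F)
      change G ∈ P'.asIdeal ↔ MvPolynomial.map (algebraMap R p.asIdeal.ResidueField) F ∈ P'.asIdeal
      rw [hF, MvPolynomial.smul_eq_C_mul,
        Ideal.unit_mul_mem_iff_mem _ (IsUnit.map _ (Ne.isUnit fun h => hr (Ideal.algebraMap_residueField_eq_zero.mp h)))]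
    rw [key P₁ h₁, key P₂ h₂]
  let e := PrimeSpectrum.preimageHomeomorphFiber R S p
  have hQfin : (PrimeSpectrum.comap (algebraMap (MvPolynomial (Fin d) p.asIdeal.ResidueField) (p.asIdeal.Fiber S)) ⁻¹' Z).Finite :=
    Algebra.QuasiFinite.finite_comap_preimage hZ.finite
  refine ((hQfin.preimage e.injective.injOn).image Subtype.val).subset fun Q hQ => ?_
  have hQp : Q ∈ PrimeSpectrum.comap (algebraMap R S) ⁻¹' {p} := by
    show _ = PrimeSpectrum.comap _ P
    rw [← (show _ = P from hQ), ← PrimeSpectrum.comap_comp_apply, ← IsScalarTower.algebraMap_eq]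
  refine ⟨⟨Q, hQp⟩, ?_, rfl⟩
  show PrimeSpectrum.comap _ (PrimeSpectrum.comap _ (e ⟨Q, hQp⟩)) = P
  refine Eq.trans ?_ (show PrimeSpectrum.comap (algebraMap (MvPolynomial (Fin d) R) S) Q = P from hQ)
  rw [← PrimeSpectrum.comap_comp_apply]
  have hcomp : (algebraMap (MvPolynomial (Fin d) p.asIdeal.ResidueField) (p.asIdeal.Fiber S)).comp
      (MvPolynomial.map (algebraMap R p.asIdeal.ResidueField)) =
      (Algebra.TensorProduct.includeRight : S →ₐ[R] p.asIdeal.Fiber S).toRingHom.comp
        (algebraMap (MvPolynomial (Fin d) R) S) := RingHom.ext fun F => fibMap_map t p.asIdeal F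
  rw [hcomp, PrimeSpectrum.comap_comp_apply]
  exact congrArg (PrimeSpectrum.comap (algebraMap (MvPolynomial (Fin d) R) S))
    (congrArg Subtype.val (e.symm_apply_apply ⟨Q, hQp⟩))

end Fibres

end Groth.Agent.FlatFibres.RelNoether
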