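import Mathlib
import Groth.Agent.EtFound.Crit

/-!
# A rational point of a fibre extends to a section over a finitely presented stratum
-/

set_option autoImplicit false
universe u

open CategoryTheory Limits AlgebraicGeometry

namespace Groth.Agent.FlatFibres

theorem exists_algHom_stage {A B K : Type u} [CommRing A] [CommRing B] [Field K] [Algebra A B] [Algebra A K]
    [Algebra.FinitePresentation A B] (σ : B →ₐ[A] K)
    (hK : ∀ z : K, ∃ a g : A, algebraMap A K g ≠ 0 ∧ z * algebraMap A K g = algebraMap A K a) :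
    ∃ (I : Ideal A) (g : A), I.FG ∧ I ≤ RingHom.ker (algebraMap A K) ∧ algebraMap A K g ≠ 0 ∧
      Nonempty (B →ₐ[A] Localization.Away (Ideal.Quotient.mk I g)) := by
  classical
  obtain ⟨n, φ, hφ, hker⟩ := Algebra.FinitePresentation.out (R := A) (A := B)
  obtain ⟨F, hF⟩ := hker
  choose a g hg hag using fun i => hK (σ (φ (MvPolynomial.X i)))
  let G : A := ∏ i, g i
  have hG : algebraMap A K G ≠ 0 := by
    rw [map_prod]; exact Finset.prod_ne_zero_iff.mpr fun i _ => hg i
  let a' : Fin n → A := fun i => a i * ∏ j ∈ Finset.univ.erase i, g j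
  have ha' : ∀ i, σ (φ (MvPolynomial.X i)) * algebraMap A K G = algebraMap A K (a' i) := fun i => by
    simp only [G, a']
    rw [← Finset.mul_prod_erase Finset.univ g (Finset.mem_univ i), map_mul, map_mul, ← mul_assoc, hag i]
  let L₀ := Localization.Away G
  let x₀ : Fin n → L₀ := fun i => algebraMap A L₀ (a' i) * IsLocalization.Away.invSelf G
  let π : L₀ →ₐ[A] K := IsLocalization.liftAlgHom (M := Submonoid.powers G) (f := Algebra.ofId A K) (by
    rintro ⟨_, k, rfl⟩
    rw [Algebra.ofId_apply, map_pow]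
    exact (IsUnit.mk0 _ hG).pow k)
  have hπ : ∀ F₁, π (MvPolynomial.aeval x₀ F₁) = σ (φ F₁) := by
    intro F₁
    have : π.comp (MvPolynomial.aeval x₀) = σ.comp φ := MvPolynomial.algHom_ext fun i => by
      rw [AlgHom.comp_apply, MvPolynomial.aeval_X, AlgHom.comp_apply]
      apply mul_right_cancel₀ hG
      rw [ha', ← π.commutes G, ← map_mul, mul_assoc, mul_comm (IsLocalization.Away.invSelf G),
        IsLocalization.Away.mul_invSelf, mul_one, π.commutes]
    exact AlgHom.congr_fun this F₁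
  choose k c hc using fun F₁ : MvPolynomial (Fin n) A => IsLocalization.Away.surj G (MvPolynomial.aeval x₀ F₁)
  refine ⟨Ideal.span (c '' (F : Set (MvPolynomial (Fin n) A))), G, ⟨F.image c, by rw [Finset.coe_image]⟩,
    ?_, hG, ?_⟩
  · rw [Ideal.span_le]
    rintro _ ⟨F₁, hF₁, rfl⟩
    have h0 : φ F₁ = 0 := RingHom.mem_ker.mp (hF ▸ Ideal.subset_span hF₁)
    have h1 := congrArg π (hc F₁)
    rw [map_mul, hπ, h0, map_zero, zero_mul, π.commutes] at h1
    exact RingHom.mem_ker.mpr h1.symm
  · set I := Ideal.span (c '' (F : Set (MvPolynomial (Fin n) A))) with hI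
    let L := Localization.Away (Ideal.Quotient.mk I G)
    have hu : IsUnit (algebraMap A L G) :=
      (IsLocalization.Away.algebraMap_isUnit (S := L) (Ideal.Quotient.mk I G) :)
    let q : L₀ →ₐ[A] L := IsLocalization.liftAlgHom (M := Submonoid.powers G) (f := Algebra.ofId A L) (by
      rintro ⟨_, j, rfl⟩
      rw [Algebra.ofId_apply, map_pow]
      exact hu.pow j)
    let ψ : MvPolynomial (Fin n) A →ₐ[A] L := q.comp (MvPolynomial.aeval x₀)
    have hψ : ∀ F₁, F₁ ∈ RingHom.ker φ.toRingHom → ψ F₁ = 0 := by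
      intro F₁ hF₁
      rw [← hF] at hF₁
      refine RingHom.mem_ker.mp (Ideal.span_le.mpr (fun F₂ hF₂ => ?_) hF₁ : F₁ ∈ RingHom.ker ψ.toRingHom)
      have h1 := congrArg q (hc F₂)
      rw [map_mul, map_pow, q.commutes, q.commutes] at h1
      have h2 : algebraMap A L (c F₂) = 0 := by
        rw [IsScalarTower.algebraMap_apply A (A ⧸ I) L, Ideal.Quotient.algebraMap_eq,
          Ideal.Quotient.eq_zero_iff_mem.mpr (show c F₂ ∈ I from Ideal.subset_span ⟨F₂, hF₂, rfl⟩), map_zero]
      rw [h2] at h1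
      exact RingHom.mem_ker.mpr (((hu.pow _).mul_left_eq_zero).mp h1)
    exact ⟨(Ideal.Quotient.liftₐ _ ψ hψ).comp (Ideal.quotientKerAlgEquivOfSurjective hφ).symm.toAlgHom⟩

/-- The stratum around a point, affine case. -/
theorem exists_section_stratum {A B K : Type u} [CommRing A] [CommRing B] [Field K] [Algebra A B] [Algebra A K]
    [Algebra.FinitePresentation A B] (σ : B →ₐ[A] K)
    (hK : ∀ z : K, ∃ a g : A, algebraMap A K g ≠ 0 ∧ z * algebraMap A K g = algebraMap A K a) :
    ∃ (L : CommRingCat.{u}) (φ : CommRingCat.of A ⟶ L) (χ : CommRingCat.of B ⟶ L) (ρ : L ⟶ CommRingCat.of K),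
      IsImmersion (Spec.map φ) ∧ LocallyOfFinitePresentation (Spec.map φ) ∧
      CommRingCat.ofHom (algebraMap A B) ≫ χ = φ ∧ φ ≫ ρ = CommRingCat.ofHom (algebraMap A K) := by
  obtain ⟨I, g, hI, hIy, hg, ⟨χ⟩⟩ := exists_algHom_stage σ hK
  let L := Localization.Away (Ideal.Quotient.mk I g)
  have hle : ∀ a ∈ I, algebraMap A K a = 0 := fun a ha => RingHom.mem_ker.mp (hIy ha)
  let ρ₀ : A ⧸ I →+* K := Ideal.Quotient.lift I _ hle
  have hgu : IsUnit (ρ₀ (Ideal.Quotient.mk I g)) := IsUnit.mk0 _ hg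
  let ρ : L →+* K := IsLocalization.Away.lift (Ideal.Quotient.mk I g) hgu
  refine ⟨CommRingCat.of L, CommRingCat.ofHom (algebraMap A L), CommRingCat.ofHom χ.toRingHom,
    CommRingCat.ofHom ρ, ?_, ?_, ?_, ?_⟩
  · have hfac : Spec.map (CommRingCat.ofHom (algebraMap A L)) =
        Spec.map (CommRingCat.ofHom (algebraMap (A ⧸ I) L)) ≫
          Spec.map (CommRingCat.ofHom (Ideal.Quotient.mk I)) := by
      rw [← Spec.map_comp, ← CommRingCat.ofHom_comp, IsScalarTower.algebraMap_eq A (A ⧸ I) L]
    haveI : IsOpenImmersion (Spec.map (CommRingCat.ofHom (algebraMap (A ⧸ I) L))) :=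
      IsOpenImmersion.of_isLocalization (Ideal.Quotient.mk I g)
    haveI : IsClosedImmersion (Spec.map (CommRingCat.ofHom (Ideal.Quotient.mk I))) :=
      IsClosedImmersion.spec_of_surjective _ Ideal.Quotient.mk_surjective
    rw [hfac]
    infer_instance
  · haveI : Algebra.FinitePresentation A (A ⧸ I) := Algebra.FinitePresentation.quotient hI
    haveI : Algebra.FinitePresentation A L := Algebra.FinitePresentation.trans A (A ⧸ I) L
    exact HasRingHomProperty.Spec_iff.mpr (RingHom.finitePresentation_algebraMap.mpr inferInstance)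
  · exact CommRingCat.hom_ext χ.comp_algebraMap
  · refine CommRingCat.hom_ext (RingHom.ext fun a => ?_)
    show ρ (algebraMap A L a) = algebraMap A K a
    rw [IsScalarTower.algebraMap_apply A (A ⧸ I) L]
    exact IsLocalization.Away.lift_eq (Ideal.Quotient.mk I g) hgu (Ideal.Quotient.mk I a)

end Groth.Agent.FlatFibres
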