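import Groth.Agent.FlatFibres.ValuationCut

/-!
# Closed points of a fibre between a specialization, ring version

`A → B` of finite type, `P ≤ P'` primes of `B` with different images in `Spec A`, `P'` algebraic
over its image: for `g ∉ P` there is a prime `P ≤ Q ≤ P'` with the same image as `P`, algebraic over
it and not containing `g`.
-/

set_option autoImplicit false
universe u

open IsLocalRing

namespace Groth.Agent.FlatFibres

/-- `B ⧸ P` is algebraic over the image of `A`, stated with polynomials over `A`. -/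
def AlgMod (A : Type*) {B : Type*} [CommRing A] [CommRing B] [Algebra A B] (P : Ideal B) : Prop :=
  ∀ b : B, ∃ G : Polynomial A, (∃ i, G.coeff i ∉ P.comap (algebraMap A B)) ∧ Polynomial.aeval b G ∈ P

/-- A valuation subring of the fraction field dominating a domain at a given prime. -/
theorem exists_valuationSubring_dominating {B0 L : Type u} [CommRing B0] [IsDomain B0] [Field L] [Algebra B0 L]
    (hinj : Function.Injective (algebraMap B0 L)) (P0 : Ideal B0) [P0.IsPrime] :
    ∃ (V : ValuationSubring L) (h : ∀ b, algebraMap B0 L b ∈ V),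
      ∀ b, (⟨algebraMap B0 L b, h b⟩ : V) ∈ maximalIdeal V ↔ b ∈ P0 := by
  let f : Localization.AtPrime P0 →+* L := IsLocalization.lift (M := P0.primeCompl) (g := algebraMap B0 L)
    (fun y => isUnit_iff_ne_zero.2 ((map_ne_zero_iff _ hinj).2 fun h => y.2 (h ▸ P0.zero_mem)))
  have hf : ∀ b, f (algebraMap B0 (Localization.AtPrime P0) b) = algebraMap B0 L b := fun b => IsLocalization.lift_eq _ b
  obtain ⟨V, hfV, hV⟩ := IsLocalRing.exists_factor_valuationRing f
  have hmem : ∀ b, algebraMap B0 L b ∈ V := fun b => hf b ▸ hfV _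
  refine ⟨V, hmem, fun b => ?_⟩
  let F : Localization.AtPrime P0 →+* V := f.codRestrict V.toSubring hfV
  haveI : IsLocalHom F := hV
  rw [show (⟨algebraMap B0 L b, hmem b⟩ : V) = F (algebraMap B0 _ b) from Subtype.ext (hf b).symm,
    mem_maximalIdeal, mem_nonunits_iff, isUnit_map_iff, IsLocalization.AtPrime.isUnit_to_map_iff (Localization.AtPrime P0) P0]
  simp [Ideal.primeCompl]

/-- Algebraicity over the image of `A` gives integrality over a local ring mapping compatibly. -/
theorem isIntegral_quotient_of_algMod {A B R Bs : Type u} [CommRing A] [CommRing B] [Algebra A B] [CommRing R] [IsLocalRing R]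
    [CommRing Bs] [Algebra R Bs] (PB : Ideal Bs) [PB.IsPrime] [PB.LiesOver (maximalIdeal R)] (αR : A →+* R) (φ : B →+* Bs)
    (hc : ∀ a, φ (algebraMap A B a) = algebraMap R Bs (αR a)) (halg : AlgMod A (PB.comap φ)) (b : B) :
    IsIntegral R (Ideal.Quotient.mk PB (φ b)) := by
  obtain ⟨G, ⟨i, hi⟩, hGb⟩ := halg b
  let α : A →+* R ⧸ maximalIdeal R := (Ideal.Quotient.mk _).comp αR
  letI : Field (R ⧸ maximalIdeal R) := Ideal.Quotient.field _
  have h0 : G.map α ≠ 0 := fun h => hi (by
    have h1 : Ideal.Quotient.mk (maximalIdeal R) (αR (G.coeff i)) = 0 := by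
      have := congrArg (fun q => Polynomial.coeff q i) h
      rwa [Polynomial.coeff_map, Polynomial.coeff_zero] at this
    rw [Ideal.Quotient.eq_zero_iff_mem, PB.over_def (maximalIdeal R), Ideal.mem_comap, ← hc] at h1
    exact h1)
  have h1 : Polynomial.aeval (Ideal.Quotient.mk PB (φ b)) (G.map α) = 0 := by
    rw [Polynomial.aeval_def, Polynomial.eval₂_map]
    have hcc : (algebraMap (R ⧸ maximalIdeal R) (Bs ⧸ PB)).comp α =
        ((Ideal.Quotient.mk PB).comp φ).comp (algebraMap A B) := by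
      ext a
      show Ideal.Quotient.mk PB (algebraMap R Bs (αR a)) = Ideal.Quotient.mk PB (φ (algebraMap A B a))
      rw [hc]
    rw [hcc, show Ideal.Quotient.mk PB (φ b) = ((Ideal.Quotient.mk PB).comp φ) b from rfl, ← Polynomial.hom_eval₂,
      RingHom.comp_apply, Ideal.Quotient.eq_zero_iff_mem]
    exact hGb
  exact isIntegral_trans (R := R) (A := R ⧸ maximalIdeal R) _ (IsAlgebraic.isIntegral ⟨G.map α, h0, h1⟩)

/-- Descend algebraicity over a ring algebraic over the image of `A`. -/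
theorem algMod_comap {A B R Bs : Type u} [CommRing A] [CommRing B] [Algebra A B] [CommRing R] [IsDomain R]
    [CommRing Bs] [Algebra R Bs] (Q : Ideal Bs) [Algebra.IsAlgebraic R (Bs ⧸ Q)] (p : Ideal A) [p.IsPrime]
    [Algebra (A ⧸ p) R] [Algebra.IsAlgebraic (A ⧸ p) R] (φ : B →+* Bs)
    (hc : ∀ a, φ (algebraMap A B a) = algebraMap R Bs (algebraMap (A ⧸ p) R (Ideal.Quotient.mk p a)))
    (hp : (Q.comap φ).comap (algebraMap A B) = p) : AlgMod A (Q.comap φ) := by
  intro b
  letI : Algebra (A ⧸ p) (Bs ⧸ Q) := ((algebraMap R (Bs ⧸ Q)).comp (algebraMap (A ⧸ p) R)).toAlgebra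
  haveI : IsScalarTower (A ⧸ p) R (Bs ⧸ Q) := .of_algebraMap_eq fun _ => rfl
  obtain ⟨G0, hG0, hG0b⟩ :=
    (Algebra.IsAlgebraic.isAlgebraic (R := R) (Ideal.Quotient.mk Q (φ b))).restrictScalars (A ⧸ p)
  obtain ⟨G, rfl⟩ := Polynomial.map_surjective (Ideal.Quotient.mk p) Ideal.Quotient.mk_surjective G0
  obtain ⟨i, hi⟩ : ∃ i, (G.map (Ideal.Quotient.mk p)).coeff i ≠ 0 := by
    by_contra! h
    exact hG0 (Polynomial.ext h)
  rw [Polynomial.coeff_map, Ne, Ideal.Quotient.eq_zero_iff_mem] at hi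
  refine ⟨G, ⟨i, fun h => hi (hp.le h)⟩, ?_⟩
  rw [Polynomial.aeval_def, Polynomial.eval₂_map] at hG0b
  have hcc : (algebraMap (A ⧸ p) (Bs ⧸ Q)).comp (Ideal.Quotient.mk p) =
      ((Ideal.Quotient.mk Q).comp φ).comp (algebraMap A B) := by
    ext a
    show Ideal.Quotient.mk Q (algebraMap R Bs _) = Ideal.Quotient.mk Q (φ (algebraMap A B a))
    rw [hc]
  rw [hcc, show Ideal.Quotient.mk Q (φ b) = ((Ideal.Quotient.mk Q).comp φ) b from rfl, ← Polynomial.hom_eval₂,
    RingHom.comp_apply, Ideal.Quotient.eq_zero_iff_mem] at hG0b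
  exact hG0b

/-- The core of `exists_prime_between`, for a given valuation. -/
theorem exists_prime_between_aux {A B : Type u} [CommRing A] [CommRing B] [Algebra A B] [Algebra.FiniteType A B]
    (P P' : Ideal B) (hle : P ≤ P')
    (hne : P.comap (algebraMap A B) ≠ P'.comap (algebraMap A B)) (halg : AlgMod A P') (g : B) (hg : g ∉ P)
    (p : Ideal A) [p.IsPrime] (hp : P.comap (algebraMap A B) = p) {K L : Type u} [Field K] [Field L] [Algebra (A ⧸ p) K]
    [IsFractionRing (A ⧸ p) K] (ι : K →+* L) (θ : B →+* L) (hθP : ∀ b, θ b = 0 ↔ b ∈ P)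
    (hιθ : ∀ a : A, ι (algebraMap (A ⧸ p) K (Ideal.Quotient.mk p a)) = θ (algebraMap A B a))
    (V : ValuationSubring L) (hθV : ∀ b, θ b ∈ V) (hθm : ∀ b, (⟨θ b, hθV b⟩ : V) ∈ maximalIdeal V ↔ b ∈ P') :
    ∃ Q : Ideal B, Q.IsPrime ∧ P ≤ Q ∧ Q ≤ P' ∧ g ∉ Q ∧
      Q.comap (algebraMap A B) = P.comap (algebraMap A B) ∧ AlgMod A Q := by
  classical
  subst hp
  let p := P.comap (algebraMap A B)
  let A0 := A ⧸ p
  let R : ValuationSubring K := V.comap ι
  let j : R →+* L := ι.comp R.subtype
  letI : Algebra R L := j.toAlgebra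
  have hjV : ∀ r : R, j r ∈ V := fun r => r.2
  have hAR : ∀ a : A, algebraMap A0 K (Ideal.Quotient.mk p a) ∈ R := fun a => by
    show ι _ ∈ V
    rw [hιθ]; exact hθV _
  -- the algebra generated by `B0` over `R`
  obtain ⟨s, hs⟩ := Algebra.FiniteType.out (R := A) (A := B)
  let Bs : Subalgebra R L := Algebra.adjoin R (θ '' (s : Set B))
  haveI : Algebra.FiniteType R Bs := (Subalgebra.fg_iff_finiteType _).1
    ⟨s.image θ, by rw [Finset.coe_image]⟩
  have hθB : ∀ b, θ b ∈ Bs := fun b => by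
    have hb : b ∈ Algebra.adjoin A (s : Set B) := hs.symm ▸ Algebra.mem_top
    induction hb using Algebra.adjoin_induction with
    | mem x hx => exact Algebra.subset_adjoin ⟨x, hx, rfl⟩
    | algebraMap a =>
      rw [← hιθ]
      exact Bs.algebraMap_mem ⟨_, hAR a⟩
    | add x y _ _ hx hy => rw [map_add]; exact Bs.add_mem hx hy
    | mul x y _ _ hx hy => rw [map_mul]; exact Bs.mul_mem hx hy
  have hBV : ∀ z : Bs, (z : L) ∈ V := fun ⟨z, hz⟩ => by
    induction hz using Algebra.adjoin_induction with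
    | mem x hx => obtain ⟨b, -, rfl⟩ := hx; exact hθV b
    | algebraMap r => exact hjV r
    | add x y _ _ hx hy => exact V.add_mem _ _ hx hy
    | mul x y _ _ hx hy => exact V.mul_mem _ _ hx hy
  let κ : Bs →+* V := (Bs.subtype : Bs →+* L).codRestrict V.toSubring hBV
  let PB : Ideal Bs := (maximalIdeal V).comap κ
  haveI : PB.IsPrime := Ideal.comap_isPrime _ _
  have hPR : PB.comap (algebraMap R Bs) = maximalIdeal R := by
    ext r
    rw [Ideal.mem_comap, Ideal.mem_comap, mem_maximalIdeal, mem_maximalIdeal, mem_nonunits_iff, mem_nonunits_iff,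
      not_iff_not]
    refine ⟨fun hu => ?_, fun hu => hu.map (κ.comp (algebraMap R Bs))⟩
    obtain ⟨v, hv⟩ := hu.exists_right_inv
    have hr0 : (r : K) ≠ 0 := fun h => by
      have h2 := congrArg Subtype.val hv
      change j r * (v : L) = 1 at h2
      rw [show j r = ι r from rfl, h, map_zero, zero_mul] at h2
      exact zero_ne_one h2
    have hinv : (r : K)⁻¹ ∈ R := by
      show ι _ ∈ V
      rw [map_inv₀, ← eq_inv_of_mul_eq_one_right (show ι r * (v : L) = 1 from congrArg Subtype.val hv)]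
      exact v.2
    exact IsUnit.of_mul_eq_one ⟨_, hinv⟩ (Subtype.ext (mul_inv_cancel₀ hr0))
  haveI : PB.LiesOver (maximalIdeal R) := ⟨hPR.symm⟩
  let φ : B →+* Bs := θ.codRestrict Bs.toSubring hθB
  let αR' : A →+* R := ((algebraMap A0 K).comp (Ideal.Quotient.mk p)).codRestrict R.toSubring hAR
  have hφA : ∀ a, φ (algebraMap A B a) = algebraMap R Bs ⟨_, hAR a⟩ := fun a => Subtype.ext (hιθ a).symm
  have hφP : ∀ b, φ b ∈ PB ↔ b ∈ P' := fun b => hθm b
  have hmax : PB.IsMaximal := by
    haveI : Algebra.IsIntegral R (Bs ⧸ PB) := by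
      refine ⟨fun z => ?_⟩
      obtain ⟨⟨z, hz⟩, rfl⟩ := Ideal.Quotient.mk_surjective z
      induction hz using Algebra.adjoin_induction with
      | mem x hx =>
        obtain ⟨b, -, rfl⟩ := hx
        exact isIntegral_quotient_of_algMod PB αR' φ hφA
          (by rw [show PB.comap φ = P' from Ideal.ext hφP]; exact halg) b
      | algebraMap r => exact isIntegral_algebraMap (x := r)
      | add x y hx hy ihx ihy => exact IsIntegral.add (R := R) (A := Bs ⧸ PB) ihx ihy
      | mul x y hx hy ihx ihy => exact IsIntegral.mul (R := R) (A := Bs ⧸ PB) ihx ihy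
    haveI : IsDomain (Bs ⧸ PB) := Ideal.Quotient.isDomain PB
    haveI : Nontrivial (Bs ⧸ PB) := Ideal.Quotient.nontrivial_iff.2 (Ideal.IsPrime.ne_top ‹PB.IsPrime›)
    haveI : (⊥ : Ideal (Bs ⧸ PB)).IsPrime := @Ideal.isPrime_bot _ _ ‹Nontrivial (Bs ⧸ PB)› inferInstance
    refine (Ideal.bot_quotient_isMaximal_iff PB).1 (Ideal.isMaximal_of_isIntegral_of_isMaximal_comap (R := R) (S := Bs ⧸ PB) ⊥ ?_)
    rw [show (⊥ : Ideal (Bs ⧸ PB)).comap (algebraMap R (Bs ⧸ PB)) = PB.comap (algebraMap R Bs) from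
      Ideal.ext fun r => Ideal.Quotient.eq_zero_iff_mem, hPR]
    exact maximalIdeal.isMaximal R
  have hR : ¬ IsField R := by
    intro hF
    apply hne
    refine le_antisymm (Ideal.comap_mono hle) fun a ha => ?_
    by_contra hn
    obtain ⟨w, hw⟩ := hF.mul_inv_cancel (a := (⟨_, hAR a⟩ : R)) fun h => hn (by
      have h0 : θ (algebraMap A B a) = 0 := by
        rw [← hιθ, show algebraMap A0 K (Ideal.Quotient.mk p a) = 0 from congrArg Subtype.val h, map_zero]
      exact (hθP _).1 h0)
    have : φ (algebraMap A B a) ∈ PB := (hφP _).2 ha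
    rw [hφA] at this
    exact (hPR.le this) (IsUnit.of_mul_eq_one w hw)
  have hinj : Function.Injective (algebraMap R Bs) := fun a b h =>
    Subtype.ext (ι.injective (congrArg Subtype.val h))
  obtain ⟨Q, hQ, hQP, hgQ, hQR, hQalg⟩ := exists_prime_le_algebraic hR hinj PB hPR (φ g)
    (fun h => hg ((hθP g).1 (congrArg Subtype.val h)))
  have hQp : (Q.comap φ).comap (algebraMap A B) = p := by
    ext a
    rw [Ideal.mem_comap, Ideal.mem_comap, hφA]
    show (⟨_, hAR a⟩ : R) ∈ Q.comap (algebraMap R Bs) ↔ _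
    rw [hQR, Ideal.mem_bot]
    refine ⟨fun h => ?_, fun h => Subtype.ext ?_⟩
    · show algebraMap A B a ∈ P
      rw [← hθP, ← hιθ, show algebraMap A0 K (Ideal.Quotient.mk p a) = 0 from congrArg Subtype.val h, map_zero]
    · show algebraMap A0 K (Ideal.Quotient.mk p a) = 0
      rw [Ideal.Quotient.eq_zero_iff_mem.2 h, map_zero]
  refine ⟨Q.comap φ, Ideal.comap_isPrime _ _, fun b hb => ?_, fun b hb => (hφP b).1 (hQP hb), hgQ, hQp, ?_⟩
  · rw [Ideal.mem_comap, show φ b = 0 from Subtype.ext ((hθP b).2 hb)]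
    exact Q.zero_mem
  · let αR : A0 →+* R := (algebraMap A0 K).codRestrict R.toSubring fun x => by
      obtain ⟨a, rfl⟩ := Ideal.Quotient.mk_surjective x
      exact hAR a
    letI : Algebra A0 R := αR.toAlgebra
    haveI : IsScalarTower A0 R K := .of_algebraMap_eq fun _ => rfl
    haveI : Algebra.IsAlgebraic A0 K := IsLocalization.isAlgebraic K (nonZeroDivisors A0)
    haveI : Algebra.IsAlgebraic A0 R :=
      Algebra.IsAlgebraic.of_injective (IsScalarTower.toAlgHom A0 R K) Subtype.val_injective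
    exact algMod_comap Q p φ hφA hQp


theorem exists_prime_between {A B : Type u} [CommRing A] [CommRing B] [Algebra A B] [Algebra.FiniteType A B]
    (P P' : Ideal B) [P.IsPrime] [P'.IsPrime] (hle : P ≤ P')
    (hne : P.comap (algebraMap A B) ≠ P'.comap (algebraMap A B)) (halg : AlgMod A P') (g : B) (hg : g ∉ P) :
    ∃ Q : Ideal B, Q.IsPrime ∧ P ≤ Q ∧ Q ≤ P' ∧ g ∉ Q ∧
      Q.comap (algebraMap A B) = P.comap (algebraMap A B) ∧ AlgMod A Q := by
  classical
  let p := P.comap (algebraMap A B)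
  haveI : p.IsPrime := Ideal.comap_isPrime _ _
  let A0 := A ⧸ p
  let B0 := B ⧸ P
  let K := FractionRing A0
  let L := FractionRing B0
  let e0 : A0 →+* L := (algebraMap B0 L).comp (Ideal.quotientMap P (algebraMap A B) le_rfl)
  have he0 : Function.Injective e0 :=
    (IsFractionRing.injective B0 L).comp (Ideal.quotientMap_injective' (H := le_rfl) le_rfl)
  let ι : K →+* L := IsFractionRing.lift he0
  let θ : B →+* L := (algebraMap B0 L).comp (Ideal.Quotient.mk P)
  have hθP : ∀ b, θ b = 0 ↔ b ∈ P := fun b => by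
    show algebraMap B0 L (Ideal.Quotient.mk P b) = 0 ↔ _
    rw [map_eq_zero_iff _ (IsFractionRing.injective B0 L)]
    exact Ideal.Quotient.eq_zero_iff_mem
  have hιθ : ∀ a : A, ι (algebraMap A0 K (Ideal.Quotient.mk p a)) = θ (algebraMap A B a) := fun a => by
    rw [IsFractionRing.lift_algebraMap]; rfl
  -- a valuation ring of `L` dominating `B0` at `P'`
  let P0 := P'.map (Ideal.Quotient.mk P)
  haveI : P0.IsPrime := Ideal.map_isPrime_of_surjective Ideal.Quotient.mk_surjective (by rw [Ideal.mk_ker]; exact hle)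
  have hP0 : P0.comap (Ideal.Quotient.mk P) = P' := by
    rw [Ideal.comap_map_of_surjective _ Ideal.Quotient.mk_surjective, ← RingHom.ker_eq_comap_bot, Ideal.mk_ker,
      sup_eq_left.2 hle]
  obtain ⟨V, hV, hVm⟩ := exists_valuationSubring_dominating (IsFractionRing.injective B0 L) P0
  have hθV : ∀ b, θ b ∈ V := fun b => hV _
  have hθm : ∀ b, (⟨θ b, hθV b⟩ : V) ∈ maximalIdeal V ↔ b ∈ P' := fun b => by
    rw [← hP0]
    exact hVm _
  exact exists_prime_between_aux P P' hle hne halg g hg p rfl (K := K) (L := L) ι θ hθP hιθ V hθV hθm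

end Groth.Agent.FlatFibres
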