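import Groth.Prelude.Def_FlatCA
import Mathlib

/-!
# Maps from projective to flat modules which are injective modulo every maximal ideal; content ideals
-/

set_option autoImplicit false
universe u

namespace Groth.Agent.FlatFibres.SpreadContent

open TensorProduct

variable {A : Type u} [CommRing A]

/-- A map from a finite free to a flat module, injective modulo every maximal ideal, is universally
injective. -/
theorem injective_lTensor_pi {n : ℕ} {M : Type u} [AddCommGroup M] [Module A M] [Module.Flat A M]
    (v : (Fin n → A) →ₗ[A] M) (hv : ∀ (m : Ideal A) [m.IsMaximal], Function.Injective (v.lTensor (A ⧸ m)))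
    (Q : Type u) [AddCommGroup Q] [Module A Q] : Function.Injective (v.lTensor Q) := by
  classical
  rw [injective_iff_map_eq_zero]
  intro z hz
  let e := TensorProduct.piScalarRight A A Q (Fin n)
  let q : Fin n → Q := e z
  have hzq : z = ∑ i, q i ⊗ₜ[A] (Pi.single i 1 : Fin n → A) := by
    refine e.injective ?_
    ext j
    simp [e, q, Finset.sum_apply, Pi.single_apply]
  suffices hq0 : ∀ i, q i = 0 by rw [hzq]; simp [hq0]
  let y : Fin n → M := fun i => v (Pi.single i 1)
  let N' := Submodule.span A (Set.range q)
  let q' : Fin n → N' := fun i => ⟨q i, Submodule.subset_span ⟨i, rfl⟩⟩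
  have hq' : Submodule.span A (Set.range q') = ⊤ := by
    rw [← Submodule.map_injective_of_injective (f := N'.subtype) N'.injective_subtype |>.eq_iff,
      Submodule.map_span, ← Set.range_comp, Submodule.map_top, Submodule.range_subtype]
    rfl
  have h0 : (∑ i, q' i ⊗ₜ[A] y i : N' ⊗[A] M) = 0 := by
    refine Module.Flat.rTensor_preserves_injective_linearMap N'.subtype N'.injective_subtype ?_
    rw [map_zero, ← hz, hzq]
    simp [map_sum, y, q']
  obtain ⟨κ, a, w, hyw, haq⟩ := TensorProduct.vanishesTrivially_of_sum_tmul_eq_zero A hq' h0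
  intro i
  by_contra hi
  obtain ⟨m, hm, hle⟩ := Ideal.exists_le_maximal (Ideal.torsionOf A Q (q i))
    (fun h => hi ((Ideal.torsionOf_eq_top_iff A _).mp h))
  letI := Ideal.Quotient.field m
  have hind : LinearIndependent (A ⧸ m) (fun i j => Ideal.Quotient.mk m (a i j)) := by
    rw [Fintype.linearIndependent_iff]
    intro c hc
    choose d hd using fun i => Ideal.Quotient.mk_surjective (c i)
    have hcol : ∀ j, Ideal.Quotient.mk m (∑ i, d i * a i j) = 0 := fun j => by
      have := congrFun hc j
      simpa [map_sum, map_mul, hd] using this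
    have himg : v.lTensor (A ⧸ m) (1 ⊗ₜ[A] ∑ i, d i • (Pi.single i 1 : Fin n → A)) = 0 := by
      rw [LinearMap.lTensor_tmul, map_sum]
      have hsum : ∑ i, v (d i • (Pi.single i 1 : Fin n → A)) = ∑ j, (∑ i, d i * a i j) • w j := by
        simp only [map_smul, Finset.sum_smul]
        rw [Finset.sum_comm]
        refine Finset.sum_congr rfl fun i _ => ?_
        rw [show v (Pi.single i 1) = ∑ j, a i j • w j from hyw i, Finset.smul_sum]
        simp only [smul_smul]
      rw [hsum, tmul_sum]
      refine Finset.sum_eq_zero fun j _ => ?_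
      rw [tmul_smul, smul_tmul', Algebra.smul_def, mul_one, Ideal.Quotient.algebraMap_eq, hcol j, zero_tmul]
    have h1 : (1 : A ⧸ m) ⊗ₜ[A] (∑ i, d i • (Pi.single i 1 : Fin n → A)) = 0 :=
      hv m (himg.trans (map_zero _).symm)
    intro i
    have h2 := congrArg (fun t => TensorProduct.piScalarRight A A (A ⧸ m) (Fin n) t i) h1
    rw [← hd i]
    simpa [Finset.sum_apply, Pi.single_apply, Algebra.smul_def] using h2
  obtain ⟨g, hg⟩ := (Fintype.linearCombination (A ⧸ m) fun i j => Ideal.Quotient.mk m (a i j)).exists_leftInverse_of_injective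
    (LinearMap.ker_eq_bot.mpr hind.fintypeLinearCombination_injective)
  choose c hc using fun (j : Fin κ) (k : Fin n) => Ideal.Quotient.mk_surjective (g (Pi.single j 1) k)
  let U : Matrix (Fin n) (Fin n) A := fun i k => ∑ j, a i j * c j k
  have hU : (Ideal.Quotient.mk m).mapMatrix U = 1 := by
    ext i k
    have h1 : g (fun j => Ideal.Quotient.mk m (a i j)) = Pi.single i 1 := by
      have := LinearMap.congr_fun hg (Pi.single i 1)
      rwa [LinearMap.comp_apply, Fintype.linearCombination_apply_single, one_smul, LinearMap.id_apply] at this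
    rw [← Finset.univ_sum_single (fun j => Ideal.Quotient.mk m (a i j)), map_sum] at h1
    have h2 := congrFun h1 k
    rw [Finset.sum_apply] at h2
    rw [RingHom.mapMatrix_apply, Matrix.map_apply]
    simp only [U, map_sum, map_mul, hc]
    have h3 : (1 : Matrix (Fin n) (Fin n) (A ⧸ m)) i k = (Pi.single i 1 : Fin n → A ⧸ m) k := by
      simp [Matrix.one_apply, Pi.single_apply, eq_comm]
    rw [h3, ← h2]
    refine Finset.sum_congr rfl fun j _ => ?_
    rw [← mul_one (Ideal.Quotient.mk m (a i j)), ← smul_eq_mul (b := (1 : A ⧸ m)), Pi.single_smul, map_smul,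
      Pi.smul_apply, smul_eq_mul, smul_eq_mul, mul_one]
  have hUq : ∀ k, ∑ i, U i k • q i = 0 := fun k => by
    simp only [U, Finset.sum_smul]
    rw [Finset.sum_comm]
    refine Finset.sum_eq_zero fun j _ => ?_
    have h := congrArg N'.subtype (haq j)
    simp only [map_sum, map_smul, map_zero, Submodule.subtype_apply] at h
    rw [Finset.sum_congr rfl fun i _ => by rw [mul_comm, mul_smul], ← Finset.smul_sum, h, smul_zero]
  have hdet : U.det • q i = 0 := by
    have h1 : ∀ l, ∑ k, U l k * U.adjugate k i = (1 : Matrix (Fin n) (Fin n) A) l i * U.det := fun l => by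
      rw [← Matrix.mul_apply, Matrix.mul_adjugate, Matrix.smul_apply, smul_eq_mul, mul_comm]
    calc U.det • q i = ∑ l, (∑ k, U l k * U.adjugate k i) • q l := by simp [h1, Matrix.one_apply]
      _ = ∑ k, U.adjugate k i • ∑ l, U l k • q l := by
        simp only [Finset.sum_smul, Finset.smul_sum, smul_smul]
        rw [Finset.sum_comm]
        simp only [mul_comm]
      _ = 0 := by simp [hUq]
  have : Ideal.Quotient.mk m U.det = 1 := by rw [RingHom.map_det, hU, Matrix.det_one]
  rw [Ideal.Quotient.eq_zero_iff_mem.mpr (hle ((Ideal.mem_torsionOf_iff _ _).mpr hdet))] at this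
  exact zero_ne_one this

theorem flat_prod (M M' : Type u) [AddCommGroup M] [Module A M] [Module.Flat A M] [AddCommGroup M'] [Module A M']
    [Module.Flat A M'] : Module.Flat A (M × M') := by
  refine Module.Flat.iff_rTensor_injective'.mpr fun I => ?_
  rw [injective_iff_map_eq_zero]
  intro z hz
  have h1 : (LinearMap.fst A M M').lTensor I z = 0 := by
    refine Module.Flat.rTensor_preserves_injective_linearMap I.subtype I.injective_subtype ?_
    rw [map_zero, ← LinearMap.comp_apply, LinearMap.rTensor_comp_lTensor, ← LinearMap.lTensor_comp_rTensor,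
      LinearMap.comp_apply, hz, map_zero]
  have h2 : (LinearMap.snd A M M').lTensor I z = 0 := by
    refine Module.Flat.rTensor_preserves_injective_linearMap I.subtype I.injective_subtype ?_
    rw [map_zero, ← LinearMap.comp_apply, LinearMap.rTensor_comp_lTensor, ← LinearMap.lTensor_comp_rTensor,
      LinearMap.comp_apply, hz, map_zero]
  calc z = (LinearMap.inl A M M' ∘ₗ LinearMap.fst A M M' + LinearMap.inr A M M' ∘ₗ LinearMap.snd A M M').lTensor I z := by
        rw [show LinearMap.inl A M M' ∘ₗ LinearMap.fst A M M' + LinearMap.inr A M M' ∘ₗ LinearMap.snd A M M' =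
          LinearMap.id from LinearMap.ext fun x => by simp, LinearMap.lTensor_id_apply]
    _ = 0 := by
        rw [LinearMap.lTensor_add, LinearMap.add_apply, LinearMap.lTensor_comp_apply, LinearMap.lTensor_comp_apply,
          h1, h2, map_zero, map_zero, add_zero]

/-- A map from a projective to a flat module, injective modulo every maximal ideal, is universally
injective. -/
theorem univInj_of_projective {P M : Type u} [AddCommGroup P] [Module A P] [Module.Projective A P]
    [AddCommGroup M] [Module A M] [Module.Flat A M] (v : P →ₗ[A] M)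
    (hv : ∀ (m : Ideal A) [m.IsMaximal], Function.Injective (v.lTensor (A ⧸ m))) : FlatCA.UnivInj A v := by
  classical
  obtain ⟨s, hs⟩ := Module.Projective.out (R := A) (P := P)
  let p := Finsupp.linearCombination A (id : P → P)
  have hps : p ∘ₗ s = LinearMap.id := LinearMap.ext hs
  let r : (P →₀ A) →ₗ[A] (P →₀ A) := LinearMap.id - s ∘ₗ p
  let V : (P →₀ A) →ₗ[A] M × (P →₀ A) := (v ∘ₗ p).prod r
  haveI : Module.Flat A (M × (P →₀ A)) := flat_prod _ _
  have hV : ∀ (m : Ideal A) [m.IsMaximal], Function.Injective (V.lTensor (A ⧸ m)) := by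
    intro m _
    rw [injective_iff_map_eq_zero]
    intro z hz
    have h1 := congrArg ((LinearMap.fst A M (P →₀ A)).lTensor (A ⧸ m)) hz
    have h2 := congrArg ((LinearMap.snd A M (P →₀ A)).lTensor (A ⧸ m)) hz
    rw [← LinearMap.comp_apply, ← LinearMap.lTensor_comp, map_zero] at h1 h2
    rw [LinearMap.fst_prod, LinearMap.lTensor_comp_apply] at h1
    rw [LinearMap.snd_prod, LinearMap.lTensor_sub, LinearMap.sub_apply, LinearMap.lTensor_id_apply,
      LinearMap.lTensor_comp_apply, sub_eq_zero] at h2
    rw [h2, hv m (h1.trans (map_zero _).symm), map_zero]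
  intro Q _ _
  rw [injective_iff_map_eq_zero]
  intro z hz
  obtain ⟨n, ι, z', hz', hι⟩ : ∃ (n : ℕ) (ι : (Fin n → A) →ₗ[A] (P →₀ A)) (z' : Q ⊗[A] (Fin n → A)),
      ι.lTensor Q z' = s.lTensor Q z ∧ ∃ π, π ∘ₗ ι = LinearMap.id := by
    let e := TensorProduct.finsuppScalarRight A A Q P
    let w := e (s.lTensor Q z)
    let b := w.support.equivFin
    let ι : (Fin w.support.card → A) →ₗ[A] (P →₀ A) :=
      Fintype.linearCombination A fun i => Finsupp.single (b.symm i : P) (1 : A)
    refine ⟨_, ι, ∑ i, w (b.symm i) ⊗ₜ[A] Pi.single i 1, ?_, LinearMap.pi fun i => Finsupp.lapply (b.symm i : P), ?_⟩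
    · refine e.injective ?_
      change _ = w
      rw [map_sum, map_sum]
      simp only [LinearMap.lTensor_tmul, ι, Fintype.linearCombination_apply_single, one_smul]
      conv_rhs => rw [← Finsupp.sum_single w, Finsupp.sum, ← Finset.sum_coe_sort, ← Equiv.sum_comp b.symm]
      refine Finset.sum_congr rfl fun i _ => ?_
      ext x
      simp [e, Finsupp.single_apply]
    · refine (Pi.basisFun A _).ext fun i => ?_
      ext j
      simp [ι, Fintype.linearCombination_apply_single, Finsupp.single_apply, Pi.single_apply,
        Subtype.coe_inj, b.symm.injective.eq_iff, eq_comm]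
  obtain ⟨π, hπ⟩ := hι
  have hVι : ∀ (m : Ideal A) [m.IsMaximal], Function.Injective ((V ∘ₗ ι).lTensor (A ⧸ m)) := fun m _ => by
    rw [LinearMap.lTensor_comp]
    refine (hV m).comp (Function.LeftInverse.injective (g := π.lTensor (A ⧸ m)) fun x => ?_)
    rw [← LinearMap.lTensor_comp_apply, hπ, LinearMap.lTensor_id_apply]
  have hz0 : (V ∘ₗ ι).lTensor Q z' = 0 := by
    rw [LinearMap.lTensor_comp_apply, hz', ← LinearMap.lTensor_comp_apply]
    have : V ∘ₗ s = LinearMap.inl A M (P →₀ A) ∘ₗ v := by
      refine LinearMap.ext fun x => ?_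
      simp [V, r, p, hs x]
    rw [this, LinearMap.lTensor_comp_apply, hz, map_zero]
  have : s.lTensor Q z = 0 := by
    rw [← hz', injective_lTensor_pi (V ∘ₗ ι) hVι Q (hz0.trans (map_zero _).symm), map_zero]
  have h := congrArg (p.lTensor Q) this
  rwa [← LinearMap.lTensor_comp_apply, hps, LinearMap.lTensor_id_apply, map_zero] at h

/-- Content ideals exist in a free module. -/
theorem exists_content_free {F : Type u} [AddCommGroup F] [Module A F] [Module.Free A F] (x : F) :
    ∃ I : Ideal A, x ∈ I • (⊤ : Submodule A F) ∧ ∀ J : Ideal A, x ∈ J • (⊤ : Submodule A F) → I ≤ J := by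
  let b := Module.Free.chooseBasis A F
  refine ⟨Ideal.span (Set.range (b.repr x)), ?_, fun J hJ => ?_⟩
  · suffices h : Finsupp.linearCombination A b (b.repr x) ∈
        Ideal.span (Set.range (b.repr x)) • (⊤ : Submodule A F) by rwa [b.linearCombination_repr] at h
    rw [Finsupp.linearCombination_apply]
    exact Submodule.sum_mem _ fun i _ =>
      Submodule.smul_mem_smul (Ideal.subset_span (Set.mem_range_self i)) trivial
  · refine Ideal.span_le.mpr ?_
    rintro _ ⟨i, rfl⟩
    refine Submodule.smul_induction_on hJ (fun r hr y _ => ?_) fun y y' hy hy' => ?_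
    · simp only [map_smul, Finsupp.smul_apply, smul_eq_mul]
      exact J.mul_mem_right _ hr
    · simp only [map_add, Finsupp.add_apply]
      exact add_mem hy hy'

/-- Content ideals exist in a projective module. -/
theorem exists_content_projective {P : Type u} [AddCommGroup P] [Module A P] [Module.Projective A P] (x : P) :
    ∃ I : Ideal A, x ∈ I • (⊤ : Submodule A P) ∧ ∀ J : Ideal A, x ∈ J • (⊤ : Submodule A P) → I ≤ J := by
  obtain ⟨s, hs⟩ := Module.Projective.out (R := A) (P := P)
  have key : ∀ J : Ideal A, x ∈ J • (⊤ : Submodule A P) ↔ s x ∈ J • (⊤ : Submodule A (P →₀ A)) := fun J => by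
    refine ⟨fun h => ?_, fun h => ?_⟩
    · have := Submodule.mem_map_of_mem (f := s) h
      rw [Submodule.map_smul''] at this
      exact Submodule.smul_mono le_rfl le_top this
    · have := Submodule.mem_map_of_mem (f := Finsupp.linearCombination A (id : P → P)) h
      rw [Submodule.map_smul'', hs x] at this
      exact Submodule.smul_mono le_rfl le_top this
  obtain ⟨I, hI, hmin⟩ := exists_content_free (A := A) (s x)
  exact ⟨I, (key I).mpr hI, fun J hJ => hmin J ((key J).mp hJ)⟩

/-- A universally injective map detects membership in `J M`. -/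
theorem mem_smul_of_univInj {M M' : Type u} [AddCommGroup M] [Module A M] [AddCommGroup M'] [Module A M']
    (g : M →ₗ[A] M') (hg : FlatCA.UnivInj A g) (J : Ideal A) (x : M) (h : g x ∈ J • (⊤ : Submodule A M')) :
    x ∈ J • (⊤ : Submodule A M) := by
  rw [← Submodule.Quotient.mk_eq_zero] at h ⊢
  have h2 : g.lTensor (A ⧸ J) (1 ⊗ₜ[A] x) = 0 := by
    rw [LinearMap.lTensor_tmul]
    refine (TensorProduct.quotTensorEquivQuotSMul M' J).injective ?_
    rw [map_zero, ← map_one (Ideal.Quotient.mk J), quotTensorEquivQuotSMul_mk_tmul, one_smul]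
    exact h
  have h3 := congrArg (TensorProduct.quotTensorEquivQuotSMul M J) ((hg (A ⧸ J)) (h2.trans (map_zero _).symm))
  rwa [map_zero, ← map_one (Ideal.Quotient.mk J), quotTensorEquivQuotSMul_mk_tmul, one_smul] at h3

theorem content_and_univInj {B : Type u} [CommRing B] [Algebra A B]
    (T : Submonoid B) (N : Type u) [AddCommGroup N] [Module (Localization T) N] [Module A N]
    [IsScalarTower A (Localization T) N] (h : FlatCA.HasPureSpreadout A B T N) :
    (∀ x : N, ∃ I : Ideal A, x ∈ I • (⊤ : Submodule A N) ∧ ∀ J : Ideal A, x ∈ J • (⊤ : Submodule A N) → I ≤ J) ∧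
    ∀ (M : Type u) [AddCommGroup M] [Module A M] [Module.Flat A M] (u : N →ₗ[A] M),
      (∀ (m : Ideal A) [m.IsMaximal], Function.Injective (u.lTensor (A ⧸ m))) → FlatCA.UnivInj A u := by
  classical
  obtain ⟨C, _, _, _, _, _, _, _, _, _, _, N', _, _, _, _, g, -, -, hbc, hP, hui⟩ := h
  let gA : N' →ₗ[A] N := g.restrictScalars A
  let act : Localization T → N →ₗ[A] N := fun l =>
    { toFun := fun x => l • x, map_add' := smul_add l, map_smul' := fun a x => smul_comm l a x }
  have hrep : ∀ x : N, ∃ (t : T) (n : N'), algebraMap B (Localization T) (t : B) • x = g n := fun x => by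
    induction x using hbc.inductionOn with
    | zero => exact ⟨1, 0, by simp⟩
    | tmul n => exact ⟨1, n, by simp⟩
    | smul l x hx =>
      obtain ⟨t, n, hn⟩ := hx
      obtain ⟨⟨b, t'⟩, hl⟩ := IsLocalization.surj T l
      refine ⟨t * t', algebraMap B C b • n, ?_⟩
      rw [map_smul, ← hn, smul_smul, ← algebraMap_smul (Localization T) (algebraMap B C b), smul_smul,
        ← IsScalarTower.algebraMap_apply B C (Localization T), ← hl, Submonoid.coe_mul, map_mul]
      congr 1; ring
    | add x y hx hy =>
      obtain ⟨t, n, hn⟩ := hx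
      obtain ⟨t', n', hn'⟩ := hy
      refine ⟨t * t', algebraMap B C (t' : B) • n + algebraMap B C (t : B) • n', ?_⟩
      rw [map_add, map_smul, map_smul, ← hn, ← hn', Submonoid.coe_mul, map_mul, smul_add, mul_smul,
        ← algebraMap_smul (Localization T) (algebraMap B C (t' : B)),
        ← algebraMap_smul (Localization T) (algebraMap B C (t : B)),
        ← IsScalarTower.algebraMap_apply B C (Localization T), ← IsScalarTower.algebraMap_apply B C (Localization T)]
      rw [smul_comm (algebraMap B (Localization T) (t' : B)), mul_smul]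
  choose t n hn using hrep
  let inv : T → Localization T := fun t => IsLocalization.mk' (Localization T) 1 t
  have hinv : ∀ x, inv (t x) • g (n x) = x := fun x => by
    rw [← hn x, smul_smul, IsLocalization.mk'_spec, map_one, one_smul]
  have hact : ∀ (l : Localization T) (J : Ideal A) (x : N), x ∈ J • (⊤ : Submodule A N) →
      l • x ∈ J • (⊤ : Submodule A N) := fun l J x hx => by
    have := Submodule.mem_map_of_mem (f := act l) hx
    rw [Submodule.map_smul''] at this
    exact Submodule.smul_mono le_rfl le_top this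
  refine ⟨fun x => ?_, fun M _ _ _ u hu => ?_⟩
  · obtain ⟨I, hI, hmin⟩ := exists_content_projective (A := A) (n x)
    refine ⟨I, ?_, fun J hJ => hmin J (mem_smul_of_univInj gA hui J _ ?_)⟩
    · have := Submodule.mem_map_of_mem (f := gA) hI
      rw [Submodule.map_smul''] at this
      rw [← hinv x]
      exact hact _ I _ (Submodule.smul_mono le_rfl le_top this)
    · change g (n x) ∈ _
      rw [← hn x]
      exact hact _ J x hJ
  · have hcomp : ∀ t : T, FlatCA.UnivInj A (u ∘ₗ act (inv t) ∘ₗ gA) := fun t => by
      refine univInj_of_projective _ fun m _ => ?_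
      rw [LinearMap.lTensor_comp, LinearMap.lTensor_comp]
      simp only [LinearMap.coe_comp]
      refine (hu m).comp (Function.Injective.comp ?_ (hui _))
      refine Function.LeftInverse.injective (g := (act (algebraMap B (Localization T) (t : B))).lTensor (A ⧸ m))
        fun x => ?_
      rw [← LinearMap.lTensor_comp_apply]
      refine LinearMap.congr_fun (f := LinearMap.lTensor (A ⧸ m) _) (g := LinearMap.id) ?_ x
      rw [show act (algebraMap B (Localization T) (t : B)) ∘ₗ act (inv t) = LinearMap.id from ?_, LinearMap.lTensor_id]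
      refine LinearMap.ext fun y => ?_
      change algebraMap B (Localization T) (t : B) • inv t • y = y
      rw [smul_smul, mul_comm, IsLocalization.mk'_spec, map_one, one_smul]
    intro Q _ _
    rw [injective_iff_map_eq_zero]
    intro z hz
    obtain ⟨t₀, z', rfl⟩ : ∃ (t₀ : T) (z' : Q ⊗[A] N'), (act (inv t₀) ∘ₗ gA).lTensor Q z' = z := by
      clear hz
      induction z with
      | zero => exact ⟨1, 0, map_zero _⟩
      | tmul q x => exact ⟨t x, q ⊗ₜ n x, by rw [LinearMap.lTensor_tmul]; exact congrArg (q ⊗ₜ[A] ·) (hinv x)⟩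
      | add z₁ z₂ h₁ h₂ =>
        obtain ⟨t₁, w₁, rfl⟩ := h₁
        obtain ⟨t₂, w₂, rfl⟩ := h₂
        let m : T → N' →ₗ[A] N' := fun t =>
          { toFun := fun x => algebraMap B C (t : B) • x, map_add' := smul_add _,
            map_smul' := fun a x => smul_comm _ a x }
        have key : ∀ t t' : T, act (inv (t * t')) ∘ₗ gA ∘ₗ m t' = act (inv t) ∘ₗ gA := fun t t' => by
          refine LinearMap.ext fun x => ?_
          change inv (t * t') • g (algebraMap B C (t' : B) • x) = inv t • g x
          rw [map_smul, ← algebraMap_smul (Localization T) (algebraMap B C (t' : B)),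
            ← IsScalarTower.algebraMap_apply B C (Localization T), smul_smul]
          congr 1
          rw [IsLocalization.eq_mk'_iff_mul_eq, mul_assoc, ← map_mul, mul_comm (t' : B), ← Submonoid.coe_mul,
            IsLocalization.mk'_spec]
        refine ⟨t₁ * t₂, (m t₂).lTensor Q w₁ + (m t₁).lTensor Q w₂, ?_⟩
        rw [map_add, ← LinearMap.lTensor_comp_apply, ← LinearMap.lTensor_comp_apply, LinearMap.comp_assoc,
          key, LinearMap.comp_assoc, mul_comm t₁ t₂, key]
    rw [hcomp t₀ Q (((LinearMap.lTensor_comp_apply _ _ _ _).trans hz).trans (map_zero _).symm), map_zero]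

end Groth.Agent.FlatFibres.SpreadContent
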