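import Groth.Agent.WEtLib.Basic
import Groth.Agent.H9Misc.DRingTor
import Groth.Agent.H9Misc.DRingRelPC
import Groth.Agent.PerfD40.AmpMore
import Groth.Agent.Hensel.Colim
import Groth.Agent.Hensel.HenselizationDescent
import Groth.Agent.S0736

/-!
Tor amplitude is unchanged along weakly étale algebras.
-/

set_option linter.style.haveILetI false
set_option backward.isDefEq.respectTransparency false

universe u

open CategoryTheory CategoryTheory.Limits CochainComplex
open Groth.Agent

attribute [local instance] HasDerivedCategory.standard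

namespace FlatFibres.TorAmpWEtale

open PerfD40

theorem weaklyEtale_of_isHenzLike {R S : Type u} [CommRing R] [IsLocalRing R] [CommRing S]
    [Algebra R S] (h : Hensel.IsHenzLike R S) : Algebra.WeaklyEtale R S := by
  obtain ⟨L, _, _, _, _, ⟨e⟩⟩ := h
  exact Groth.Agent.S0736.result R S (Hensel.isIndEtale_of_algEquiv (Hensel.isIndEtale_henz R L) e)

variable {A B : Type u} [CommRing A] [CommRing B] [Algebra A B]

theorem restrict_of_hasTorAmplitudeIn [Module.Flat A B] {a b : ℤ} (K : Dual.D B)
    (h : DRing.HasTorAmplitudeIn B a b K) :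
    DRing.HasTorAmplitudeIn A a b ((DRing.restrictD (algebraMap A B)).obj K) := by
  obtain ⟨E, h1, h2, hf, e⟩ := (hasTorAmplitudeIn_iff_amp B a b K).1 h
  refine restrict_of_amp K ⟨E, h1, h2, fun n => ?_, e⟩
  haveI : Module.Flat B (E.X n) := hf n
  letI : Module A (E.X n) := Module.compHom _ (algebraMap A B)
  haveI : IsScalarTower A B (E.X n) := IsScalarTower.of_algebraMap_smul fun _ _ => rfl
  exact Module.Flat.trans A B (E.X n)

theorem hasTorAmplitudeIn_of_restrict [Algebra.WeaklyEtale A B] {a b : ℤ} (K : Dual.D B)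
    (h : DRing.HasTorAmplitudeIn A a b ((DRing.restrictD (algebraMap A B)).obj K)) :
    DRing.HasTorAmplitudeIn B a b K := by
  let G := ModuleCat.restrictScalars.{u} (algebraMap A B)
  have h' := (hasTorAmplitudeIn_iff_amp A a b _).1 h
  have hz : ∀ i, i < a ∨ b < i →
      IsZero ((DerivedCategory.homologyFunctor (ModuleCat.{u} B) i).obj K) := fun i hi => by
    have h0 := ((h'.isZero_homology i hi).of_iso
      (((G.mapDerivedCategory ⋙ DerivedCategory.homologyFunctor _ i).mapIso
        (DerivedCategory.Q.objObjPreimageIso K)) ≪≫ Iso.refl _)).of_iso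
      ((((DerivedCategory.homologyFunctorFactors _ i).app _).symm ≪≫
          (DerivedCategory.homologyFunctor _ i).mapIso
            (G.mapDerivedCategoryFactors.app (DerivedCategory.Q.objPreimage K)).symm))
    refine IsZero.of_iso ?_ ((DerivedCategory.homologyFunctor _ i).mapIso
      (DerivedCategory.Q.objObjPreimageIso K).symm ≪≫
        (DerivedCategory.homologyFunctorFactors _ i).app _)
    have h1 : IsZero (G.obj ((DerivedCategory.Q.objPreimage K).homology i)) :=
      h0.of_iso (((DerivedCategory.Q.objPreimage K).sc i).mapHomologyIso G).symm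
    haveI := ModuleCat.subsingleton_of_isZero h1
    exact @ModuleCat.isZero_of_subsingleton _ _ ((DerivedCategory.Q.objPreimage K).homology i)
      (inferInstanceAs (Subsingleton (G.obj _ : Type u)))
  haveI : K.IsLE b := (DerivedCategory.isLE_iff K b).2 fun i hi => hz i (Or.inr hi)
  obtain ⟨P, hP, hPf, ⟨e⟩⟩ := (ampClass_flat B).exists_rep K b
  let P' := (G.mapHomologicalComplex (ComplexShape.up ℤ)).obj P
  have hP'f : ∀ n, Module.Flat A (P'.X n) := fun n => by
    haveI : Module.Flat B (P.X n) := hPf n
    letI : Module A (P.X n) := Module.compHom _ (algebraMap A B)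
    haveI : IsScalarTower A B (P.X n) := IsScalarTower.of_algebraMap_smul fun _ _ => rfl
    exact Module.Flat.trans A B (P.X n)
  have hkf := H9Misc.DRingTor.isKF_of_flat (E := P') hP'f (b := b) fun i hi =>
    G.map_isZero (P.isZero_of_isStrictlyLE b i hi)
  have hvan := (H9Misc.DRingTor.iff_van hkf
    ((G.mapDerivedCategoryFactors.app P).symm ≪≫ (DRing.restrictD (algebraMap A B)).mapIso e)).1 h
  have hop : Module.Flat A (P'.opcycles a) :=
    H9Misc.DRingTor.flat_opcycles hP'f a fun M => hvan M (a - 1) (Or.inl (by omega))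
  have hop' : Module.Flat B (P.opcycles a) := by
    letI : Module A (P.opcycles a) := Module.compHom _ (algebraMap A B)
    haveI : IsScalarTower A B (P.opcycles a) := IsScalarTower.of_algebraMap_smul fun _ _ => rfl
    haveI : Module.Flat A (P.opcycles a) :=
      (ampClass_flat A).of_iso ((P.sc a).mapOpcyclesIso G) hop
    exact WEtLib.flat_of_flat (A := A) (P.opcycles a)
  exact (hasTorAmplitudeIn_iff_amp B a b K).2
    ((ampClass_flat B).amp_of_opcycles e a b hPf hop' fun i hi => hz i (Or.inl hi))

theorem iff_restrict [Algebra.WeaklyEtale A B] (a b : ℤ) (K : Dual.D B) :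
    DRing.HasTorAmplitudeIn A a b ((DRing.restrictD (algebraMap A B)).obj K) ↔
      DRing.HasTorAmplitudeIn B a b K :=
  ⟨hasTorAmplitudeIn_of_restrict K, restrict_of_hasTorAmplitudeIn K⟩

end FlatFibres.TorAmpWEtale
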