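import Groth.Agent.S2755
import Groth.Agent.SrcDescent.Scheme

/-!
# Unramified morphisms over geometrically unibranch points
-/

set_option autoImplicit false
set_option backward.isDefEq.respectTransparency false
set_option backward.isDefEq.respectTransparency.types false
universe u

open CategoryTheory CategoryTheory.Limits AlgebraicGeometry

namespace Groth.Agent.FlatFibres

theorem etale_nhd_local {X Y : Scheme.{u}} (f : X ⟶ Y) [IsIntegral Y] [LocallyOfFiniteType f] [FormallyUnramified f]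
    (x : X) (hY : CAlg2.IsGeomUnibranch (Y.presheaf.stalk (f x)))
    (hinj : Function.Injective (f.stalkMap x)) : ∃ U : X.Opens, x ∈ U ∧ Etale (U.ι ≫ f) := by
  obtain ⟨W, hW, hxW, -⟩ := exists_isAffineOpen_mem_and_subset (x := f x) (U := ⊤) trivial
  obtain ⟨V, hV, hxV, hVW⟩ := exists_isAffineOpen_mem_and_subset (x := x) (U := f ⁻¹ᵁ W) hxW
  haveI : Nonempty W.toScheme := ⟨⟨f x, hxW⟩⟩
  haveI : IsDomain Γ(Y, W) := inferInstance
  have hFT := f.finiteType_appLE hW hV hVW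
  algebraize [(f.appLE W V hVW).hom]
  let p := (hW.primeIdealOf ⟨f x, hVW hxV⟩).asIdeal
  let q := (hV.primeIdealOf ⟨x, hxV⟩).asIdeal
  have : q.LiesOver p :=
    ⟨congr($(IsAffineOpen.comap_primeIdealOf_appLE W hW V hV hVW hxV).1).symm⟩
  let := Localization.AtPrime.algebraOfLiesOver p q
  have h1 : Algebra.FormallyUnramified (Localization.AtPrime p) (Localization.AtPrime q) := by
    rw [← RingHom.formallyUnramified_algebraMap]
    exact (RingHom.FormallyUnramified.respectsIso.arrow_mk_iso_iff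
      (IsAffineOpen.arrowStalkMapIso f W hW V hV hVW hxV)).mp (FormallyUnramified.stalkMap f x)
  haveI : Algebra.IsUnramifiedAt Γ(Y, W) q :=
    Algebra.FormallyUnramified.comp _ (Localization.AtPrime p) _
  have hinj' : Function.Injective (Localization.localRingHom p q (algebraMap Γ(Y, W) Γ(X, V)) (q.over_def p)) :=
    (RingHom.injective_respectsIso.arrow_mk_iso_iff
      (IsAffineOpen.arrowStalkMapIso f W hW V hV hVW hxV)).mp hinj
  obtain ⟨r, hr, he⟩ := UnibEtale.exists_away_etale Γ(Y, W) Γ(X, V) q p (q.over_def p)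
    (UnibEtale.isGeomUnibranch_of_ringEquiv (UnibEtale.stalkEquiv hW (hVW hxV)) hY) hinj'
  have hle : X.basicOpen r ≤ f ⁻¹ᵁ W := (X.basicOpen_le r).trans hVW
  refine ⟨X.basicOpen r, StalkLoc7.mem_basicOpen hV hxV hr, ?_⟩
  haveI : IsAffine W.toScheme := hW
  haveI : IsAffine (X.basicOpen r).toScheme := hV.basicOpen r
  rw [← Scheme.Hom.resLE_comp_ι f hle]
  haveI : Etale (f.resLE W (X.basicOpen r) hle) := by
    rw [HasRingHomProperty.iff_of_isAffine (P := @Etale)]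
    refine (RingHom.Etale.respectsIso.arrow_mk_iso_iff
      (arrowResLEAppIso f W (X.basicOpen r) hle)).mpr ?_
    have := hV.isLocalization_basicOpen r
    convert RingHom.Etale.respectsIso.1 _
      (IsLocalization.algEquiv (.powers r) _ Γ(X, X.basicOpen r)).toRingEquiv he
    ext a
    exact StalkLoc7.appLE_eq f hVW r a
  infer_instance


theorem injective_stalkMap_of_generization {X Y : Scheme.{u}} (f : X ⟶ Y) [IsIntegral Y] {x x' : X}
    (hs : x' ⤳ x) (hη : f x' = genericPoint Y) : Function.Injective (f.stalkMap x) := by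
  have h1 : Function.Injective (f.stalkMap x') := by
    have hF : IsField (Y.presheaf.stalk (f.base x')) := by rw [hη]; exact Field.toIsField Y.functionField
    letI := hF.toField
    exact (f.stalkMap x').hom.injective
  have h2 : Function.Injective (Y.presheaf.stalkSpecializes (hs.map f.continuous)) := by
    rw [injective_iff_map_eq_zero]
    intro a ha
    obtain ⟨W, hW, s, rfl⟩ := Y.presheaf.germ_exist a
    rw [TopCat.Presheaf.germ_stalkSpecializes_apply, ← map_zero (Y.presheaf.germ W (f x') ((hs.map f.continuous).mem_open W.2 hW)).hom] at ha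
    rw [germ_injective_of_isIntegral Y (f x') _ ha, map_zero]
  intro a b hab
  refine h2 (h1 ?_)
  have key := fun c => Scheme.Hom.stalkSpecializes_stalkMap_apply f x' x hs c
  exact (key a).trans ((congrArg _ hab).trans (key b).symm)

theorem etaleAt_of_unramifiedAt {X Y : Scheme.{u}} (f : X ⟶ Y) [IsIntegral Y] [LocallyOfFiniteType f] (x : X)
    (hY : CAlg2.IsGeomUnibranch (Y.presheaf.stalk (f x))) (hsp : ∃ x' : X, x' ⤳ x ∧ f x' = genericPoint ↑Y)
    (hunr : ∃ U : X.Opens, x ∈ U ∧ FormallyUnramified (U.ι ≫ f)) :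
    ∃ U : X.Opens, x ∈ U ∧ Etale (U.ι ≫ f) := by
  obtain ⟨U, hxU, hU⟩ := hunr
  obtain ⟨x', hs, hη⟩ := hsp
  have hx'U : x' ∈ U := hs.mem_open U.2 hxU
  have hinj : Function.Injective ((U.ι ≫ f).stalkMap ⟨x, hxU⟩) :=
    injective_stalkMap_of_generization (U.ι ≫ f) (x := ⟨x, hxU⟩) (x' := ⟨x', hx'U⟩)
      (Topology.IsInducing.subtypeVal.specializes_iff.1 hs) hη
  obtain ⟨V, hxV, hV⟩ := etale_nhd_local (U.ι ≫ f) ⟨x, hxU⟩ hY hinj
  refine ⟨U.ι ''ᵁ V, ⟨⟨x, hxU⟩, hxV, rfl⟩, ?_⟩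
  have : (U.ι ''ᵁ V).ι ≫ f = (U.ι.isoImage V).inv ≫ V.ι ≫ U.ι ≫ f := by
    rw [Scheme.Hom.isoImage_inv_ι_assoc]
  rw [this]
  infer_instance

theorem etaleAt_of_comp {X Y Z : Scheme.{u}} (f : X ⟶ Y) (g : Y ⟶ Z) [IsIntegral Y] (x : X)
    (hY : CAlg2.IsGeomUnibranch (Y.presheaf.stalk (f x))) (het : ∃ U : X.Opens, x ∈ U ∧ Etale (U.ι ≫ f ≫ g))
    (hsp : ∃ x' : X, x' ⤳ x ∧ f x' = genericPoint ↑Y) :
    (∃ U : X.Opens, x ∈ U ∧ Etale (U.ι ≫ f)) ∧ ∃ V : Y.Opens, f x ∈ V ∧ Etale (V.ι ≫ g) := by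
  obtain ⟨U, hxU, hU⟩ := het
  obtain ⟨x', hs, hη⟩ := hsp
  have hx'U : x' ∈ U := hs.mem_open U.2 hxU
  let j := U.ι ≫ f
  haveI : Etale (j ≫ g) := by rw [Category.assoc]; exact hU
  haveI : LocallyOfFiniteType j := locallyOfFiniteType_of_comp j g
  haveI : FormallyUnramified j := FormallyUnramified.of_comp j g
  obtain ⟨U₁, hxU₁, hU₁⟩ := etale_nhd_local j ⟨x, hxU⟩ hY
    (injective_stalkMap_of_generization j (x := ⟨x, hxU⟩) (x' := ⟨x', hx'U⟩)
      (Topology.IsInducing.subtypeVal.specializes_iff.1 hs) hη)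
  let W := U.ι ''ᵁ U₁
  have hW : W.ι ≫ f = (U.ι.isoImage U₁).inv ≫ U₁.ι ≫ j := by
    rw [Scheme.Hom.isoImage_inv_ι_assoc]
  haveI : Etale (W.ι ≫ f) := by rw [hW]; infer_instance
  have hWg : Etale ((W.ι ≫ f) ≫ g) := by rw [hW, Category.assoc, Category.assoc]; infer_instance
  let V : Y.Opens := ⟨Set.range (W.ι ≫ f), (W.ι ≫ f).isOpenMap.isOpen_range⟩
  refine ⟨⟨W, ⟨⟨x, hxU⟩, hxU₁, rfl⟩, inferInstance⟩, V, ⟨⟨x, ⟨x, hxU⟩, hxU₁, rfl⟩, rfl⟩, ?_⟩
  let r := IsOpenImmersion.lift V.ι (W.ι ≫ f) (by rw [Scheme.Opens.range_ι]; rfl)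
  have hr : r ≫ V.ι = W.ι ≫ f := IsOpenImmersion.lift_fac _ _ _
  haveI : Etale (r ≫ V.ι) := by rw [hr]; infer_instance
  haveI : Etale r := Etale.of_comp r V.ι
  haveI : Surjective r := ⟨fun ⟨y, z, hz⟩ => ⟨z, V.ι.isOpenEmbedding.injective
    ((congrArg (fun m : _ ⟶ Y => m z) hr).trans hz)⟩⟩
  refine SrcDescent.etale_of_etale_comp r _ ?_
  rw [← Category.assoc, hr]
  exact hWg

end Groth.Agent.FlatFibres
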