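import Mathlib
import Groth.Agent.SchFinLib.Pairs

/-!
# Universal openness of a finite algebra is detected by the generic linear form
-/

set_option autoImplicit false
universe u

open AlgebraicGeometry CategoryTheory Limits TensorProduct MorphismProperty

namespace Groth.Agent.FlatFibres

variable {A B : Type u} [CommRing A] [CommRing B] [Algebra A B]

theorem isOpenMap_comap_includeRight {d : ℕ} (b : Fin d → B) (hb : Submodule.span A (Set.range b) = ⊤)
    (ho : IsOpen (PrimeSpectrum.comap (MvPolynomial.map (σ := Fin d) (algebraMap A B)) ''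
      (PrimeSpectrum.basicOpen (∑ i : Fin d, MvPolynomial.X i * MvPolynomial.C (b i)) : Set (PrimeSpectrum (MvPolynomial (Fin d) B)))))
    (A' : Type u) [CommRing A'] [Algebra A A'] :
    IsOpenMap (PrimeSpectrum.comap (Algebra.TensorProduct.includeRight : A' →ₐ[A] B ⊗[A] A').toRingHom) := by
  rw [PrimeSpectrum.isTopologicalBasis_basic_opens.isOpenMap_iff]
  rintro _ ⟨f, rfl⟩
  have hgen : ∃ a : Fin d → A', f = ∑ i, b i ⊗ₜ[A] a i := by
    induction f with
    | zero => exact ⟨0, by simp⟩
    | add x y hx hy =>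
      obtain ⟨a, rfl⟩ := hx; obtain ⟨a', rfl⟩ := hy
      exact ⟨a + a', by simp [tmul_add, Finset.sum_add_distrib]⟩
    | tmul x a =>
      obtain ⟨c, hc⟩ := (Submodule.mem_span_range_iff_exists_fun A).mp (hb ▸ Submodule.mem_top : x ∈ Submodule.span A (Set.range b))
      exact ⟨fun i => c i • a, by simp_rw [← hc, sum_tmul, smul_tmul]⟩
  obtain ⟨a, rfl⟩ := hgen
  let h : MvPolynomial (Fin d) B := ∑ i : Fin d, MvPolynomial.X i * MvPolynomial.C (b i)
  let ψ : MvPolynomial (Fin d) A →+* A' := (MvPolynomial.aeval a).toRingHom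
  let Ψ : MvPolynomial (Fin d) B →+* B ⊗[A] A' :=
    MvPolynomial.eval₂Hom Algebra.TensorProduct.includeLeftRingHom fun i => 1 ⊗ₜ a i
  have hΨh : Ψ h = ∑ i, b i ⊗ₜ[A] a i := by
    simp [Ψ, h, Algebra.TensorProduct.tmul_mul_tmul]
  have hcomm : Ψ.comp (MvPolynomial.map (algebraMap A B)) =
      (Algebra.TensorProduct.includeRight : A' →ₐ[A] B ⊗[A] A').toRingHom.comp ψ := by
    refine MvPolynomial.ringHom_ext (fun r => ?_) fun i => ?_
    · simp only [RingHom.comp_apply, Ψ, ψ, MvPolynomial.map_C, MvPolynomial.eval₂Hom_C, AlgHom.toRingHom_eq_coe,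
        RingHom.coe_coe, MvPolynomial.aeval_C, AlgHom.commutes]
      exact (Algebra.TensorProduct.algebraMap_apply r).symm
    · simp [Ψ, ψ]
  suffices hset : PrimeSpectrum.comap (Algebra.TensorProduct.includeRight : A' →ₐ[A] B ⊗[A] A').toRingHom ''
      (PrimeSpectrum.basicOpen (∑ i, b i ⊗ₜ[A] a i) : Set (PrimeSpectrum (B ⊗[A] A'))) =
      PrimeSpectrum.comap ψ ⁻¹' (PrimeSpectrum.comap (MvPolynomial.map (σ := Fin d) (algebraMap A B)) ''
        (PrimeSpectrum.basicOpen h : Set (PrimeSpectrum (MvPolynomial (Fin d) B)))) by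
    rw [hset]
    exact ho.preimage (PrimeSpectrum.continuous_comap ψ)
  ext q
  constructor
  · rintro ⟨t, ht, rfl⟩
    refine ⟨PrimeSpectrum.comap Ψ t, ?_, ?_⟩
    · show Ψ h ∉ t.asIdeal
      rw [hΨh]; exact ht
    · rw [← PrimeSpectrum.comap_comp_apply, hcomm, PrimeSpectrum.comap_comp_apply]
  · rintro ⟨r, hr, hrq⟩
    letI : Algebra (MvPolynomial (Fin d) A) (MvPolynomial (Fin d) B) := (MvPolynomial.map (algebraMap A B)).toAlgebra
    letI : Algebra (MvPolynomial (Fin d) A) A' := ψ.toAlgebra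
    obtain ⟨t₀, htr, htq⟩ := SchFinLib.exists_prime_tensor (A := MvPolynomial (Fin d) A) r q hrq
    let T := MvPolynomial (Fin d) B ⊗[MvPolynomial (Fin d) A] A'
    let ι₁ : MvPolynomial (Fin d) B →+* T := Algebra.TensorProduct.includeLeftRingHom
    let ι₂ : A' →+* T :=
      (Algebra.TensorProduct.includeRight : A' →ₐ[MvPolynomial (Fin d) A] T).toRingHom
    have hsq : ι₁.comp (MvPolynomial.map (algebraMap A B)) = ι₂.comp ψ :=
      RingHom.ext fun z => (Algebra.TensorProduct.includeLeft (R := MvPolynomial (Fin d) A)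
        (S := MvPolynomial (Fin d) A) (A := MvPolynomial (Fin d) B) (B := A')).commutes z |>.trans
        ((Algebra.TensorProduct.includeRight (R := MvPolynomial (Fin d) A) (A := MvPolynomial (Fin d) B) (B := A')).commutes z).symm
    letI : Algebra A T := (ι₂.comp (algebraMap A A')).toAlgebra
    have hA : ∀ r, ι₁ (MvPolynomial.C (algebraMap A B r)) = ι₂ (algebraMap A A' r) := fun r => by
      have := RingHom.congr_fun hsq (MvPolynomial.C r)
      simpa [ψ] using this
    let e₁ : B →ₐ[A] T :=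
      { toRingHom := ι₁.comp MvPolynomial.C, commutes' := fun r => hA r }
    let e₂ : A' →ₐ[A] T := { toRingHom := ι₂, commutes' := fun _ => rfl }
    let Φ : B ⊗[A] A' →ₐ[A] T := Algebra.TensorProduct.lift e₁ e₂ fun _ _ => Commute.all _ _
    refine ⟨PrimeSpectrum.comap Φ.toRingHom t₀, ?_, ?_⟩
    · show Φ (∑ i, b i ⊗ₜ[A] a i) ∉ t₀.asIdeal
      have hΦ : Φ (∑ i, b i ⊗ₜ[A] a i) = ι₁ h := by
        rw [map_sum]
        simp only [h, map_sum, map_mul]
        refine Finset.sum_congr rfl fun i _ => ?_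
        have hx : ι₁ (MvPolynomial.X i) = ι₂ (a i) := by
          have := RingHom.congr_fun hsq (MvPolynomial.X i)
          simpa [ψ] using this
        rw [hx, mul_comm]
        exact Algebra.TensorProduct.lift_tmul _ _ _ _ _
      rw [hΦ]
      intro hmem
      exact hr (congrArg PrimeSpectrum.asIdeal htr ▸ hmem)
    · rw [← PrimeSpectrum.comap_comp_apply, show Φ.toRingHom.comp
        (Algebra.TensorProduct.includeRight : A' →ₐ[A] B ⊗[A] A').toRingHom = ι₂ from RingHom.ext fun z => by
          show Φ (1 ⊗ₜ z) = _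
          rw [Algebra.TensorProduct.lift_tmul, map_one, one_mul]; rfl]
      exact htq

theorem isOpenMap_pullback_snd (A' : Type u) [CommRing A'] [Algebra A A']
    (h : IsOpenMap (PrimeSpectrum.comap (Algebra.TensorProduct.includeRight : A' →ₐ[A] B ⊗[A] A').toRingHom)) :
    IsOpenMap (pullback.snd (Spec.map (CommRingCat.ofHom (algebraMap A B)))
      (Spec.map (CommRingCat.ofHom (algebraMap A A')))) := by
  rw [← pullbackSpecIso_hom_snd A B A', Scheme.Hom.comp_base, TopCat.coe_comp]
  exact h.comp (pullbackSpecIso A B A').hom.isOpenEmbedding.isOpenMap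

theorem isOpenMap_pullback_snd_affine
    (h : ∀ (A' : Type u) [CommRing A'] [Algebra A A'],
      IsOpenMap (PrimeSpectrum.comap (Algebra.TensorProduct.includeRight : A' →ₐ[A] B ⊗[A] A').toRingHom))
    {Z : Scheme.{u}} [IsAffine Z] (q : Z ⟶ Spec (CommRingCat.of A)) :
    IsOpenMap (pullback.snd (Spec.map (CommRingCat.ofHom (algebraMap A B))) q) := by
  obtain ⟨φ, hφ⟩ := Spec.map_surjective (Z.isoSpec.inv ≫ q)
  letI : Algebra A Γ(Z, ⊤) := φ.hom.toAlgebra
  let e : pullback (Spec.map (CommRingCat.ofHom (algebraMap A B))) q ≅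
      pullback (Spec.map (CommRingCat.ofHom (algebraMap A B))) (Spec.map φ) :=
    asIso (pullback.map _ _ _ _ (𝟙 _) Z.isoSpec.hom (𝟙 _) (by simp) (by rw [hφ, Iso.hom_inv_id_assoc, Category.comp_id]))
  have e1 : pullback.snd (Spec.map (CommRingCat.ofHom (algebraMap A B))) q =
      e.hom ≫ pullback.snd _ (Spec.map φ) ≫ Z.isoSpec.inv := by
    rw [← Category.assoc, show e.hom ≫ pullback.snd _ (Spec.map φ) = pullback.snd _ q ≫ Z.isoSpec.hom from
      pullback.lift_snd _ _ _, Category.assoc, Iso.hom_inv_id, Category.comp_id]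
  rw [e1, Scheme.Hom.comp_base, TopCat.coe_comp, Scheme.Hom.comp_base, TopCat.coe_comp]
  exact (Z.isoSpec.inv.isOpenEmbedding.isOpenMap.comp (isOpenMap_pullback_snd _ (h _))).comp
    e.hom.isOpenEmbedding.isOpenMap

theorem universallyOpen_of_isOpenMap_comap
    (h : ∀ (A' : Type u) [CommRing A'] [Algebra A A'],
      IsOpenMap (PrimeSpectrum.comap (Algebra.TensorProduct.includeRight : A' →ₐ[A] B ⊗[A] A').toRingHom)) :
    UniversallyOpen (Spec.map (CommRingCat.ofHom (algebraMap A B))) := by
  rw [universallyOpen_iff]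
  haveI : IsZariskiLocalAtTarget (topologically @IsOpenMap) :=
    topologically_isZariskiLocalAtTarget' _ fun _ _ _ hU _ => hU.isOpenMap_iff_restrictPreimage
  refine universally_mk' _ _ fun {T} f _ => ?_
  refine IsZariskiLocalAtTarget.of_openCover T.affineCover fun i => ?_
  let g := Spec.map (CommRingCat.ofHom (algebraMap A B))
  have h2 : IsPullback (pullback.fst (pullback.fst f g) (T.affineCover.f i) ≫ pullback.snd f g)
      (pullback.snd (pullback.fst f g) (T.affineCover.f i)) g (T.affineCover.f i ≫ f) :=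
    (IsPullback.of_hasPullback (pullback.fst f g) (T.affineCover.f i)).paste_horiz
      (IsPullback.of_hasPullback f g).flip
  have hopen : IsOpenMap (pullback.snd g (T.affineCover.f i ≫ f)) := isOpenMap_pullback_snd_affine h _
  show IsOpenMap (pullback.snd (pullback.fst f g) (T.affineCover.f i))
  rw [← h2.isoPullback_hom_snd, Scheme.Hom.comp_base, TopCat.coe_comp]
  exact hopen.comp h2.isoPullback.hom.isOpenEmbedding.isOpenMap

end Groth.Agent.FlatFibres
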