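import Groth.Agent.RG11.PureUI
import Groth.Agent.FlatFibres.SpreadContent

/-!
# Injectivity modulo the maximal ideal and flatness of the cokernel
-/

set_option autoImplicit false
universe u

namespace Groth.Agent.FlatFibres.ValUI

open TensorProduct IsLocalRing

/-- The cokernel of a universally injective map into a flat module is flat. -/
theorem flat_quotient_range {A : Type u} [CommRing A] {N M : Type u} [AddCommGroup N] [Module A N]
    [AddCommGroup M] [Module A M] [Module.Flat A M] (u : N →ₗ[A] M) (hu : FlatCA.UnivInj A u) :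
    Module.Flat A (M ⧸ LinearMap.range u) := by
  refine Module.Flat.iff_rTensor_injective'.mpr fun I => ?_
  rw [injective_iff_map_eq_zero]
  intro z hz
  obtain ⟨w, rfl⟩ := LinearMap.lTensor_surjective I (Submodule.mkQ_surjective (LinearMap.range u)) z
  let μ : A ⊗[A] M →ₗ[A] M := (TensorProduct.lid A M).toLinearMap
  have hμ : (μ ((I.subtype.rTensor M) w)) ∈ LinearMap.range u := by
    rw [← LinearMap.comp_apply, LinearMap.rTensor_comp_lTensor, ← LinearMap.lTensor_comp_rTensor,
      LinearMap.comp_apply] at hz
    have h := congrArg (TensorProduct.lid A (M ⧸ LinearMap.range u)) hz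
    rw [map_zero] at h
    rw [← Submodule.ker_mkQ (LinearMap.range u), LinearMap.mem_ker, ← h]
    generalize (I.subtype.rTensor M) w = y
    induction y with
    | zero => simp
    | tmul a m => simp [μ]
    | add a b ha hb => simp [map_add, ha, hb]
  obtain ⟨n, hn⟩ := hμ
  have hsI : ∀ (Y : Type u) [AddCommGroup Y] [Module A Y] (y : Y), y ∈ I • (⊤ : Submodule A Y) →
      ∃ t : I ⊗[A] Y, TensorProduct.lid A Y (I.subtype.rTensor Y t) = y := fun Y _ _ y hy => by
    refine Submodule.smul_induction_on hy (fun a ha m _ => ⟨⟨a, ha⟩ ⊗ₜ m, by simp⟩) ?_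
    rintro _ _ ⟨t, rfl⟩ ⟨t', rfl⟩
    exact ⟨t + t', by simp [map_add]⟩
  have hIM : μ (I.subtype.rTensor M w) ∈ I • (⊤ : Submodule A M) := by
    clear hz hn
    induction w with
    | zero => simp
    | tmul a m =>
      simp only [LinearMap.rTensor_tmul, μ, LinearEquiv.coe_coe, TensorProduct.lid_tmul]
      exact Submodule.smul_mem_smul a.2 trivial
    | add a b ha hb => rw [map_add, map_add]; exact add_mem ha hb
  obtain ⟨w', hw'⟩ := hsI N n (SpreadContent.mem_smul_of_univInj u hu I n (hn ▸ hIM))
  have : w = u.lTensor I w' := by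
    refine Module.Flat.rTensor_preserves_injective_linearMap I.subtype I.injective_subtype ?_
    refine (TensorProduct.lid A M).injective (hn.symm.trans ?_)
    rw [← hw', ← LinearMap.comp_apply (I.subtype.rTensor M), LinearMap.rTensor_comp_lTensor,
      ← LinearMap.lTensor_comp_rTensor, LinearMap.comp_apply]
    generalize (I.subtype.rTensor N) w' = y
    induction y with
    | zero => simp
    | tmul a m => simp
    | add a b ha hb => simp [map_add, ha, hb]
  rw [this, ← LinearMap.lTensor_comp_apply, show (LinearMap.range u).mkQ ∘ₗ u = 0 from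
    LinearMap.ext fun x => (Submodule.Quotient.mk_eq_zero _).mpr ⟨x, rfl⟩, LinearMap.lTensor_zero,
    LinearMap.zero_apply]

theorem injective_and_flat {A B : Type u} [CommRing A] [IsLocalRing A] [CommRing B] [IsLocalRing B]
    [Algebra A B] [IsLocalHom (algebraMap A B)] [Algebra.EssFiniteType A B]
    {N M : Type u} [AddCommGroup N] [Module B N] [Module A N] [IsScalarTower A B N] [Module.Finite B N]
    [AddCommGroup M] [Module B M] [Module A M] [IsScalarTower A B M] [Module.Flat A M]
    (u : N →ₗ[B] M) (hu : ∀ x, u x ∈ maximalIdeal A • (⊤ : Submodule A M) → x ∈ maximalIdeal A • (⊤ : Submodule A N)) :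
    Function.Injective u ∧ Module.Flat A (M ⧸ LinearMap.range u) := by
  classical
  let S := Algebra.EssFiniteType.subalgebra A B
  haveI hloc : IsLocalization (Algebra.EssFiniteType.submonoid A B) B := inferInstance
  let q : Ideal S := (maximalIdeal B).comap (algebraMap S B)
  have hq : q.primeCompl = Algebra.EssFiniteType.submonoid A B := by
    ext s
    change ¬ (algebraMap S B s ∈ maximalIdeal B) ↔ IsUnit (algebraMap S B s)
    rw [IsLocalRing.notMem_maximalIdeal]
  haveI : q.LiesOver (maximalIdeal A) := ⟨by
    rw [Ideal.under, Ideal.comap_comap, ← IsScalarTower.algebraMap_eq]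
    have h5 : (maximalIdeal B).comap (algebraMap A B) = maximalIdeal A :=
      ((local_hom_TFAE (algebraMap A B)).out 0 4).mp ‹IsLocalHom (algebraMap A B)›
    exact h5.symm⟩
  haveI : IsScalarTower S B N := ⟨fun s b x => mul_smul (s : B) b x⟩
  haveI : IsScalarTower S B M := ⟨fun s b x => mul_smul (s : B) b x⟩
  haveI : IsScalarTower A S N := ⟨fun a s x => by
    change ((a • s : S) : B) • x = a • ((s : B) • x)
    rw [Subalgebra.coe_smul, smul_assoc]⟩
  haveI : IsScalarTower A S M := ⟨fun a s x => by
    change ((a • s : S) : B) • x = a • ((s : B) • x)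
    rw [Subalgebra.coe_smul, smul_assoc]⟩
  obtain ⟨G, hG⟩ := (Module.Finite.fg_top : (⊤ : Submodule B N).FG)
  let N₀ : Submodule S N := Submodule.span S (G : Set N)
  haveI : Module.Finite S N₀ := Module.Finite.iff_fg.mpr ⟨G, rfl⟩
  haveI : IsLocalizedModule q.primeCompl N₀.subtype := by
    constructor
    · intro s
      rw [Module.End.isUnit_iff]
      have hs : IsUnit (algebraMap S B (s : S)) := (hq ▸ s.2 : (s : S) ∈ Algebra.EssFiniteType.submonoid A B)
      refine ⟨fun x y h => ?_, fun y => ?_⟩
      · refine hs.smul_left_cancel.mp ?_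
        exact h
      · refine ⟨(↑hs.unit⁻¹ : B) • y, ?_⟩
        simp only [Module.algebraMap_end_apply]
        rw [← algebraMap_smul B (s : S), smul_smul, IsUnit.mul_val_inv, one_smul]
    · intro y
      have hy : y ∈ Submodule.span B (G : Set N) := hG ▸ trivial
      induction hy using Submodule.span_induction with
      | mem y hy => exact ⟨(⟨y, Submodule.subset_span hy⟩, 1), one_smul _ _⟩
      | zero => exact ⟨(0, 1), by simp⟩
      | add y y' _ _ h h' =>
        obtain ⟨⟨n, s⟩, hn⟩ := h
        obtain ⟨⟨n', s'⟩, hn'⟩ := h'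
        refine ⟨((s' : S) • n + (s : S) • n', s * s'), ?_⟩
        simp only [Submodule.subtype_apply, Submodule.coe_add, Submodule.coe_smul] at hn hn' ⊢
        rw [← hn, ← hn', Submonoid.smul_def, Submonoid.smul_def, Submonoid.smul_def, Submonoid.coe_mul, smul_add]
        congr 1
        all_goals simp only [Submonoid.smul_def, Subalgebra.smul_def, MulMemClass.coe_mul, smul_smul, mul_comm]
      | smul b y _ h =>
        obtain ⟨⟨n, s⟩, hn⟩ := h
        obtain ⟨⟨c, t⟩, ht⟩ := IsLocalization.surj (Algebra.EssFiniteType.submonoid A B) b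
        refine ⟨(c • n, ⟨(t : S), hq.symm ▸ t.2⟩ * s), ?_⟩
        simp only [Submodule.subtype_apply, Submodule.coe_smul, Submonoid.smul_def, Submonoid.coe_mul] at hn ⊢
        rw [← hn, ← algebraMap_smul B c, ← algebraMap_smul B ((t : S) * (s : S)), ← algebraMap_smul B (s : S) y,
          smul_smul, smul_smul, ← ht, map_mul]
        congr 1; ring
    · intro x y h
      exact ⟨1, congrArg ((1 : q.primeCompl) • ·) (Subtype.ext h)⟩
  have hUI : FlatCA.UnivInj A (u.restrictScalars A) :=
    RG11.ui_of_linear_map N₀ q N₀.subtype (u.restrictScalars S) hu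
  refine ⟨?_, ?_⟩
  · intro x y hxy
    have h := hUI A (a₁ := (1 : A) ⊗ₜ x) (a₂ := (1 : A) ⊗ₜ y) (by simp [hxy])
    simpa using congrArg (TensorProduct.lid A N) h
  · haveI := flat_quotient_range (u.restrictScalars A) hUI
    exact Module.Flat.of_linearEquiv (M := M ⧸ LinearMap.range (u.restrictScalars A))
      ((Submodule.Quotient.restrictScalarsEquiv A (LinearMap.range u)).symm ≪≫ₗ
        Submodule.quotEquivOfEq _ _ (LinearMap.range_restrictScalars u).symm)

end Groth.Agent.FlatFibres.ValUI
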