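import Groth.Agent.FlatFibres.ValuationPoints
import Groth.Agent.FlatMisc.ValuationDim
import Groth.Agent.VarDim.Basic
import Groth.Agent.UnivOpen.UnibranchAlg

/-!
# Cutting down a domain over a valuation ring to relative dimension zero through a given closed
point of the special fibre

If `R` is a valuation ring which is not a field, `B` a domain of finite type containing `R`, `P` a
maximal ideal of `B` over the maximal ideal of `R` and `g ≠ 0` in `B`, then there is a prime
`Q ≤ P` not containing `g`, contracting to `0` in `R`, with `B/Q` algebraic over `R`.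
-/

set_option autoImplicit false
universe u

open IsLocalRing TensorProduct

namespace Groth.Agent.FlatFibres

/-- Parameters of the special fibre at `P`. -/
theorem exists_fibre_params {R B : Type u} [CommRing R] [IsDomain R] [ValuationRing R] [CommRing B] [IsDomain B]
    [Algebra R B] [Algebra.FiniteType R B] (hinj : Function.Injective (algebraMap R B))
    (P : Ideal B) [hP : P.IsMaximal] (hPR : P.comap (algebraMap R B) = maximalIdeal R) :
    ∃ (n : ℕ) (t : Fin n → B), (∀ i, t i ∈ P) ∧ (n : Cardinal.{u}) ≤ Algebra.trdeg R B ∧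
      ∃ e : B, e ∉ P ∧ ∀ Q : Ideal B, Q.IsPrime → Q.comap (algebraMap R B) = maximalIdeal R →
        (∀ i, t i ∈ Q) → Q ≠ P → e ∈ Q := by
  classical
  let m := maximalIdeal R
  let Bb := B ⧸ m.map (algebraMap R B)
  let π : B →+* Bb := Ideal.Quotient.mk _
  have hπ : Function.Surjective π := Ideal.Quotient.mk_surjective
  have hmP : m.map (algebraMap R B) ≤ P := Ideal.map_le_iff_le_comap.2 hPR.ge
  let ε : (ResidueField R ⊗[R] B) ≃+* Bb :=
    ((Algebra.TensorProduct.comm R (ResidueField R) B).toRingEquiv.trans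
      (Algebra.TensorProduct.quotIdealMapEquivTensorQuot B m).symm.toRingEquiv)
  haveI : Nontrivial Bb := Ideal.Quotient.nontrivial_iff.2
    (fun h => hP.ne_top (top_le_iff.1 (h.ge.trans hmP)))
  haveI : Nontrivial (ResidueField R ⊗[R] B) := ε.toEquiv.nontrivial
  haveI : IsNoetherianRing (ResidueField R ⊗[R] B) := Algebra.FiniteType.isNoetherianRing (ResidueField R) _
  haveI : IsNoetherianRing Bb := isNoetherianRing_of_ringEquiv _ ε
  -- the dimension of the special fibre
  let K := FractionRing R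
  haveI : Module.Flat R B := by
    rw [Module.Flat.flat_iff_torsion_eq_bot_of_isBezout, eq_bot_iff]
    rintro x ⟨⟨c, hc⟩, hcx⟩
    rw [Submonoid.smul_def, Algebra.smul_def, mul_eq_zero] at hcx
    exact hcx.resolve_left fun h => nonZeroDivisors.ne_zero hc (hinj (h.trans (map_zero _).symm))
  letI : Algebra B (K ⊗[R] B) := Algebra.TensorProduct.rightAlgebra
  haveI : IsLocalization (Algebra.algebraMapSubmonoid B (nonZeroDivisors R)) (K ⊗[R] B) := inferInstance
  have hM : Algebra.algebraMapSubmonoid B (nonZeroDivisors R) ≤ nonZeroDivisors B :=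
    map_le_nonZeroDivisors_of_injective _ hinj le_rfl
  haveI : IsDomain (K ⊗[R] B) := IsLocalization.isDomain_of_le_nonZeroDivisors (K ⊗[R] B) hM
  haveI : FaithfulSMul B (K ⊗[R] B) := (faithfulSMul_iff_algebraMap_injective _ _).2 (IsLocalization.injective _ hM)
  obtain ⟨s, hs, hst⟩ := Groth.Agent.VarDim.exists_dim_eq_trdeg K (K ⊗[R] B)
  have htr : Algebra.trdeg R B = (s : Cardinal.{u}) := by
    haveI : FaithfulSMul R K := (faithfulSMul_iff_algebraMap_injective _ _).2 (IsFractionRing.injective R K)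
    haveI : Algebra.IsAlgebraic R K := IsLocalization.isAlgebraic K (nonZeroDivisors R)
    haveI : Algebra.IsAlgebraic B (K ⊗[R] B) :=
      IsLocalization.isAlgebraic (K ⊗[R] B) (Algebra.algebraMapSubmonoid B (nonZeroDivisors R))
    haveI : FaithfulSMul R B := (faithfulSMul_iff_algebraMap_injective _ _).2 hinj
    haveI : IsScalarTower R B (K ⊗[R] B) := inferInstance
    haveI : FaithfulSMul K (K ⊗[R] B) := (faithfulSMul_iff_algebraMap_injective K (K ⊗[R] B)).2 (RingHom.injective _)
    have h1 := trdeg_add_eq (R := R) (S := K) (A := K ⊗[R] B)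
    have h2 := trdeg_add_eq (R := R) (S := B) (A := K ⊗[R] B)
    rw [trdeg_eq_zero (R := R) (A := K), zero_add, hst] at h1
    rw [trdeg_eq_zero (R := B) (A := K ⊗[R] B), add_zero, ← h1] at h2
    exact h2
  have hdim : ringKrullDim Bb = (s : WithBot ℕ∞) := by
    rw [← ringKrullDim_eq_of_ringEquiv ε, FlatMisc.ValuationDim.dim_special_eq_generic hinj, hs]
  let Pb := P.map π
  haveI : Pb.IsPrime := Ideal.map_isPrime_of_surjective hπ (by rw [Ideal.mk_ker]; exact hmP)
  have hPb : Pb.comap π = P := by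
    rw [Ideal.comap_map_of_surjective π hπ, ← RingHom.ker_eq_comap_bot, Ideal.mk_ker, sup_eq_left.2 hmP]
  obtain ⟨T, hTmin, hTcard⟩ := Ideal.exists_finset_card_eq_height_of_isNoetherianRing Pb
  have hcard : T.card ≤ s := by
    have := Ideal.height_le_ringKrullDim_of_isPrime (I := Pb)
    rw [hdim, ← hTcard] at this
    exact_mod_cast this
  choose lift hlift using fun x : Bb => hπ x
  refine ⟨T.card, fun i => lift (T.equivFin.symm i), fun i => ?_, by rw [htr]; exact_mod_cast hcard, ?_⟩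
  · rw [← hPb]
    show π (lift _) ∈ Pb
    rw [hlift]
    exact hTmin.1.2 (Ideal.subset_span (T.equivFin.symm i).2)
  -- `P` is isolated in its fibre
  let others := (Ideal.span (T : Set Bb)).minimalPrimes \ {Pb}
  have hfin : others.Finite := (Ideal.finite_minimalPrimes_of_isNoetherianRing Bb _).sdiff
  have hne : ¬ (hfin.toFinset.inf id ≤ Pb) := fun h => by
    obtain ⟨q, hq, hqP⟩ := (Ideal.IsPrime.inf_le' ‹Pb.IsPrime›).1 h
    rw [Set.Finite.mem_toFinset] at hq
    exact hq.2 (hqP.antisymm (hTmin.2 ⟨hq.1.1.1, hq.1.1.2⟩ hqP))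
  obtain ⟨eb, heb, hebP⟩ := SetLike.not_le_iff_exists.1 hne
  obtain ⟨e, rfl⟩ := hπ eb
  refine ⟨e, fun he => hebP (Ideal.mem_map_of_mem π he), fun Q hQ hQR htQ hQP => ?_⟩
  have hmQ : m.map (algebraMap R B) ≤ Q := Ideal.map_le_iff_le_comap.2 hQR.ge
  have hQb : (Q.map π).comap π = Q := by
    rw [Ideal.comap_map_of_surjective π hπ, ← RingHom.ker_eq_comap_bot, Ideal.mk_ker, sup_eq_left.2 hmQ]
  haveI : (Q.map π).IsPrime := Ideal.map_isPrime_of_surjective hπ (by rw [Ideal.mk_ker]; exact hmQ)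
  have hspan : Ideal.span (T : Set Bb) ≤ Q.map π := by
    rw [Ideal.span_le]
    intro x hx
    have := htQ (T.equivFin ⟨x, hx⟩)
    simp only [Equiv.symm_apply_apply] at this
    rw [← hlift x]
    exact Ideal.mem_map_of_mem π this
  obtain ⟨q, hq, hqQ⟩ := Ideal.exists_minimalPrimes_le hspan
  by_cases hqP : q = Pb
  · subst hqP
    exact absurd (hP.eq_of_le hQ.ne_top (by rw [← hPb, ← hQb]; exact Ideal.comap_mono hqQ)).symm hQP
  · rw [← hQb]
    exact hqQ ((Finset.inf_le (f := id) (hfin.mem_toFinset.2 ⟨hq, hqP⟩) :) heb)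

/-- Cutting down to relative dimension zero through a closed point of the special fibre. -/
theorem exists_prime_le_algebraic {R B : Type u} [CommRing R] [IsDomain R] [ValuationRing R] [CommRing B] [IsDomain B]
    [Algebra R B] [Algebra.FiniteType R B] (hR : ¬ IsField R) (hinj : Function.Injective (algebraMap R B))
    (P : Ideal B) [hP : P.IsMaximal] (hPR : P.comap (algebraMap R B) = maximalIdeal R) (g : B) (hg : g ≠ 0) :
    ∃ Q : Ideal B, Q.IsPrime ∧ Q ≤ P ∧ g ∉ Q ∧ Q.comap (algebraMap R B) = ⊥ ∧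
      Algebra.IsAlgebraic R (B ⧸ Q) := by
  classical
  obtain ⟨n, t, htP, hn, e, heP, he⟩ := exists_fibre_params hinj P hPR
  let A := MvPolynomial (Fin n) R
  let φ : A →ₐ[R] B := MvPolynomial.aeval t
  letI : Algebra A B := φ.toRingHom.toAlgebra
  haveI : IsScalarTower R A B := .of_algebraMap_eq fun x => (φ.commutes x).symm
  haveI : Algebra.FiniteType A B := Algebra.FiniteType.of_restrictScalars_finiteType R A B
  let y0 := P.comap (algebraMap A B)
  haveI : y0.IsPrime := Ideal.comap_isPrime _ _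
  have hy0R : y0.comap (algebraMap R A) = maximalIdeal R := by
    rw [Ideal.comap_comap, ← IsScalarTower.algebraMap_eq, hPR]
  have hXy0 : ∀ i, (MvPolynomial.X i : A) ∈ y0 := fun i => by
    show algebraMap A B (MvPolynomial.X i) ∈ P
    rw [show algebraMap A B (MvPolynomial.X i) = t i from MvPolynomial.aeval_X t i]
    exact htP i
  haveI : Algebra.QuasiFiniteAt A P := by
    refine Algebra.QuasiFiniteAt.of_isOpen_singleton_fiber (⟨P, hP.isPrime⟩ : PrimeSpectrum B) ?_
    rw [isOpen_induced_iff]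
    refine ⟨PrimeSpectrum.basicOpen e, (PrimeSpectrum.basicOpen e).isOpen, ?_⟩
    ext ⟨q, hq⟩
    simp only [Set.mem_preimage, SetLike.mem_coe, PrimeSpectrum.mem_basicOpen, Set.mem_singleton_iff]
    refine ⟨fun heq => ?_, fun h => ?_⟩
    swap
    · have hqP : q = ⟨P, hP.isPrime⟩ := congrArg Subtype.val h
      rw [hqP]; exact heP
    have hq' : q.asIdeal.comap (algebraMap A B) = y0 := congrArg PrimeSpectrum.asIdeal hq
    refine Subtype.ext (PrimeSpectrum.ext (by_contra fun hne => heq (he q.asIdeal q.isPrime ?_ (fun i => ?_) hne)))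
    · rw [IsScalarTower.algebraMap_eq R A B, ← Ideal.comap_comap, hq', hy0R]
    · rw [← show algebraMap A B (MvPolynomial.X i) = t i from MvPolynomial.aeval_X t i]
      exact hq'.ge (hXy0 i)
  obtain ⟨r, hrP, hr, hrx⟩ := Algebra.zariskisMainProperty_iff.1 (Algebra.ZariskisMainProperty.of_finiteType (R := A) P)
  have hr0 : r ≠ 0 := fun h => hrP (h ▸ P.zero_mem)
  -- the parameters are algebraically independent
  let A' := Algebra.adjoin R (Set.range t)
  have hmem : ∀ x, φ x ∈ A' := fun x => by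
    show φ x ∈ Algebra.adjoin R (Set.range t)
    rw [Algebra.adjoin_range_eq_range_aeval]; exact ⟨x, rfl⟩
  let ψ : A →ₐ[R] A' := φ.codRestrict A' hmem
  have halg' : ∀ x : B, IsIntegral A x → IsAlgebraic A' x := fun x hx =>
    (IsIntegral.map_of_comp_eq (ψ.toRingHom) (RingHom.id B) rfl hx).isAlgebraic
  haveI : Algebra.IsAlgebraic A' B := ⟨fun x => by
    obtain ⟨k, hk⟩ := hrx x
    exact IsAlgebraic.of_mul (mem_nonZeroDivisors_of_ne_zero (pow_ne_zero k hr0)) ((halg' r hr).pow k) (halg' _ hk)⟩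
  haveI : FaithfulSMul R B := (faithfulSMul_iff_algebraMap_injective _ _).2 hinj
  have htb : IsTranscendenceBasis R t :=
    Algebra.IsAlgebraic.isTranscendenceBasis_of_lift_le_trdeg_of_finite R t (by simpa using hn)
  have hφ : Function.Injective φ := algebraicIndependent_iff_injective_aeval.1 htb.1
  haveI : FaithfulSMul A B := (faithfulSMul_iff_algebraMap_injective _ _).2 hφ
  -- avoid `g`
  have hgr : g * r ≠ 0 := mul_ne_zero hg hr0
  have hgalg : IsAlgebraic A (g * r) := by
    obtain ⟨k, hk⟩ := hrx g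
    exact (IsAlgebraic.of_mul (mem_nonZeroDivisors_of_ne_zero (pow_ne_zero k hr0)) (hr.isAlgebraic.pow k)
      hk.isAlgebraic).mul hr.isAlgebraic
  obtain ⟨G, hGmem, hG⟩ := Submodule.exists_mem_ne_zero_of_ne_bot
    (Ideal.comap_ne_bot_of_algebraic_mem hgr (Ideal.mem_span_singleton_self (g * r)) hgalg)
  have hint : Algebra.IsIntegral R (A ⧸ y0) := by
    refine ⟨fun x => ?_⟩
    obtain ⟨x, rfl⟩ := Ideal.Quotient.mk_surjective x
    induction x using MvPolynomial.induction_on with
    | C a => exact isIntegral_algebraMap (x := a)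
    | add p q hp hq => rw [map_add]; exact hp.add hq
    | mul_X p i hp => rw [map_mul, Ideal.Quotient.eq_zero_iff_mem.2 (hXy0 i), mul_zero]; exact isIntegral_zero
  obtain ⟨y, hyp, hyy0, hGy, hyR, hyalg⟩ := exists_prime_le_avoiding hR y0 hy0R hint G hG
  haveI := hyp
  -- going down
  haveI : IsIntegrallyClosed A := by
    haveI := Groth.Agent.UnivOpen.isIntegrallyClosed_mvPolynomial R (ULift.{u} (Fin n))
    exact IsIntegrallyClosed.of_equiv (MvPolynomial.renameEquiv R Equiv.ulift).toRingEquiv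
  let C := integralClosure A B
  haveI : FaithfulSMul A C := (faithfulSMul_iff_algebraMap_injective _ _).2
    fun a b h => hφ (congrArg Subtype.val h)
  haveI : Algebra.HasGoingDown A C := inferInstance
  let PC : Ideal C := P.comap C.val
  haveI : PC.IsPrime := Ideal.comap_isPrime _ _
  haveI : PC.LiesOver y0 := ⟨rfl⟩
  obtain ⟨QC, hQC, hQCp, hQCy⟩ := Ideal.exists_ideal_le_liesOver_of_le (p := y) (q := y0) PC hyy0
  have hrQ : (⟨r, hr⟩ : C) ∉ QC := fun h => hrP (hQC h)
  have key : ∀ {c : C} {k : ℕ}, (⟨r, hr⟩ : C) ^ k * c ∈ QC → c ∈ QC := fun {c k} h =>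
    (hQCp.mem_or_mem h).resolve_left fun h' => hrQ (hQCp.mem_of_pow_mem _ h')
  let Q : Ideal B :=
    { carrier := {b | ∃ (k : ℕ) (h : IsIntegral A (r ^ k * b)), (⟨r ^ k * b, h⟩ : C) ∈ QC}
      zero_mem' := ⟨0, by rw [mul_zero]; exact isIntegral_zero, by
        simp only [mul_zero]; exact QC.zero_mem⟩
      add_mem' := by
        rintro a b ⟨k, hk, hka⟩ ⟨l, hl, hlb⟩
        have h := QC.add_mem (QC.mul_mem_left ((⟨r, hr⟩ : C) ^ l) hka) (QC.mul_mem_left ((⟨r, hr⟩ : C) ^ k) hlb)
        have e1 : r ^ (k + l) * (a + b) = r ^ l * (r ^ k * a) + r ^ k * (r ^ l * b) := by ring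
        exact ⟨k + l, e1 ▸ ((hr.pow l).mul hk).add ((hr.pow k).mul hl), by convert h using 1; exact Subtype.ext e1⟩
      smul_mem' := by
        rintro c b ⟨k, hk, hkb⟩
        obtain ⟨l, hl⟩ := hrx c
        have h := QC.mul_mem_left (⟨r ^ l * c, hl⟩ : C) hkb
        have e1 : r ^ (l + k) * (c • b) = (r ^ l * c) * (r ^ k * b) := by rw [smul_eq_mul]; ring
        exact ⟨l + k, e1 ▸ hl.mul hk, by convert h using 1; exact Subtype.ext e1⟩ }
  have hQC' : ∀ c : C, (c : B) ∈ Q ↔ c ∈ QC := fun c => by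
    refine ⟨?_, fun h => ⟨0, by rw [pow_zero, one_mul]; exact c.2, by simpa using h⟩⟩
    rintro ⟨k, hk, h⟩
    exact key (c := c) (k := k) (by convert h using 1; exact Subtype.ext rfl)
  haveI hQp : Q.IsPrime := by
    refine ⟨fun h => hQCp.ne_top ((Ideal.eq_top_iff_one _).2 ((hQC' 1).1 (h ▸ Submodule.mem_top))), ?_⟩
    rintro a b ⟨m, hm, hab⟩
    obtain ⟨k, hk⟩ := hrx a
    obtain ⟨l, hl⟩ := hrx b
    have h1 : (⟨r ^ k * a, hk⟩ * ⟨r ^ l * b, hl⟩ : C) ∈ QC := by
      refine key (k := m) ?_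
      convert QC.mul_mem_left ((⟨r, hr⟩ : C) ^ (k + l)) hab using 1
      exact Subtype.ext (show r ^ m * (r ^ k * a * (r ^ l * b)) = r ^ (k + l) * (r ^ m * (a * b)) by ring)
    exact (hQCp.mem_or_mem h1).imp (fun h => ⟨k, hk, h⟩) fun h => ⟨l, hl, h⟩
  have hQy : Q.comap (algebraMap A B) = y := by
    ext a
    rw [hQCy.over, Ideal.mem_comap]
    exact hQC' (algebraMap A C a)
  haveI : Q.LiesOver y := ⟨hQy.symm⟩
  refine ⟨Q, hQp, fun b hb => ?_, fun h => ?_, ?_, ?_⟩
  · obtain ⟨k, hk, h⟩ := hb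
    exact (hP.isPrime.mem_or_mem (hQC h : r ^ k * b ∈ P)).resolve_left fun h' => hrP (hP.isPrime.mem_of_pow_mem _ h')
  · apply hGy
    rw [← hQy]
    exact Ideal.span_le.2 (Set.singleton_subset_iff.2 (Q.mul_mem_right r h)) hGmem
  · rw [IsScalarTower.algebraMap_eq R A B, ← Ideal.comap_comap, hQy, hyR]
  · haveI := hyalg
    refine ⟨fun z => ?_⟩
    obtain ⟨b, rfl⟩ := Ideal.Quotient.mk_surjective z
    obtain ⟨k, hk⟩ := hrx b
    have hcomp : (algebraMap (A ⧸ y) (B ⧸ Q)).comp (Ideal.Quotient.mk y) = (Ideal.Quotient.mk Q).comp (algebraMap A B) := rfl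
    have h1 : IsAlgebraic R (Ideal.Quotient.mk Q (r ^ k * b)) :=
      IsAlgebraic.restrictScalars R (IsIntegral.map_of_comp_eq _ _ hcomp hk).isAlgebraic
    have h2 : IsAlgebraic R (Ideal.Quotient.mk Q r) :=
      IsAlgebraic.restrictScalars R (IsIntegral.map_of_comp_eq _ _ hcomp hr).isAlgebraic
    rw [map_mul, map_pow] at h1
    exact IsAlgebraic.of_mul (mem_nonZeroDivisors_of_ne_zero (pow_ne_zero k fun h =>
      hrQ ((hQC' ⟨r, hr⟩).1 (Ideal.Quotient.eq_zero_iff_mem.1 h)))) (h2.pow k) h1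

end Groth.Agent.FlatFibres
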