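import Groth.Agent.FlatFibres.SpecializationCut
import Groth.Agent.FlatFibres.FibreDegree
import Groth.Agent.Triage.FibMaxFlat
import Groth.Agent.FlatMisc.ValuationFP

/-!
# A valuation model of a local domain

For an injective local extension of local domains `A → B`, `B` essentially of finite type, a valuation
ring `R` of `Frac A` dominating `A` and a flat finite type domain `D` over `R`, generated by the image
of a finite type model `C` of `B`, with a prime over the closed point of `B`.
-/

set_option autoImplicit false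
universe u

open IsLocalRing TensorProduct AlgebraicGeometry CategoryTheory

namespace Groth.Agent.FlatFibres

variable {A C : Type u} [CommRing A] [IsLocalRing A] [CommRing C] [Algebra A C]

/-- A valuation model at the prime `M`. -/
structure ValModel (M : Ideal C) where
  R : Type u
  [crR : CommRing R]
  [domR : IsDomain R]
  [valR : ValuationRing R]
  [algAR : Algebra A R]
  D : Type u
  [crD : CommRing D]
  [domD : IsDomain D]
  [algRD : Algebra R D]
  [ftD : Algebra.FiniteType R D]
  χ : C →+* D
  comm : ∀ a, χ (algebraMap A C a) = algebraMap R D (algebraMap A R a)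
  localR : (maximalIdeal R).comap (algebraMap A R) = maximalIdeal A
  injA : Function.Injective (algebraMap A R)
  injD : Function.Injective (algebraMap R D)
  gen : Algebra.adjoin R (Set.range χ) = ⊤
  P : Ideal D
  [primeP : P.IsPrime]
  hPR : P.comap (algebraMap R D) = maximalIdeal R
  hPM : P.comap χ = M

attribute [instance] ValModel.crR ValModel.domR ValModel.valR ValModel.algAR ValModel.crD ValModel.domD
  ValModel.algRD ValModel.ftD ValModel.primeP

namespace ValModel

variable {M : Ideal C} (m : ValModel (A := A) M)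

/-- The canonical surjection `R ⊗ C → D`. -/
noncomputable def π : m.R ⊗[A] C →ₐ[m.R] m.D :=
  letI : Algebra A m.D := ((algebraMap m.R m.D).comp (algebraMap A m.R)).toAlgebra
  haveI : IsScalarTower A m.R m.D := .of_algebraMap_eq fun _ => rfl
  Algebra.TensorProduct.lift (Algebra.ofId m.R m.D) ({ m.χ with commutes' := fun a => m.comm a } : C →ₐ[A] m.D)
    fun _ _ => Commute.all _ _

theorem π_tmul (r : m.R) (c : C) : m.π (r ⊗ₜ c) = algebraMap m.R m.D r * m.χ c := rfl

theorem π_surjective : Function.Surjective m.π := by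
  rw [← AlgHom.range_eq_top, ← top_le_iff, ← m.gen, Algebra.adjoin_le_iff]
  rintro _ ⟨c, rfl⟩
  exact ⟨1 ⊗ₜ c, by show m.π (1 ⊗ₜ c) = _; rw [π_tmul, map_one, one_mul]⟩

theorem comap_π_right (P' : Ideal m.D) :
    (P'.comap m.π.toRingHom).comap (Algebra.TensorProduct.includeRight (R := A) (A := m.R) (B := C)).toRingHom = P'.comap m.χ := by
  ext c
  show m.π ((1 : m.R) ⊗ₜ c) ∈ P' ↔ m.χ c ∈ P'
  rw [π_tmul, map_one, one_mul]

theorem comap_χ_algebraMap (P' : Ideal m.D) :
    (P'.comap m.χ).comap (algebraMap A C) = (P'.comap (algebraMap m.R m.D)).comap (algebraMap A m.R) := by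
  ext a
  simp only [Ideal.mem_comap, m.comm]

theorem comap_χ_maximal (P' : Ideal m.D) (h : P'.comap (algebraMap m.R m.D) = maximalIdeal m.R) :
    (P'.comap m.χ).comap (algebraMap A C) = maximalIdeal A := by
  rw [comap_χ_algebraMap, h, m.localR]

variable [Algebra.FiniteType A C]

/-- Relative degrees do not go up from `C` to `D`. -/
theorem fd_le_fd_comap (P' : Ideal m.D) [P'.IsPrime] :
    DimFormula.fd m.R P' ≤ DimFormula.fd A (P'.comap m.χ) := by
  haveI : Algebra.FiniteType m.R (m.R ⊗[A] C) := inferInstance
  obtain ⟨t, ht⟩ := (DimFormula.le_fd_iff m.R (P'.comap m.π.toRingHom) _).1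
    (DimFormula.fd_comap_of_surjective m.R m.π m.π_surjective P').ge
  have h := FibDim.dim_fiber_quotient_baseChange_le (A := A) (A' := m.R) (P'.comap m.π.toRingHom) t ht
  rw [DimFormula.coe_fd] at h
  simp only [m.comap_π_right P'] at h
  exact_mod_cast h

/-- Relative degrees are bounded by the generic one. -/
theorem fd_le_generic (P' : Ideal m.D) [P'.IsPrime] : DimFormula.fd m.R P' ≤ DimFormula.fd m.R (⊥ : Ideal m.D) := by
  obtain ⟨t, ht⟩ := (DimFormula.le_fd_iff m.R P' _).1 le_rfl
  exact (DimFormula.le_fd_iff m.R _ _).2 ⟨t, FibDim.indepMod_of_valuationRing bot_le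
    (Ideal.comap_bot_of_injective _ m.injD) ht⟩

theorem flat_D : Module.Flat m.R m.D := by
  rw [Module.Flat.flat_iff_torsion_eq_bot_of_isBezout, eq_bot_iff]
  rintro x ⟨⟨c, hc⟩, hcx⟩
  rw [Submonoid.smul_def, Algebra.smul_def, mul_eq_zero] at hcx
  exact hcx.resolve_left fun h => nonZeroDivisors.ne_zero hc (m.injD (h.trans (map_zero _).symm))

omit [Algebra.FiniteType A C] in
theorem rd_eq_fd (P' : PrimeSpectrum m.D) :
    haveI := m.ftD
    FibDim.rd (Spec.map (CommRingCat.ofHom (algebraMap m.R m.D))) P' = DimFormula.fd m.R P'.asIdeal := by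
  haveI : LocallyOfFiniteType (Spec.map (CommRingCat.ofHom (algebraMap m.R m.D))) :=
    (HasRingHomProperty.Spec_iff (P := @LocallyOfFiniteType)).2 (RingHom.finiteType_algebraMap.2 m.ftD)
  refine eq_of_forall_le_iff fun n => ?_
  have h := FibDim.le_rd_iff' (A := m.R) (C := m.D) (Spec.map (CommRingCat.ofHom (algebraMap m.R m.D)))
    (𝟙 (Spec (CommRingCat.of m.R))) (𝟙 (Spec (CommRingCat.of m.D))) (by simp) P' n
  rw [DimFormula.le_fd_iff]
  exact h

/-- A prime minimal in the special fibre has full relative degree. -/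
theorem fd_eq_generic_of_minimal (P' : Ideal m.D) [P'.IsPrime] (hPR : P'.comap (algebraMap m.R m.D) = maximalIdeal m.R)
    (hmin : ∀ Q : Ideal m.D, Q.IsPrime → Q ≤ P' → Q.comap (algebraMap m.R m.D) = maximalIdeal m.R → Q = P') :
    DimFormula.fd m.R P' = DimFormula.fd m.R (⊥ : Ideal m.D) := by
  haveI := m.flat_D
  haveI := FlatMisc.ValuationFP.algebra_finitePresentation (R := m.R) (A := m.D)
  let f := Spec.map (CommRingCat.ofHom (algebraMap m.R m.D))
  haveI : Flat f := HasRingHomProperty.Spec_iff.2 (RingHom.flat_algebraMap_iff.2 inferInstance)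
  haveI : LocallyOfFinitePresentation f :=
    HasRingHomProperty.Spec_iff.2 (RingHom.finitePresentation_algebraMap.2 inferInstance)
  let ξ : PrimeSpectrum m.D := ⟨⊥, Ideal.isPrime_bot⟩
  let z : PrimeSpectrum m.D := ⟨P', inferInstance⟩
  have hξz : (ξ : Spec (CommRingCat.of m.D)) ⤳ z := (PrimeSpectrum.le_iff_specializes ξ z).1 bot_le
  have hz : FibDim.FibMax f z := by
    intro w hw hfw
    refine PrimeSpectrum.ext (hmin _ (w : PrimeSpectrum m.D).isPrime
      ((PrimeSpectrum.le_iff_specializes (w : PrimeSpectrum m.D) z).2 hw) ?_)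
    exact (congrArg PrimeSpectrum.asIdeal hfw).trans hPR
  have hξ : FibDim.FibMax f ξ := FibDim.fibMax_of_maximal f fun w hw =>
    (hw.antisymm ((PrimeSpectrum.le_iff_specializes ξ (w : PrimeSpectrum m.D)).1 bot_le)).eq
  have h1 := Triage.FibMaxFlat.fibreDimAt_eq_of_specializes f hξz hz
  rw [FibDim.fibreDimAt_eq_rd f hξ, FibDim.fibreDimAt_eq_rd f hz] at h1
  have h2 : FibDim.rd f ξ = FibDim.rd f z := by exact_mod_cast h1
  rw [← m.rd_eq_fd z, ← h2, m.rd_eq_fd ξ]

/-- There is a prime minimal in the special fibre below the given point. -/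
theorem exists_minimal_le (P' : Ideal m.D) [P'.IsPrime] (hPR : P'.comap (algebraMap m.R m.D) = maximalIdeal m.R) :
    ∃ T : Ideal m.D, T.IsPrime ∧ T ≤ P' ∧ T.comap (algebraMap m.R m.D) = maximalIdeal m.R ∧
      ∀ Q : Ideal m.D, Q.IsPrime → Q ≤ T → Q.comap (algebraMap m.R m.D) = maximalIdeal m.R → Q = T := by
  have hle : (maximalIdeal m.R).map (algebraMap m.R m.D) ≤ P' := Ideal.map_le_iff_le_comap.2 hPR.ge
  obtain ⟨T, hT, hTP⟩ := Ideal.exists_minimalPrimes_le hle
  haveI := hT.1.1
  refine ⟨T, hT.1.1, hTP, le_antisymm ((Ideal.comap_mono hTP).trans hPR.le) (Ideal.map_le_iff_le_comap.1 hT.1.2),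
    fun Q hQ hQT hQR => le_antisymm hQT (hT.2 ⟨hQ, Ideal.map_le_iff_le_comap.2 hQR.ge⟩ hQT)⟩

end ValModel

/-- An element of `R ⊗ C` dying in a field containing `C_M ⊗ R` lies in every prime over a prime below `M`. -/
theorem mem_prime_of_eq_zero {A B C R L : Type u} [CommRing A] [CommRing B] [CommRing C] [CommRing R] [CommRing L]
    [Algebra A B] [Algebra A C] [Algebra C B] [IsScalarTower A C B] [Algebra A R] [Algebra A L]
    (M : Ideal C) [M.IsPrime] [IsLocalization.AtPrime B M] (Ψ : B ⊗[A] R →ₐ[A] L) (hΨ : Function.Injective Ψ)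
    (Q : Ideal (R ⊗[A] C)) [Q.IsPrime]
    (hQ : Q.comap (Algebra.TensorProduct.includeRight (R := A) (A := R) (B := C)).toRingHom ≤ M)
    (φ : R ⊗[A] C →ₐ[A] L) (hφ : ∀ r c, φ (r ⊗ₜ c) = Ψ (algebraMap C B c ⊗ₜ r)) (x : R ⊗[A] C) (hx : φ x = 0) :
    x ∈ Q := by
  haveI : IsLocalizedModule M.primeCompl (Algebra.linearMap C B) := inferInstance
  let g := AlgebraTensorModule.rTensor A R (Algebra.linearMap C B)
  have hg : ∀ x, Ψ (g (TensorProduct.comm A R C x)) = φ x := fun x => by
    induction x using TensorProduct.induction_on with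
    | zero => simp
    | tmul r c => rw [hφ]; rfl
    | add x y hx hy => simp only [map_add, hx, hy]
  have hy : g (TensorProduct.comm A R C x) = 0 := hΨ (by rw [hg, hx, map_zero])
  obtain ⟨⟨s, hs⟩, hsy⟩ := (IsLocalizedModule.eq_zero_iff M.primeCompl g).1 hy
  have key : ∀ x : R ⊗[A] C, TensorProduct.comm A R C (((1 : R) ⊗ₜ[A] s) * x) = s • TensorProduct.comm A R C x :=
    fun x => by
      induction x using TensorProduct.induction_on with
      | zero => simp
      | tmul r c => simp [Algebra.TensorProduct.tmul_mul_tmul, TensorProduct.smul_tmul']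
      | add x y hx hy => rw [mul_add, map_add, map_add, hx, hy, smul_add]
  have h1 : ((1 : R) ⊗ₜ[A] s) * x = 0 :=
    (TensorProduct.comm A R C).injective (by rw [key, map_zero]; exact hsy)
  exact (Ideal.IsPrime.mem_or_mem ‹Q.IsPrime› (show ((1 : R) ⊗ₜ[A] s) * x ∈ Q from h1 ▸ Q.zero_mem)).resolve_left
    fun h => hs (hQ h)

set_option maxHeartbeats 800000 in
/-- Valuation models exist; their generic degree is `trdeg_A B`, and if `B` is flat then every prime
of the closed fibre of `C` below `M` is dominated by a prime of the model of at least the same degree. -/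
theorem exists_valModel {A C B : Type u} [CommRing A] [IsDomain A] [IsLocalRing A] [CommRing C] [IsDomain C]
    [CommRing B] [IsDomain B] [IsLocalRing B] [Algebra A C] [Algebra A B] [Algebra C B] [IsScalarTower A C B]
    [FaithfulSMul A B] [IsLocalHom (algebraMap A B)] [Algebra.FiniteType A C]
    (M : Ideal C) [M.IsPrime] [IsLocalization.AtPrime B M]
    (hM : M = (maximalIdeal B).comap (algebraMap C B)) :
    ∃ m : ValModel (A := A) M, (DimFormula.fd m.R (⊥ : Ideal m.D) : Cardinal.{u}) = Algebra.trdeg A B ∧
      (Module.Flat A B → ∀ (P0 : Ideal C) [P0.IsPrime], P0 ≤ M → P0.comap (algebraMap A C) = maximalIdeal A →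
        ∃ (P' : Ideal m.D) (_ : P'.IsPrime), P'.comap (algebraMap m.R m.D) = maximalIdeal m.R ∧
          DimFormula.fd A P0 ≤ DimFormula.fd m.R P') := by
  classical
  let K := FractionRing A
  let L := FractionRing B
  have hAB : Function.Injective (algebraMap A B) := FaithfulSMul.algebraMap_injective A B
  have hCB : Function.Injective (algebraMap C B) := IsLocalization.injective B M.primeCompl_le_nonZeroDivisors
  have hAL : Function.Injective (algebraMap A L) := by
    rw [IsScalarTower.algebraMap_eq A B L]
    exact (IsFractionRing.injective B L).comp hAB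
  let ι : K →+* L := IsFractionRing.lift hAL
  obtain ⟨V, hV, hVm⟩ := exists_valuationSubring_dominating (IsFractionRing.injective B L) (maximalIdeal B)
  let R : ValuationSubring K := V.comap ι
  letI : Algebra R L := (ι.comp R.subtype).toAlgebra
  have hιA : ∀ a, ι (algebraMap A K a) = algebraMap B L (algebraMap A B a) := fun a => by
    rw [IsFractionRing.lift_algebraMap, IsScalarTower.algebraMap_apply A B L]
  have hAR : ∀ a, algebraMap A K a ∈ R := fun a => by
    show ι _ ∈ V
    rw [hιA]; exact hV _
  let αR : A →+* R := (algebraMap A K).codRestrict R.toSubring hAR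
  letI : Algebra A R := αR.toAlgebra
  haveI : IsScalarTower A R L := .of_algebraMap_eq fun a => by
    show algebraMap A L a = ι (algebraMap A K a)
    rw [IsFractionRing.lift_algebraMap]
  let j : C →+* L := (algebraMap B L).comp (algebraMap C B)
  have hjV : ∀ c, j c ∈ V := fun c => hV _
  obtain ⟨s, hs⟩ := Algebra.FiniteType.out (R := A) (A := C)
  let D : Subalgebra R L := Algebra.adjoin R (j '' (s : Set C))
  haveI : Algebra.FiniteType R D := (Subalgebra.fg_iff_finiteType _).1 ⟨s.image j, by rw [Finset.coe_image]⟩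
  have hjD : ∀ c, j c ∈ D := fun c => by
    have hc : c ∈ Algebra.adjoin A (s : Set C) := hs.symm ▸ Algebra.mem_top
    induction hc using Algebra.adjoin_induction with
    | mem x hx => exact Algebra.subset_adjoin ⟨x, hx, rfl⟩
    | algebraMap a =>
      rw [show j (algebraMap A C a) = algebraMap R L (αR a) from by
        show algebraMap B L (algebraMap C B (algebraMap A C a)) = ι (algebraMap A K a)
        rw [hιA, ← IsScalarTower.algebraMap_apply A C B]]
      exact D.algebraMap_mem _
    | add x y _ _ hx hy => rw [map_add]; exact D.add_mem hx hy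
    | mul x y _ _ hx hy => rw [map_mul]; exact D.mul_mem hx hy
  have hDV : ∀ z : D, (z : L) ∈ V := fun ⟨z, hz⟩ => by
    induction hz using Algebra.adjoin_induction with
    | mem x hx => obtain ⟨c, -, rfl⟩ := hx; exact hjV c
    | algebraMap r => exact r.2
    | add x y _ _ hx hy => exact V.add_mem _ _ hx hy
    | mul x y _ _ hx hy => exact V.mul_mem _ _ hx hy
  let κ : D →+* V := (D.subtype : D →+* L).codRestrict V.toSubring hDV
  let χ : C →+* D := j.codRestrict D.toSubring hjD
  let P : Ideal D := (maximalIdeal V).comap κ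
  haveI : P.IsPrime := Ideal.comap_isPrime _ _
  have hcomm : ∀ a, χ (algebraMap A C a) = algebraMap R D (αR a) := fun a => Subtype.ext (by
    show algebraMap B L (algebraMap C B (algebraMap A C a)) = ι (algebraMap A K a)
    rw [hιA, ← IsScalarTower.algebraMap_apply A C B])
  have hPM : P.comap χ = M := by
    rw [hM]
    ext c
    exact hVm (algebraMap C B c)
  have hPR : P.comap (algebraMap R D) = maximalIdeal R := by
    ext r
    rw [Ideal.mem_comap, Ideal.mem_comap, mem_maximalIdeal, mem_maximalIdeal, mem_nonunits_iff, mem_nonunits_iff,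
      not_iff_not]
    refine ⟨fun hu => ?_, fun hu => hu.map (κ.comp (algebraMap R D))⟩
    obtain ⟨v, hv⟩ := hu.exists_right_inv
    have hv' : ι r * (v : L) = 1 := congrArg Subtype.val hv
    have hr0 : (r : K) ≠ 0 := fun h => by
      rw [h, map_zero, zero_mul] at hv'
      exact zero_ne_one hv'
    have hinv : (r : K)⁻¹ ∈ R := by
      show ι _ ∈ V
      rw [map_inv₀, ← eq_inv_of_mul_eq_one_right hv']
      exact v.2
    exact IsUnit.of_mul_eq_one ⟨_, hinv⟩ (Subtype.ext (mul_inv_cancel₀ hr0))
  have hlocal : (maximalIdeal R).comap αR = maximalIdeal A := by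
    have h : (maximalIdeal R).comap αR = M.comap (algebraMap A C) := by
      rw [← hPR, ← hPM]
      ext a
      simp only [Ideal.mem_comap, hcomm]
    rw [h, hM, Ideal.comap_comap, ← IsScalarTower.algebraMap_eq]
    exact maximalIdeal_comap (algebraMap A B)
  have hgen : Algebra.adjoin R (Set.range χ) = ⊤ := by
    rw [← top_le_iff]
    rintro ⟨z, hz⟩ -
    induction hz using Algebra.adjoin_induction with
    | mem x hx => obtain ⟨c, -, rfl⟩ := hx; exact Algebra.subset_adjoin ⟨c, Subtype.ext rfl⟩
    | algebraMap r => exact Subalgebra.algebraMap_mem _ r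
    | add x y hx hy ihx ihy => exact Subalgebra.add_mem _ ihx ihy
    | mul x y hx hy ihx ihy => exact Subalgebra.mul_mem _ ihx ihy
  have hinjR : Function.Injective αR := fun a b h => IsFractionRing.injective A K (congrArg Subtype.val h)
  have hinjD : Function.Injective (algebraMap R D) := fun a b h => Subtype.ext (ι.injective (congrArg Subtype.val h))
  let m : ValModel (A := A) M :=
    { R := R, D := D, χ := χ, comm := hcomm, localR := hlocal, injA := hinjR, injD := hinjD, gen := hgen,
      P := P, hPR := hPR, hPM := hPM }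
  refine ⟨m, ?_, fun hflat P0 _ hP0 hP0A => ?_⟩
  · show (DimFormula.fd R (⊥ : Ideal D) : Cardinal.{u}) = Algebra.trdeg A B
    haveI : FaithfulSMul R D := (faithfulSMul_iff_algebraMap_injective _ _).2 hinjD
    haveI : FaithfulSMul A R := (faithfulSMul_iff_algebraMap_injective _ _).2 hinjR
    rw [DimFormula.fd_bot_eq_trdeg]
    letI : Algebra A D := ((algebraMap R D).comp αR).toAlgebra
    haveI : IsScalarTower A R D := .of_algebraMap_eq fun _ => rfl
    haveI : FaithfulSMul A D := (faithfulSMul_iff_algebraMap_injective _ _).2 (hinjD.comp hinjR)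
    haveI : IsScalarTower A R K := .of_algebraMap_eq fun _ => rfl
    haveI : Algebra.IsAlgebraic A K := IsLocalization.isAlgebraic K (nonZeroDivisors A)
    haveI : Algebra.IsAlgebraic A R := Algebra.IsAlgebraic.of_injective (IsScalarTower.toAlgHom A R K) Subtype.val_injective
    have h1 : Algebra.trdeg A R + Algebra.trdeg R D = Algebra.trdeg A D := trdeg_add_eq A R
    rw [trdeg_eq_zero (R := A) (A := R), zero_add] at h1
    rw [h1]
    letI : Algebra C D := χ.toAlgebra
    haveI : IsScalarTower A C D := .of_algebraMap_eq fun a => (hcomm a).symm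
    haveI : IsScalarTower C B L := inferInstance
    haveI : IsScalarTower C D L := .of_algebraMap_eq fun _ => rfl
    haveI : FaithfulSMul C B := (faithfulSMul_iff_algebraMap_injective _ _).2 hCB
    haveI : FaithfulSMul B L := (faithfulSMul_iff_algebraMap_injective _ _).2 (IsFractionRing.injective B L)
    haveI : FaithfulSMul C L :=
      (faithfulSMul_iff_algebraMap_injective _ _).2 ((IsFractionRing.injective B L).comp hCB)
    haveI : FaithfulSMul C D := (faithfulSMul_iff_algebraMap_injective _ _).2 fun a b h =>
      FaithfulSMul.algebraMap_injective C L (congrArg Subtype.val h)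
    haveI : Algebra.IsAlgebraic C B := IsLocalization.isAlgebraic B M.primeCompl
    haveI : Algebra.IsAlgebraic B L := IsLocalization.isAlgebraic L (nonZeroDivisors B)
    haveI : Algebra.IsAlgebraic C L := Algebra.IsAlgebraic.trans C B L
    haveI : Algebra.IsAlgebraic C D := Algebra.IsAlgebraic.of_injective (IsScalarTower.toAlgHom C D L) Subtype.val_injective
    haveI : FaithfulSMul A C := (faithfulSMul_iff_algebraMap_injective _ _).2 fun a b h => hAB (by
      rw [IsScalarTower.algebraMap_apply A C B, h, ← IsScalarTower.algebraMap_apply A C B])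
    have h2 : Algebra.trdeg A C + Algebra.trdeg C D = Algebra.trdeg A D := trdeg_add_eq A C
    have h3 : Algebra.trdeg A C + Algebra.trdeg C B = Algebra.trdeg A B := trdeg_add_eq A C
    rw [trdeg_eq_zero (R := C) (A := D), add_zero] at h2
    rw [trdeg_eq_zero (R := C) (A := B), add_zero] at h3
    rw [← h2, h3]
  · haveI := hflat
    obtain ⟨t, ht⟩ := (DimFormula.le_fd_iff A P0 _).1 le_rfl
    obtain ⟨Q, hQ, hQR, hQC, hQt⟩ := FibDim.exists_indepMod_baseChange (A' := R) P0 ht (maximalIdeal R)
      (hlocal.trans hP0A.symm)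
    let Ψ : B ⊗[A] R →ₐ[A] L := Algebra.TensorProduct.lift (IsScalarTower.toAlgHom A B L)
      (IsScalarTower.toAlgHom A R L) fun _ _ => Commute.all _ _
    have hΨ : Function.Injective Ψ := by
      have hι : ∀ a : A, ι (algebraMap A K a) = algebraMap A L a := fun a => IsFractionRing.lift_algebraMap _ a
      let ιA : K →ₐ[A] L := { ι with commutes' := hι }
      let ΨK : B ⊗[A] K →ₐ[A] L := Algebra.TensorProduct.lift (IsScalarTower.toAlgHom A B L) ιA fun _ _ => Commute.all _ _
      haveI : IsLocalization (Algebra.algebraMapSubmonoid B (nonZeroDivisors A)) (B ⊗[A] K) :=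
        IsLocalization.tensor K (nonZeroDivisors A)
      have hK : Function.Injective ΨK := by
        rw [injective_iff_map_eq_zero]
        intro z hz
        obtain ⟨⟨b, ⟨_, a, ha, rfl⟩⟩, hb⟩ := IsLocalization.surj (Algebra.algebraMapSubmonoid B (nonZeroDivisors A)) z
        have hb0 : b = 0 := by
          have h := congrArg ΨK hb
          rw [map_mul, hz, zero_mul] at h
          have hbe : ΨK (algebraMap B (B ⊗[A] K) b) = algebraMap B L b := by
            show ΨK (b ⊗ₜ 1) = _
            rw [Algebra.TensorProduct.lift_tmul]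
            simp
          rw [hbe] at h
          exact IsFractionRing.injective B L (h.symm.trans (map_zero _).symm)
        rw [hb0, map_zero] at hb
        exact (IsUnit.mul_left_eq_zero (IsLocalization.map_units (B ⊗[A] K)
          (⟨_, a, ha, rfl⟩ : Algebra.algebraMapSubmonoid B (nonZeroDivisors A)))).1 hb
      haveI : IsScalarTower A R K := .of_algebraMap_eq fun _ => rfl
      have hlT : Function.Injective (LinearMap.lTensor B (IsScalarTower.toAlgHom A R K).toLinearMap) :=
        Module.Flat.lTensor_preserves_injective_linearMap _ Subtype.val_injective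
      have heq : ∀ z, Ψ z = ΨK (LinearMap.lTensor B (IsScalarTower.toAlgHom A R K).toLinearMap z) := fun z => by
        induction z using TensorProduct.induction_on with
        | zero => simp
        | tmul b r => rw [LinearMap.lTensor_tmul, Algebra.TensorProduct.lift_tmul, Algebra.TensorProduct.lift_tmul]; rfl
        | add x y hx hy => rw [map_add, map_add, map_add, hx, hy]
      intro z w h
      exact hlT (hK (by rw [← heq, ← heq, h]))
    have hkerQ : RingHom.ker m.π.toRingHom ≤ Q := by
      intro x hx
      haveI := hQ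
      refine mem_prime_of_eq_zero (B := B) M Ψ hΨ Q (hQC.le.trans hP0) ((D.val.restrictScalars A).comp (m.π.restrictScalars A))
        (fun r c => ?_) x ?_
      · show ((m.π (r ⊗ₜ[A] c) : D) : L) = _
        rw [m.π_tmul, Algebra.TensorProduct.lift_tmul, mul_comm]
        rfl
      · show ((m.π x : D) : L) = 0
        rw [show m.π x = 0 from hx]
        rfl
    haveI := hQ
    let P' : Ideal D := Q.map m.π.toRingHom
    haveI hP' : P'.IsPrime := Ideal.map_isPrime_of_surjective m.π_surjective hkerQ
    have hback : P'.comap m.π.toRingHom = Q := by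
      show (Q.map m.π.toRingHom).comap m.π.toRingHom = Q
      rw [Ideal.comap_map_of_surjective m.π.toRingHom m.π_surjective, ← RingHom.ker_eq_comap_bot, sup_eq_left.2 hkerQ]
    refine ⟨P', hP', ?_, ?_⟩
    · have hr : ∀ r : R, m.π (algebraMap R (R ⊗[A] C) r) = algebraMap R D r := fun r => m.π.commutes r
      rw [← hQR, ← hback]
      ext r
      show algebraMap R D r ∈ P' ↔ m.π (algebraMap R (R ⊗[A] C) r) ∈ P'
      rw [hr]
    · show DimFormula.fd A P0 ≤ DimFormula.fd R P'
      rw [← DimFormula.fd_comap_of_surjective R m.π m.π_surjective P']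
      simp only [hback]
      exact (DimFormula.le_fd_iff R Q _).2 ⟨_, hQt⟩

end Groth.Agent.FlatFibres
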