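import Mathlib.RingTheory.Valuation.LocalSubring
import Mathlib.Algebra.MvPolynomial.Funext
import Mathlib.FieldTheory.IsAlgClosed.AlgebraicClosure
import Mathlib.RingTheory.Valuation.ValuationRing

/-!
# Points of affine space over a valuation ring lifting a closed point of the special fibre
-/

set_option autoImplicit false
universe u

open MvPolynomial IsLocalRing

namespace Groth.Agent.FlatFibres

theorem isAlgClosed_residueField_valuationSubring {L : Type u} [Field L] [IsAlgClosed L] (O : ValuationSubring L) :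
    IsAlgClosed (ResidueField O) := by
  refine IsAlgClosed.of_exists_root _ fun f hf hirr => ?_
  obtain ⟨F, hF, hdeg, hFm⟩ := Polynomial.lifts_and_natDegree_eq_and_monic
    ((Polynomial.mem_lifts f).2 (Polynomial.map_surjective _ residue_surjective f)) hf
  have hd : F.natDegree ≠ 0 := by rw [hdeg]; exact hirr.natDegree_pos.ne'
  obtain ⟨x, hx⟩ := IsAlgClosed.exists_root (F.map (algebraMap O L)) (by
    rw [Polynomial.degree_eq_natDegree (hFm.map _).ne_zero, hFm.natDegree_map]
    exact_mod_cast hd)
  have hint : IsIntegral O x := ⟨F, hFm, by rw [← Polynomial.eval_map]; exact hx⟩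
  obtain ⟨a, rfl⟩ := IsIntegrallyClosed.isIntegral_iff.1 hint
  refine ⟨residue O a, ?_⟩
  rw [Polynomial.IsRoot.def, Polynomial.eval_map, Polynomial.eval₂_at_apply] at hx
  rw [← hF, Polynomial.eval_map, Polynomial.eval₂_at_apply,
    (IsFractionRing.injective O L) (hx.trans (map_zero _).symm), map_zero]

theorem exists_prime_le_avoiding {R : Type u} [CommRing R] [IsDomain R] [IsLocalRing R] (hR : ¬ IsField R) {n : ℕ}
    (P : Ideal (MvPolynomial (Fin n) R)) [P.IsPrime] (hP : P.comap (algebraMap R (MvPolynomial (Fin n) R)) = maximalIdeal R)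
    (halg : Algebra.IsIntegral R (MvPolynomial (Fin n) R ⧸ P))
    (G : MvPolynomial (Fin n) R) (hG : G ≠ 0) :
    ∃ y : Ideal (MvPolynomial (Fin n) R), y.IsPrime ∧ y ≤ P ∧ G ∉ y ∧
      y.comap (algebraMap R (MvPolynomial (Fin n) R)) = ⊥ ∧ Algebra.IsAlgebraic R (MvPolynomial (Fin n) R ⧸ y) := by
  let K := FractionRing R
  let Ω := AlgebraicClosure K
  let ι : R →+* Ω := algebraMap R Ω
  have hι : Function.Injective ι := by
    show Function.Injective (algebraMap R Ω)
    rw [IsScalarTower.algebraMap_eq R K Ω]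
    exact (algebraMap K Ω).injective.comp (IsFractionRing.injective R K)
  haveI : FaithfulSMul R Ω := (faithfulSMul_iff_algebraMap_injective R Ω).2 hι
  haveI : IsLocalRing ι.range := .of_surjective' ι.rangeRestrict ι.rangeRestrict_surjective
  obtain ⟨O, hO⟩ := (⟨ι.range⟩ : LocalSubring Ω).exists_le_valuationSubring
  let j : R →+* O := (Subring.inclusion hO.1).comp ι.rangeRestrict
  haveI : IsLocalHom (Subring.inclusion hO.1) := hO.2
  haveI : IsLocalHom j := by
    refine ⟨fun r hr => ?_⟩
    have h1 : IsUnit (ι.rangeRestrict r) := isUnit_of_map_unit (Subring.inclusion hO.1) _ hr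
    obtain ⟨⟨w, s, rfl⟩, hw⟩ := h1.exists_right_inv
    refine IsUnit.of_mul_eq_one s (hι ?_)
    rw [map_mul, map_one]
    exact congrArg Subtype.val hw
  letI : Algebra R O := j.toAlgebra
  haveI : IsScalarTower R O Ω := .of_algebraMap_eq fun r => rfl
  letI := (ResidueField.map j).toAlgebra
  haveI : IsScalarTower R (ResidueField R) (ResidueField O) := .of_algebraMap_eq fun r => rfl
  haveI := isAlgClosed_residueField_valuationSubring O
  -- the residue field of `P` is algebraic over that of `R`
  let k := ResidueField R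
  let Bk := MvPolynomial (Fin n) R ⧸ P
  have hker : ∀ a ∈ maximalIdeal R, algebraMap R Bk a = 0 := fun a ha => by
    rw [IsScalarTower.algebraMap_apply R (MvPolynomial (Fin n) R) Bk, Ideal.Quotient.algebraMap_eq,
      Ideal.Quotient.eq_zero_iff_mem]
    exact hP.ge ha
  letI : Algebra k Bk := (Ideal.Quotient.lift _ (algebraMap R Bk) hker).toAlgebra
  haveI : IsScalarTower R k Bk := .of_algebraMap_eq fun r => rfl
  haveI : Algebra.IsIntegral k Bk := ⟨fun x => (halg.isIntegral x).tower_top⟩
  haveI : Algebra.IsAlgebraic k Bk := Algebra.IsIntegral.isAlgebraic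
  let e : Bk →ₐ[k] ResidueField O := IsAlgClosed.lift
  have he : Function.Injective e := by
    have : IsField Bk := isField_of_isIntegral_of_isField' (R := k) (Field.toIsField k)
    letI := this.toField
    exact RingHom.injective (e : Bk →+* ResidueField O)
  choose a ha using fun i => residue_surjective (e (Ideal.Quotient.mk P (X i)))
  -- avoid `G`
  let G' : MvPolynomial (Fin n) Ω := MvPolynomial.map ι G
  have hG' : G' ≠ 0 := (map_ne_zero_iff _ (MvPolynomial.map_injective ι hι)).2 hG
  obtain ⟨π, hπm, hπ0⟩ := Submodule.exists_mem_ne_zero_of_ne_bot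
    (fun h => hR (IsLocalRing.isField_iff_maximalIdeal_eq.2 h))
  have hinf : ∀ i, ((fun c : R => (a i : Ω) + ι c) '' (maximalIdeal R : Set R)).Infinite := fun i => by
    refine Set.Infinite.image (fun c _ d _ h => hι (add_left_cancel h)) (Set.infinite_of_injective_forall_mem
      (f := fun m : ℕ => π ^ (m + 1)) (fun m₁ m₂ h => ?_) fun m => Ideal.pow_mem_of_mem _ hπm _ m.succ_pos)
    by_contra hne
    wlog hlt : m₁ < m₂ generalizing m₁ m₂
    · exact this m₂ m₁ h.symm (Ne.symm hne) (lt_of_le_of_ne (not_lt.1 hlt) (Ne.symm hne))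
    obtain ⟨d, rfl⟩ := Nat.exists_eq_add_of_lt hlt
    have h2 : π ^ (m₁ + 1) * π ^ (d + 1) = π ^ (m₁ + 1) * 1 := by
      rw [mul_one, ← pow_add]
      exact (congrArg (π ^ ·) (by omega : m₁ + 1 + (d + 1) = m₁ + d + 1 + 1)).trans h.symm
    exact (maximalIdeal R).ne_top_iff_one.1 (maximalIdeal.isMaximal R).ne_top
      ((mul_left_cancel₀ (pow_ne_zero _ hπ0) h2) ▸ Ideal.pow_mem_of_mem _ hπm _ d.succ_pos)
  obtain ⟨v, hv, hGv⟩ : ∃ v ∈ Set.pi Set.univ (fun i => (fun c : R => (a i : Ω) + ι c) '' (maximalIdeal R : Set R)),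
      eval v G' ≠ 0 := by
    by_contra h
    push Not at h
    exact hG' (MvPolynomial.funext_set _ hinf fun x hx => by rw [h x hx, map_zero])
  choose c hcm hc using fun i => hv i (Set.mem_univ i)
  let ψ : MvPolynomial (Fin n) R →ₐ[R] O := aeval fun i => a i + j (c i)
  let ev : MvPolynomial (Fin n) R →ₐ[R] Ω := (IsScalarTower.toAlgHom R O Ω).comp ψ
  have hev : ev = aeval v := by
    refine algHom_ext fun i => ?_
    simp only [ev, ψ, AlgHom.comp_apply, aeval_X, IsScalarTower.coe_toAlgHom']
    exact hc i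
  have hres : ((IsScalarTower.toAlgHom R O (ResidueField O)).comp ψ) =
      (e.restrictScalars R).comp (Ideal.Quotient.mkₐ R P) := by
    refine algHom_ext fun i => ?_
    simp only [ψ, AlgHom.comp_apply, aeval_X, IsScalarTower.coe_toAlgHom', AlgHom.coe_restrictScalars',
      Ideal.Quotient.mkₐ_eq_mk]
    rw [map_add, show algebraMap O (ResidueField O) = residue O from rfl, ha i,
      (residue_eq_zero_iff _).2 (show j (c i) ∈ maximalIdeal O from fun hu => hcm i (IsUnit.of_map j _ hu)), add_zero]
    rfl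
  refine ⟨RingHom.ker ev, RingHom.ker_isPrime _, fun f hf => ?_, ?_, ?_, ?_⟩
  · have h1 : ψ f = 0 := Subtype.val_injective hf
    have h2 := AlgHom.congr_fun hres f
    simp only [AlgHom.comp_apply, h1, map_zero, Ideal.Quotient.mkₐ_eq_mk, AlgHom.coe_restrictScalars'] at h2
    exact Ideal.Quotient.eq_zero_iff_mem.1 (he (h2.symm.trans (map_zero e).symm))
  · rw [RingHom.mem_ker, hev]
    intro h
    refine hGv ?_
    rw [eval_map, ← h]
    rfl
  · rw [eq_bot_iff]
    intro r hr
    exact hι ((ev.commutes r).symm.trans (hr.trans (map_zero ι).symm))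
  · haveI : Algebra.IsAlgebraic R Ω := by
      haveI : Algebra.IsAlgebraic R K := IsLocalization.isAlgebraic K (nonZeroDivisors R)
      exact Algebra.IsAlgebraic.trans R K Ω
    exact Algebra.IsAlgebraic.of_injective (Ideal.kerLiftAlg ev) (Ideal.kerLiftAlg_injective ev)

end Groth.Agent.FlatFibres
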