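import Groth.Agent.MorLib.WeightPositive
import Groth.Agent.H23.FFDescent
import Groth.Agent.LimMor.Chevalley
import Groth.Agent.ZCImage.Affine

/-!
For a positive weighting of a quasi-finite morphism from an affine scheme, the locus where the
fibre integral is maximal is affine.
-/

set_option autoImplicit false

universe u

open AlgebraicGeometry CategoryTheory Limits
open Groth.Agent.MorLib Groth.Agent.MorLib.WT
open Groth.Agent.MorLib.GF (pt)

namespace FlatFibres.WeightMax

variable {X Y : Scheme.{u}}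

lemma finite_fibres (f : X ⟶ Y) [LocallyQuasiFinite f] [QuasiCompact f] (y : Y) :
    (f ⁻¹' {y}).Finite :=
  f.finite_preimage_singleton y

lemma fibreIntegral_nonneg {f : X ⟶ Y} {w : X → ℤ} (hw : ∀ x, 0 < w x) (y : Y) :
    0 ≤ MoreMor.fibreIntegral f w y := by
  rw [MoreMor.fibreIntegral]
  exact finsum_nonneg fun u => mul_nonneg (hw _).le (Int.natCast_nonneg _)

lemma fibreIntegral_pos {f : X ⟶ Y} [LocallyQuasiFinite f] [QuasiCompact f] {w : X → ℤ}
    (hw : ∀ x, 0 < w x) {x : X} {y : Y} (hxy : f x = y) : 0 < MoreMor.fibreIntegral f w y := by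
  obtain ⟨Ω, _, _, yb, rfl⟩ := GF.exists_geomPoint y
  rw [GF.fibreIntegral_eq f w yb (finite_fibres f _), GF.geomSum]
  haveI := GF.finite_lifts f yb (finite_fibres f _)
  haveI := Fintype.ofFinite (Lifts f yb)
  rw [finsum_eq_sum_of_fintype]
  obtain ⟨δ, -⟩ := exists_lift_pt f yb x hxy
  exact Finset.sum_pos (fun δ _ => hw _) ⟨δ, Finset.mem_univ _⟩

lemma fibreIntegral_split {f : X ⟶ Y} [LocallyQuasiFinite f] [QuasiCompact f] (w : X → ℤ)
    {W R : X.Opens} (hR : (R : Set X) = (W : Set X)ᶜ) (y : Y) :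
    MoreMor.fibreIntegral f w y = fiOn f W w y + fiOn f R w y := by
  obtain ⟨Ω, _, _, yb, rfl⟩ := GF.exists_geomPoint y
  have hfin : ∀ O : X.Opens, ((O.ι ≫ f) ⁻¹' {pt yb}).Finite := fun O => by
    have : (O.ι ≫ f) ⁻¹' {pt yb} = O.ι ⁻¹' (f ⁻¹' {pt yb}) := by
      ext a; simp [Scheme.Hom.comp_apply]
    rw [this]
    exact (finite_fibres f _).preimage O.ι.isOpenEmbedding.injective.injOn
  rw [fiOn, fiOn, GF.fibreIntegral_eq f w yb (finite_fibres f _),
    GF.fibreIntegral_eq _ _ yb (hfin W), GF.fibreIntegral_eq _ _ yb (hfin R), geomSum_open,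
    geomSum_open, GF.geomSum]
  haveI := GF.finite_lifts f yb (finite_fibres f _)
  have e : {δ : Lifts f yb | pt δ.1 ∈ R} = {δ : Lifts f yb | pt δ.1 ∈ W}ᶜ := by
    ext δ
    exact Set.ext_iff.mp hR (pt δ.1)
  rw [e, ← finsum_mem_union disjoint_compl_right (Set.toFinite _) (Set.toFinite _),
    Set.union_compl_self, finsum_mem_univ]

/-- The statement proved by induction on the maximal value. -/
def AffineMax (d : ℕ) : Prop :=
  ∀ {X Y : Scheme.{u}} (f : X ⟶ Y) [IsAffine X] [Y.IsSeparated] [LocallyQuasiFinite f]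
    [LocallyOfFiniteType f] (w : X → ℤ), MoreMor.IsWeighting f w → (∀ x, 0 < w x) →
    (∀ y, MoreMor.fibreIntegral f w y ≤ d) → (0 < d ∨ IsAffine Y) →
    ∀ U : Y.Opens, (∀ y, y ∈ U ↔ MoreMor.fibreIntegral f w y = d) → IsAffineOpen U

set_option backward.isDefEq.respectTransparency.types false in
theorem surjective_step {d : ℕ} (IH : ∀ e, e < d → AffineMax.{u} e) {X Y : Scheme.{u}}
    (f : X ⟶ Y) [IsAffine X] [IsAffine Y] [Surjective f] [LocallyQuasiFinite f]
    [LocallyOfFiniteType f] (w : X → ℤ) (hw : MoreMor.IsWeighting f w) (hpos : ∀ x, 0 < w x)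
    (hmax : ∀ y, MoreMor.fibreIntegral f w y ≤ d) (U : Y.Opens)
    (hU : ∀ y, y ∈ U ↔ MoreMor.fibreIntegral f w y = d) : IsAffineOpen U := by
  haveI : IsAffineHom f := isAffineHom_of_isAffine f
  have key : ∀ y : Y, ∃ (V : Scheme.{u}) (h : V ⟶ Y), IsAffine V ∧ Etale h ∧ y ∈ Set.range h ∧
      IsAffineOpen (h ⁻¹ᵁ U) := by
    intro y
    obtain ⟨x, rfl⟩ := f.surjective y
    obtain ⟨V, g, W, t, hg, hW, -, rfl, -, hev⟩ := exists_const_piece hw x
    obtain ⟨N, hN, hNo, htN⟩ := mem_nhds_iff.mp hev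
    obtain ⟨O, hO, htO, hON⟩ :=
      exists_isAffineOpen_mem_and_subset (U := ⟨N, hNo⟩) (x := pullback.snd f g t) htN
    haveI : IsAffine (O : Scheme.{u}) := hO
    let T₀ := pullback.snd f g ⁻¹ᵁ O
    let π := pullback.snd f g ∣_ O
    let k := T₀.ι ≫ pullback.fst f g
    have hc : IsPullback k π f (O.ι ≫ g) :=
      (isPullback_morphismRestrict (pullback.snd f g) O).flip.paste_horiz
        (IsPullback.of_hasPullback f g)
    haveI : LocallyQuasiFinite π := MorphismProperty.of_isPullback hc inferInstance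
    haveI : LocallyOfFiniteType π := MorphismProperty.of_isPullback hc inferInstance
    haveI : IsAffineHom π := MorphismProperty.of_isPullback hc inferInstance
    haveI : IsAffine (T₀ : Scheme.{u}) := isAffine_of_isAffineHom π
    let W₀ := T₀.ι ⁻¹ᵁ W
    have hW₀ : IsFinite (W₀.ι ≫ π) :=
      MorphismProperty.of_isPullback ((isPullback_morphismRestrict T₀.ι W).paste_vert
        (isPullback_morphismRestrict (pullback.snd f g) O).flip) hW
    have hW₀c : IsClosed (W₀ : Set ↥(T₀ : Scheme.{u})) := isClosed_of_isFinite hW₀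
    let R : (T₀ : Scheme.{u}).Opens := ⟨(W₀ : Set ↥(T₀ : Scheme.{u}))ᶜ, hW₀c.isOpen_compl⟩
    have hRaff : IsAffineOpen R :=
      Groth.Agent.ZCImage.isAffineOpen_of_isClosed (isAffineOpen_top _) le_top
        (W₀.2.isClosed_compl)
    haveI : IsAffine (R : Scheme.{u}) := hRaff
    have hwk : MoreMor.IsWeighting π (w ∘ ⇑k) := isWeighting_baseChange hw hc
    have hwR := isWeighting_restrict hwk R
    set c := w (pullback.fst f g t)
    have hWc : ∀ a : ↥(O : Scheme.{u}), fiOn π W₀ (w ∘ ⇑k) a = c := by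
      intro a
      have h1 : fiOn (pullback.snd f g) W (w ∘ ⇑(pullback.fst f g)) (O.ι a) = c := hN (hON a.2)
      rw [← h1]
      have hsq : IsPullback (T₀.ι ∣_ W) (W₀.ι ≫ π) (W.ι ≫ pullback.snd f g) O.ι :=
        ((isPullback_morphismRestrict T₀.ι W).paste_vert
        (isPullback_morphismRestrict (pullback.snd f g) O).flip)
      haveI := hW
      rw [fiOn, fiOn, ← GF.fibreIntegral_baseChange hsq _ a (finite_fibres _ _)]
      congr 1
      funext b
      show w ((T₀.ι ≫ pullback.fst f g) (W₀.ι b)) = w (pullback.fst f g (W.ι ((T₀.ι ∣_ W) b)))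
      rw [← Scheme.Hom.comp_apply, ← Scheme.Hom.comp_apply, ← Scheme.Hom.comp_apply,
        morphismRestrict_ι_assoc]
    have htot : ∀ a, MoreMor.fibreIntegral π (w ∘ ⇑k) a =
        MoreMor.fibreIntegral f w ((O.ι ≫ g) a) := fun a =>
      GF.fibreIntegral_baseChange hc w a (finite_fibres f _)
    have hsplit : ∀ a, MoreMor.fibreIntegral f w ((O.ι ≫ g) a) =
        c + fiOn π R (w ∘ ⇑k) a := fun a => by
      rw [← htot, fibreIntegral_split (w ∘ ⇑k) (W := W₀) (R := R) rfl, hWc]
    have hcpos : 0 < c := hpos _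
    have hnn : ∀ a, 0 ≤ fiOn π R (w ∘ ⇑k) a := fun a => fibreIntegral_nonneg (fun b => hpos _) a
    have hcd : c ≤ d := by
      have h1 := hsplit ⟨pullback.snd f g t, htO⟩
      have h2 := hnn ⟨pullback.snd f g t, htO⟩
      have h3 := hmax ((O.ι ≫ g) ⟨pullback.snd f g t, htO⟩)
      omega
    refine ⟨O, O.ι ≫ g, inferInstance, inferInstance, ⟨⟨pullback.snd f g t, htO⟩, ?_⟩, ?_⟩
    · show g (pullback.snd f g t) = f (pullback.fst f g t)
      rw [← Scheme.Hom.comp_apply, ← Scheme.Hom.comp_apply, pullback.condition]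
    refine IH ((d - c).toNat) (by omega) (R.ι ≫ π) _ hwR (fun a => hpos _) (fun a => ?_)
      (Or.inr inferInstance) _ fun a => ?_
    · have h1 := hsplit a
      have h2 := hmax ((O.ι ≫ g) a)
      show fiOn π R (w ∘ ⇑k) a ≤ _
      omega
    · show (O.ι ≫ g) a ∈ U ↔ fiOn π R (w ∘ ⇑k) a = _
      rw [hU, hsplit]
      omega
  choose V h hV he hy haff using key
  let O : Y → Y.Opens := fun y => ⟨Set.range (h y), (h y).isOpenMap.isOpen_range⟩
  have hOcov : ∀ y, y ∈ O y := hy
  obtain ⟨F, hF⟩ := isCompact_univ.elim_finite_subcover (fun y => (O y : Set Y))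
    (fun y => (O y).2) fun y _ => Set.mem_iUnion.mpr ⟨y, hOcov y⟩
  have hUc : IsCompact (U : Set Y) := by
    have : (U : Set Y) = ⋃ y ∈ F, h y '' (h y ⁻¹' (U : Set Y)) := by
      ext z
      refine ⟨fun hz => ?_, fun hz => ?_⟩
      · obtain ⟨y, hyF, v, rfl⟩ := Set.mem_iUnion₂.mp (hF (Set.mem_univ z))
        exact Set.mem_iUnion₂.mpr ⟨y, hyF, v, hz, rfl⟩
      · obtain ⟨y, hyF, v, hv, rfl⟩ := Set.mem_iUnion₂.mp hz
        exact hv
    rw [this]
    exact F.isCompact_biUnion fun y _ => (haff y).isCompact.image (h y).continuous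
  haveI : CompactSpace ↥(U : Scheme.{u}) := isCompact_iff_compactSpace.mp hUc
  haveI : QuasiCompact U.ι := (quasiCompact_iff_compactSpace U.ι).mpr inferInstance
  haveI : IsAffineHom U.ι := by
    rw [IsZariskiLocalAtTarget.iff_of_iSup_eq_top (P := @IsAffineHom) O
      (eq_top_iff.mpr fun y _ => TopologicalSpace.Opens.mem_iSup.mpr ⟨y, hOcov y⟩)]
    intro y
    haveI := hV y
    haveI := he y
    let l := IsOpenImmersion.lift (O y).ι (h y) (by rw [Scheme.Opens.range_ι]; exact subset_rfl)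
    have hl : l ≫ (O y).ι = h y := IsOpenImmersion.lift_fac ..
    haveI : Etale (l ≫ (O y).ι) := by rw [hl]; infer_instance
    haveI : Etale l := Etale.of_comp l (O y).ι
    haveI : Surjective l := ⟨fun ⟨z, v, hv⟩ => ⟨v, (O y).ι.isOpenEmbedding.injective
      (by rw [← Scheme.Hom.comp_apply, hl]; exact hv)⟩⟩
    haveI : QuasiCompact (U.ι ∣_ O y) := MorphismProperty.of_isPullback
      (isPullback_morphismRestrict U.ι (O y)).flip inferInstance
    haveI : QuasiSeparated (U.ι ∣_ O y) := MorphismProperty.of_isPullback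
      (isPullback_morphismRestrict U.ι (O y)).flip inferInstance
    haveI : IsAffineHom (pullback.snd (U.ι ∣_ O y) l) := by
      have hsq : IsPullback (pullback.fst (U.ι ∣_ O y) l ≫ (U.ι ⁻¹ᵁ O y).ι)
          (pullback.snd (U.ι ∣_ O y) l) U.ι (h y) := by
        rw [← hl]
        exact (IsPullback.of_hasPullback _ _).paste_horiz (isPullback_morphismRestrict U.ι (O y)).flip
      have hc2 := (isPullback_morphismRestrict (h y) U).flip
      have e := hsq.isoIsPullback_hom_snd _ _ hc2.flip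
      rw [← e]
      haveI : IsAffine (h y ⁻¹ᵁ U : (V y).Opens).toScheme := haff y
      haveI : IsAffineHom (h y ⁻¹ᵁ U).ι := isAffineHom_of_isAffine _
      infer_instance
    exact Groth.Agent.H23.FFDescent.isAffineHom_of_baseChange (U.ι ∣_ O y) l
  exact isAffine_of_isAffineHom U.ι

set_option backward.isDefEq.respectTransparency.types false in
theorem affineMax (d : ℕ) : AffineMax.{u} d := by
  induction d using Nat.strongRecOn with
  | _ d IH =>
  intro X Y f _ _ _ _ w hw hpos hmax hd U hU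
  rcases Nat.eq_zero_or_pos d with rfl | hd0
  · have hY : IsAffine Y := hd.resolve_left (lt_irrefl 0)
    have : U = ⊤ := top_unique fun y _ => (hU y).mpr
      (le_antisymm (hmax y) (fibreIntegral_nonneg hpos y))
    rw [this]
    exact isAffineOpen_top Y
  haveI : IsAffineHom (f ≫ terminal.from Y) := by
    rw [terminal.comp_from]; exact isAffineHom_of_isAffine _
  haveI : IsAffineHom f := IsAffineHom.of_comp f (terminal.from Y)
  haveI : IsAffine (pullback f f) := isAffine_of_isAffineHom (pullback.snd f f)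
  haveI : Surjective (pullback.snd f f) :=
    ⟨fun x => ⟨pullback.lift (𝟙 X) (𝟙 X) rfl x, by
      rw [← Scheme.Hom.comp_apply, pullback.lift_snd]; rfl⟩⟩
  have hc := IsPullback.of_hasPullback f f
  have hV : IsAffineOpen (f ⁻¹ᵁ U) := by
    refine surjective_step IH (pullback.snd f f) _ (isWeighting_baseChange hw hc) (fun _ => hpos _)
      (fun x => ?_) _ fun x => ?_
    · rw [GF.fibreIntegral_baseChange hc w x (finite_fibres f _)]; exact hmax _
    · rw [GF.fibreIntegral_baseChange hc w x (finite_fibres f _)]; exact hU _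
  obtain ⟨hYd, hfin⟩ := finite_over_max (finite_fibres f) hw hpos (d : ℤ) hmax
  have hUeq : U = ⟨{y : ↑Y | MoreMor.fibreIntegral f w y = (d : ℤ)}, hYd⟩ :=
    TopologicalSpace.Opens.ext (Set.ext hU)
  haveI : IsFinite (f ∣_ U) := by rw [hUeq]; exact hfin
  haveI : Surjective (f ∣_ U) := by
    refine ⟨fun y => ?_⟩
    by_contra hcon
    push_neg at hcon
    have hne : f ⁻¹' {y.1} = ∅ := by
      ext x
      simp only [Set.mem_preimage, Set.mem_singleton_iff, Set.mem_empty_iff_false, iff_false]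
      intro hx
      exact hcon ⟨x, show f x ∈ U from hx ▸ y.2⟩ (U.ι.isOpenEmbedding.injective (by
        rw [← Scheme.Hom.comp_apply, morphismRestrict_ι]; exact hx))
    have h0 : MoreMor.fibreIntegral f w y.1 = 0 := by
      haveI : IsEmpty {u : X // f u = y.1} :=
        ⟨fun u => Set.eq_empty_iff_forall_notMem.mp hne u.1 u.2⟩
      rw [MoreMor.fibreIntegral]
      exact finsum_of_isEmpty _
    have := ((hU y.1).mp y.2).symm.trans h0
    omega
  haveI : IsAffine (f ⁻¹ᵁ U : X.Opens).toScheme := hV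
  exact Groth.Agent.LimMor.isAffine_of_surjective_universallyClosed (f ∣_ U)

/-- Helper: an integer version. -/
theorem isAffineOpen_max (f : X ⟶ Y) [IsAffine X] [Y.IsSeparated] [LocallyQuasiFinite f]
    [LocallyOfFiniteType f] (w : X → ℤ) (hw : MoreMor.IsWeighting f w) (hpos : ∀ x, 0 < w x)
    (d : ℤ) (hmax : ∀ y, MoreMor.fibreIntegral f w y ≤ d)
    (hd : 0 < d ∨ (IsAffine Y ∧ ∃ y, MoreMor.fibreIntegral f w y = d))
    (U : Y.Opens) (hU : ∀ y, y ∈ U ↔ MoreMor.fibreIntegral f w y = d) : IsAffineOpen U := by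
  have hd0 : 0 ≤ d := by
    rcases hd with hd | ⟨-, y, rfl⟩
    · exact hd.le
    · exact fibreIntegral_nonneg hpos y
  obtain ⟨n, rfl⟩ := Int.eq_ofNat_of_zero_le hd0
  refine affineMax n f w hw hpos hmax ?_ U hU
  rcases hd with hd | ⟨hY, -⟩
  · left; omega
  · exact Or.inr hY

end FlatFibres.WeightMax
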